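import Mathlib
import Cfsg.Agent.R3.A2a
import Cfsg.Agent.X32.K1A

/-! The subgroup `2^(1+4).S₃` of `2³·L₃(2)` as a table group. -/

set_option autoImplicit false
set_option linter.unusedSectionVars false
set_option linter.unusedVariables false
set_option maxRecDepth 100000
set_option synthInstance.maxHeartbeats 400000
set_option synthInstance.maxSize 4000

namespace Cfsg.Agent.R3.A2

open Subgroup Cfsg Cfsg.Agent.PLocal.Amb Cfsg.Agent.Comp Cfsg.Agent.LES Cfsg.Agent.X32 Cfsg.Agent.X32.TG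
open scoped commutatorElement

variable {G : Type*} [Group G] [Finite G]

theorem sat1 {s x y a c : G} {Q : Subgroup G} (h : XD s x Q) (ha : Pos s x Q a) (hc : Pos s x Q c)
    (cw : ∀ u v, XD.Orb x a u → XD.Orb x c v → Commute v u) (hy : y * x * y⁻¹ = x⁻¹) (y2 : y * y = 1)
    (e1 : y * a⁻¹ * y⁻¹ = x * a * x⁻¹) (e2 : y * c⁻¹ * y⁻¹ = x * c * x⁻¹) :
    BN.Sat X32.P1 (tup [a, a⁻¹, x * a * x⁻¹, (x * a * x⁻¹)⁻¹, c, c⁻¹, x * c * x⁻¹, (x * c * x⁻¹)⁻¹,
      x, x⁻¹, y]) := by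
  obtain ⟨-, ⟨-, b2, -⟩, aba⟩ := h.pos_x ha
  obtain ⟨-, ⟨-, d2, -⟩, cdc⟩ := h.pos_x hc
  have ca := cw _ _ (Or.inl rfl) (Or.inl rfl)
  have cb := cw _ _ (Or.inr (Or.inl rfl)) (Or.inl rfl)
  have da := cw _ _ (Or.inl rfl) (Or.inr (Or.inl rfl))
  have db := cw _ _ (Or.inr (Or.inl rfl)) (Or.inr (Or.inl rfl))
  obtain ⟨-, a2, xb⟩ := ha
  obtain ⟨-, c2, xd⟩ := hc
  generalize eb : x * a * x⁻¹ = b at *
  generalize ed : x * c * x⁻¹ = d at *
  have k1 : ∀ u v : G, u * u = s → v * v = s → u * (u * (v⁻¹ * (v⁻¹ * 1))) = 1 := fun u v p q => by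
    rw [← mul_assoc, p, ← q]; group
  have k2 : ∀ u v : G, u * v * u = v → u * (v * (u * (v⁻¹ * 1))) = 1 := fun u v p => by
    rw [← mul_assoc, ← mul_assoc, p]; group
  have k3 : ∀ u v : G, Commute v u → u⁻¹ * (v⁻¹ * (u * (v * 1))) = 1 := fun u v p => by
    rw [mul_one, ← p.eq]; group
  have k4 : ∀ u v : G, x * u * x⁻¹ = v → x * (u * (x⁻¹ * v⁻¹)) = 1 := fun u v p => by
    rw [← p]; group
  have k5 : ∀ u v : G, y * u⁻¹ * y⁻¹ = v → y * (u * (y⁻¹ * (v * 1))) = 1 := fun u v p => by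
    rw [← p]; group
  have k6 : y * (x * (y⁻¹ * (x * 1))) = 1 := by rw [← mul_assoc, ← mul_assoc, hy]; group
  rw [inv_eq_of_sq y2] at k5 k6 e1 e2
  refine sat_tup (show 11 ≤ 11 from le_rfl) (fun k hk => ?_) (BN.AllP.forall ⟨k1 a b a2 b2, k2 a b aba,
    k1 c d c2 d2, k2 c d cdc, k1 a c a2 c2,
    show a * (a * (a * (a * 1))) = 1 by rw [mul_one, ← mul_assoc, a2, h.s2], k3 _ _ ca, k3 _ _ da,
    k3 _ _ cb, k3 _ _ db, show x * (x * (x * 1)) = 1 by rw [mul_one, ← mul_assoc, h.x3],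
    by simpa [tup] using k4 _ _ eb, by simpa [tup] using k4 _ _ xb, by simpa [tup] using k4 _ _ ed,
    by simpa [tup] using k4 _ _ xd, k6, k5 _ _ e1, k5 _ _ e2, trivial⟩)
  rw [List.mem_range, show X32.P1.inv.length = 11 from rfl] at hk
  interval_cases k <;> first | exact inv_mul_cancel _ | exact mul_inv_cancel _ | exact y2

noncomputable def Q1 : Subgroup K1 :=
  sub (nat_lit 0x30000000000000c000033c00000181e07f1ff) (BD.of (by decide +kernel))

instance memQ1 (k : K1) {b : Bool} [BD (Mem (nat_lit 0x30000000000000c000033c00000181e07f1ff) k) b] :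
    BD (k ∈ Q1) b := ⟨BD.h (p := Mem _ k)⟩

/-- words for the elements of `Q1` -/
noncomputable def tabQ : ℕ := nat_lit 0x711000008d1000000000000000000000000000000000000000000000000000000000000000000000000000000000000000000000000000000000000000000000000000000000000000000000000000000000000000000000000000000000000000000000000000000000000000000000000000000000000000000000000000000000000000000000000000000000000000000000000000000000000000000000000000000000000000000000000000000000000000000000000000000000000000000000000000000000000000000000000000000000000011a000000e2000000000000000000000000000000000000000000000000000000000000000000000000000000000000000000000000000000000000000000000000000000000000000000000000000000000000000000000119000000e10000000000000000000001110000010a000000d1000000ca00000000000000000000000000000000000000000000000000000000000000000000000000000000000000000000000000000000000000000000000000000000000000000000000000000000000000000000000000000000000000000000000000000000000000230000001c0000000000000000000000000000000000000000000000000000088900000022000006890000001a00000000000000000000000000000000000000000000000000000849000000210000064900000019000000110000000a000000090000000000000000000000000000010900000004000000c9000000030000008900000002000000490000000100000000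

theorem th_Q : ∀ k ∈ Q1, th tabQ (es [1, 3, 5, 7]) k = k := BD.of (by decide +kernel)

theorem Q1_le {φ : K1 →* G} {L : Subgroup G} (h1 : φ (e 1) ∈ L) (h3 : φ (e 3) ∈ L) (h5 : φ (e 5) ∈ L)
    (h7 : φ (e 7) ∈ L) : Q1.map φ ≤ L := map_le_iff_le_comap.2 fun k hk => by
  rw [← th_Q k hk]
  refine BN.ev_mem (fun i => ?_) _
  match i with
  | 0 => exact h1
  | 1 => exact h3
  | 2 => exact h5
  | 3 => exact h7
  | i + 4 => exact one_mem _

variable {V U : Subgroup G} {z ρ t : G}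

theorem not_swap (rk : Rk3 G) (h : YD V U z ρ t) {a c : G} (ha : Pos z ρ U a) (hc : Pos z ρ U c)
    (cw : ∀ u v, XD.Orb ρ a u → XD.Orb ρ c v → Commute v u) (e1 : t * a⁻¹ * t⁻¹ = ρ * c * ρ⁻¹)
    (e2 : t * c⁻¹ * t⁻¹ = ρ * a * ρ⁻¹) : False := by
  have hx := h.xd
  have o1 : ∀ a, XD.Orb ρ a a := fun a => Or.inl rfl
  have o2 : ∀ a, XD.Orb ρ a (ρ * a * ρ⁻¹) := fun a => Or.inr (Or.inl rfl)
  have sq : ∀ u v, XD.Orb ρ a u → XD.Orb ρ c v → u * v⁻¹ * (u * v⁻¹) = 1 := fun u v p q => by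
    rw [mul_assoc, ← mul_assoc v⁻¹, (cw u v p q).inv_left.eq, ← mul_assoc, ← mul_assoc, (p.pos hx ha).2.1,
      mul_assoc, ← mul_inv_rev, (q.pos hx hc).2.1, mul_inv_cancel]
  have hb := hx.pos_x ha
  have s1 := sq _ _ (o1 a) (o2 c)
  have s2 := sq _ _ (o2 a) (o1 c)
  have s3 := sq _ _ (Or.inr (Or.inr rfl)) (Or.inr (Or.inr rfl))
  have c1 := cw _ _ (o1 a) (o1 c)
  have c2 := cw _ _ (o1 a) (o2 c)
  have c3 := cw _ _ (o2 a) (o1 c)
  have c4 := cw _ _ (o2 a) (o2 c)
  have hd := hx.nrm _ hc.1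
  rw [ha.2.2, hc.2.2] at s3
  generalize ρ * a * ρ⁻¹ = b at *
  generalize ρ * c * ρ⁻¹ = d at *
  have t1 : ∀ u v, t * u⁻¹ * t⁻¹ = v → Commute v u → Commute (u * v⁻¹) t := fun u v p q => by
    rw [inv_eq_of_sq h.t2] at p
    have p' : v⁻¹ = t * u * t := by rw [← p]; simp [inv_eq_of_sq h.t2, mul_assoc]
    change _ = _
    nth_rw 2 [← q.inv_left.eq]
    simp [p', mul_assoc, h.t2, ← mul_assoc t t]
  have zp := hx.es.central _ (mul_mem ha.1 (inv_mem hd))
  have zq := hx.es.central _ (mul_mem hb.2.1.1 (inv_mem hc.1))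
  have pq : a * d⁻¹ * (b * c⁻¹) = b * c⁻¹ * (a * d⁻¹) := comm_of_sq s1 s2 (by
    rwa [mul_assoc a, ← mul_assoc d⁻¹, c4.inv_left.eq, mul_assoc b, ← mul_assoc a, ← mul_inv_rev])
  have n1 : ¬ Commute a b := fun e => hx.s1 (hb.1.symm.trans (commutatorElement_eq_one_iff_commute.2 e))
  have m1 : a * d⁻¹ ∉ P1 z := fun e => n1 (by
    simpa using (hx.es.commute_of_mem hb.2.1.1 e).symm.mul_left c4)
  have m2 : b * c⁻¹ ∉ P2 z (a * d⁻¹) := fun e => n1 (by
    have : Commute (b * c⁻¹) a := P2_cent (hx.es.central _ ha.1).eq.symm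
      ((Commute.refl a).mul_left c2.inv_left).eq _ e
    simpa using (this.mul_left c1).symm)
  have hP := ex2_P2 hx.s2 s1 zp.eq.symm
  have hc' := P2_cent zq.eq.symm pq
  refine h.tn (ad_le (P2_le hx.es.mem (mul_mem ha.1 (inv_mem hd))) (mul_mem hb.2.1.1 (inv_mem hc.1))
    (rk.mem (hP.ad s2 hc') ?_ h.t2 (ad_cent (P2_cent h.tz.eq.symm (t1 _ _ e1 c2)) ?_)))
  · rw [card_ad (norm_of_cent hc') (s2 ▸ one_mem _) m2, card_P2 ⟨hx.s1, hx.s2⟩ s1 zp.eq.symm m1]
  · simpa using (t1 _ _ e2 c3.symm).inv_left.eq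

theorem exists_phi (rk : Rk3 G) (hV : Ex2 V) (h8 : Nat.card V = 8) (h : YD V U z ρ t) :
    ∃ φ : K1 →* G, Function.Injective φ ∧ φ (e 12) = z ∧ φ (e 9) = ρ ∧ φ (e 11) = t ∧
      Q1.map φ = U ∧ E1.map φ = V := by
  have hx := h.xd
  obtain ⟨a, c, ha, hc, cw, ⟨e1, e2⟩ | ⟨e1, e2⟩⟩ := hx.exists_gens h.c32 h.tρ h.tz
    (fun q => conj_mem_of_mem_normalizer h.tU) (Or.inl h.t2)
  swap
  · exact (not_swap rk h ha hc cw e1 e2).elim
  obtain ⟨φ, hφ⟩ := link_hom link1 (sat1 hx ha hc cw h.tρ h.t2 e1 e2)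
  have k : ∀ (i : ℕ) {k : K1}, BN.ev (tup (es [1, 2, 3, 4, 5, 6, 7, 8, 9, 10, 11])) [i] = k → φ k = _ :=
    fun i k e => (e ▸ hφ [i]).trans (mul_one _)
  have p1 : φ (e 1) = a := k 0 (BD.of (by decide +kernel))
  have p3 : φ (e 3) = ρ * a * ρ⁻¹ := k 2 (BD.of (by decide +kernel))
  have p5 : φ (e 5) = c := k 4 (BD.of (by decide +kernel))
  have p7 : φ (e 7) = ρ * c * ρ⁻¹ := k 6 (BD.of (by decide +kernel))
  have pz : φ (e 12) = z := by
    rw [← (BD.of (by decide +kernel) : (e 1 * e 1 : K1) = e 12), map_mul, p1, ha.2.1]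
  have inj : Function.Injective φ := (injective_iff_map_eq_one φ).2 fun k a => by
    rcases (BD.of (by decide +kernel) : ∀ k : K1, k = 1 ∨ k = e 12 ∨ ∃ c ∈ es [1, 3, 5, 7],
      c * k * c⁻¹ * k⁻¹ = e 12 ∨ ∃ d ∈ es [1, 3, 5, 7], d * (c * k * c⁻¹ * k⁻¹) * d⁻¹ *
        (c * k * c⁻¹ * k⁻¹)⁻¹ = e 12) k with b | rfl | ⟨c, -, b | ⟨d, -, b⟩⟩
    · exact b
    · exact absurd (pz.symm.trans a) hx.s1
    · exact absurd (by rw [← pz, ← b]; simp [a]) hx.s1
    · exact absurd (by rw [← pz, ← b]; simp [a]) hx.s1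
  have eU : Q1.map φ = U := eq_of_le_of_card_ge (Q1_le (p1 ▸ ha.1) (p3 ▸ hx.nrm _ ha.1) (p5 ▸ hc.1)
    (p7 ▸ hx.nrm _ hc.1)) (by
      rw [h.c32, card_map_of_injective inj, card_sub (· ∈ Q1) fun _ => Iff.rfl]; decide +kernel)
  have nV : ∀ g, φ g ∈ 𝐍[V] := fun g => by
    obtain ⟨W, rfl⟩ := (BN.mem_gen_iff link1.sat.inv g).1 (link1.top ▸ mem_top g)
    rw [hφ]
    have := h.UV ha.1
    have := h.UV hc.1
    have := h.ρV
    have := h.tV
    refine BN.ev_mem (fun i => ?_) _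
    rcases lt_or_ge i 11 with b | b
    · interval_cases i <;> simp only [tup, List.getD_cons_zero, List.getD_cons_succ] <;>
        apply_rules [mul_mem, inv_mem]
    · rw [tup, List.getD_eq_default _ _ b]; exact one_mem _
  refine ⟨φ, inj, pz, k 8 (BD.of (by decide +kernel)), k 10 (BD.of (by decide +kernel)), eU,
    (eq_of_le_of_card_ge (fun v hv => ?_) ?_).symm⟩
  · obtain ⟨k, -, rfl⟩ := eU.ge (h.VU hv)
    refine ⟨k, (BD.of (by decide +kernel) : ∀ k : K1, k * k = 1 → (∀ g, Commute k (g * k * g⁻¹)) →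
      k ∈ E1) k (inj (by simpa using hV _ hv)) fun g => inj ?_, rfl⟩
    simpa using hV.comm hv (conj_mem_of_mem_normalizer (nV g) hv)
  · rw [h8, card_map_of_injective inj, card_sub (· ∈ E1) fun _ => Iff.rfl]; decide +kernel

end Cfsg.Agent.R3.A2
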