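import Cfsg.Agent.R3.McLD

set_option autoImplicit false
set_option Elab.async false
set_option maxRecDepth 4096

namespace Cfsg.Agent.R3.McL

open Cfsg.Agent.Comp

noncomputable def F_kills : List (List ℕ) :=
  [[3, 0, 2, 0, 3, 0], [0, 3, 27, 5, 0, 3, 0], [0, 3, 27, 5, 0, 3, 0], [2, 15, 0, 3, 7, 3, 0, 3, 0], [0, 3, 11, 4, 0, 3, 0], [0, 3, 11, 4, 0, 3, 0], [3, 11, 0, 9, 0, 3, 0], [3, 8, 0, 9, 7, 0, 3, 0]]

noncomputable def F_goods : List (List ℕ × List ℕ × ℕ) :=
  [([0], [1, 4, 0, 10, 10, 16, 25, 16, 32, 38], 2), ([0, 2, 1], [27, 7, 26, 13, 17, 20, 22, 34, 32, 39], 2)]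

noncomputable def D1 : ℕ :=
  nat_lit 0x5c15e075f1311180812dac211a00a0909c72064266a5517ef20a96997c697a4015334

noncomputable def sig : List ℕ :=
  [88]

theorem Z_ok : and' (allL Z_Ms (invAll ns (sTop A_S2))) (and' (centB 512 9 ns 275 (sTop A_S2) Z_Ms Z_es 0) (allL Jsg fun s => suppW 512 9 ns s 275)) = true :=
  by decide +kernel

theorem F_ok : ∀ s ∈ Jsg, ∀ u ∈ cands Z_es, or' (finB 512 9 ns 275 0 1 (A_d1.D ns) 1048575 Z_Ms (sTop A_S1) F_kills F_goods (appendR s u)) (finB 512 9 ns 275 0 1 (A_d1.D ns) 1048575 Z_Ms (sTop A_S1) F_kills F_goods (appendR (invW sig) (appendR (appendR s u) sig))) = true :=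
  fun s hs => forall_mem_of_allL (forall_mem_of_allL (p := fun s => allL (cands Z_es) fun u => or' (finB 512 9 ns 275 0 1 (A_d1.D ns) 1048575 Z_Ms (sTop A_S1) F_kills F_goods (appendR s u)) (finB 512 9 ns 275 0 1 (A_d1.D ns) 1048575 Z_Ms (sTop A_S1) F_kills F_goods (appendR (invW sig) (appendR (appendR s u) sig)))) (by decide +kernel) s hs)

theorem KG : Known ns (gen ns [[0], [2]]) 1048575 :=
  kn_1

noncomputable def sig_vs : List (List ℕ) :=
  [[8, 7, 24, 8, 24, 14, 20, 27, 24, 31], [31, 2, 10, 21, 8, 27, 24, 30], [8, 4, 14, 10, 15, 27], [1, 19, 13, 14, 20, 27, 30], [9], [31, 9, 18, 20, 26, 24, 30], [12], [31, 9, 19, 14, 20, 27, 30], [14, 8, 21, 15, 26], [14, 10, 18, 20, 24], [14, 10, 15, 20, 30], [13, 24, 14, 20, 31], [12, 8, 18, 14, 20, 24], [16, 10, 21, 15, 20, 27, 31], [12, 8, 17, 20, 26, 24, 30], [9, 24, 14, 20, 27, 31]]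

theorem sig_ok : and' (and' (suppW 512 9 ns sig 275) (normB 512 9 ns [sig] (sTop A_S1) sig_vs)) (and' (mapsW ns sig 0 0) (mapsW ns sig 1 1)) = true :=
  by decide +kernel

noncomputable def U_C3 : List Lvl :=
  []

noncomputable def U_ss2 : List (List ℕ) :=
  [[112], [114]]

noncomputable def U_D2 : ℕ :=
  nat_lit 0x2000000000000800040200008000008000400000000000020000000000000008

noncomputable def U_l2 : Lvl :=
  ⟨3, [[112], [114]],
  tabA [(118, 768), (203, 769), (177, 770), (253, 771), (65, 30210), (186, 30211), (135, 51970), (159, 51971)], 2⟩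

noncomputable def U_C2 : List Lvl :=
  U_l2 :: U_C3

noncomputable def U_ss1 : List (List ℕ) :=
  [[104], [106], [108], [110]]

noncomputable def U_D1 : ℕ :=
  nat_lit 0x2800800800060100400000004000400001800808002400001001040180811000842

noncomputable def U_l1 : Lvl :=
  ⟨1, [[104], [106], [108], [110], [116], [112], [114]],
  tabC 17 131071 [nat_lit 0x84030000000000000000000000182400000000000000000000000000000000000000010642040000000000000000000000000000000082800000000000000000000000005e0900000000000005e00000000000000000000000000000000000000000000000000000030280000000000000000004040000000000000000000000000,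
 nat_lit 0x3018000000000000000000000000000000301000000000000000000000000000000000000000000000000000000004600000000000041000000000000000000000000000000000000000000000000000000000000000000000000000000000000000000ef000000000000000000000000000000000000,
 nat_lit 0x210140000000000000000000000000000000000000000000000000000000000000001780800000000000000000000000000000000000000000000000000000000000000000000000000000000000000000010042010000000000000,
 nat_lit 0x11808000000000000000000000000000000000000000000000042020000000000000000000000000000000000000000000000000000000000000000000008c0a0e00000000000000000000000000000000000001070000000000000000000000000000000000000001810000000000000000000000000000000000000000000,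
 nat_lit 0xc1000000084800000000000000000000000000000], 3⟩

noncomputable def U_C1 : List Lvl :=
  U_l1 :: U_C2

noncomputable def U_ss0 : List (List ℕ) :=
  [[98], [100], [102]]

noncomputable def U_D0 : ℕ :=
  nat_lit 0x20000000000000000000000000000000000800100000000

noncomputable def U_l0 : Lvl :=
  ⟨32, [[98], [100], [102], [104], [106], [108], [110], [116], [112], [114]],
  tabA [(185, 8192), (47, 8193)], 1⟩

noncomputable def U_C0 : List Lvl :=
  U_l0 :: U_C1

theorem U_ver3 : Ver ns U_C3 1 :=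
  ver_nil _

theorem U_le2 : gen ns U_l2.ws ≤ gen ns U_ss2 :=
  gen_le_step ctx (tgt := [])
  (es := []) (le_refl (gen _ [])) (by decide +kernel)

theorem U_lv2 : chkLvl 512 ns U_l2 U_C3 U_D2 2 = true :=
  by decide +kernel

theorem U_pt2_0 : AllIn (PtOK 512 ns U_l2 U_C3 U_ss2 U_D2) 0 512 :=
  ptOK_of_chkPts ctx U_ver3 (a := 0) (n := 8) (by decide +kernel)

theorem U_st2 : IsStab 512 (gen ns U_l2.ws) (cgrp ns U_C3) U_l2.b U_D2 :=
  isStab_plain ctx U_le2 U_lv2 (by norm_num) U_pt2_0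

theorem U_ver2 : Ver ns U_C2 9 :=
  U_ver3.cons ctx U_st2 (by decide +kernel)

theorem U_le1 : gen ns U_l1.ws ≤ gen ns U_ss1 :=
  gen_le_step ctx (tgt := [[112], [114], [116]])
  (es := [([112], [4, 3, 5, 6, 4, 6, 6, 6, 5, 6]), ([114], [3, 4, 9, 5, 5, 9, 3, 3]), ([116], [8, 7, 11, 6, 10, 8, 6])]) U_le2 (by decide +kernel)

theorem U_lv1 : chkLvl 512 ns U_l1 U_C2 U_D1 2 = true :=
  by decide +kernel

theorem U_pt1_0 : AllIn (PtOK 512 ns U_l1 U_C2 U_ss1 U_D1) 0 512 :=
  ptOK_of_chkPts ctx U_ver2 (a := 0) (n := 8) (by decide +kernel)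

theorem U_st1 : IsStab 512 (gen ns U_l1.ws) (cgrp ns U_C2) U_l1.b U_D1 :=
  isStab_plain ctx U_le1 U_lv1 (by norm_num) U_pt1_0

theorem U_ver1 : Ver ns U_C1 243 :=
  U_ver2.cons ctx U_st1 (by decide +kernel)

theorem U_le0 : gen ns U_l0.ws ≤ gen ns U_ss0 :=
  gen_le_step ctx (tgt := [[104], [106], [108], [110]])
  (es := [([104], [2, 4, 3, 4, 1, 1]), ([106], [3, 7, 3]), ([108], [4, 9]), ([110], [11, 8, 11])]) U_le1 (by decide +kernel)

theorem U_lv0 : chkLvl 512 ns U_l0 U_C1 U_D0 1 = true :=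
  by decide +kernel

theorem U_pt0_0 : AllIn (PtOK 512 ns U_l0 U_C1 U_ss0 U_D0) 0 512 :=
  ptOK_of_chkPts ctx U_ver1 (a := 0) (n := 8) (by decide +kernel)

theorem U_st0 : IsStab 512 (gen ns U_l0.ws) (cgrp ns U_C1) U_l0.b U_D0 :=
  isStab_plain ctx U_le0 U_lv0 (by norm_num) U_pt0_0

theorem U_ver0 : Ver ns U_C0 729 :=
  U_ver1.cons ctx U_st0 (by decide +kernel)

theorem U_eq : gen ns U_ss0 = cgrp ns U_C0 :=
  le_antisymm (gen_le_of_subsetL _ (by decide +kernel)) U_le0

theorem U_card : Nat.card (gen ns U_ss0) = 729 :=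
  by rw [U_eq]; exact U_ver0.card

noncomputable def U_os : List (ℕ × ℕ) :=
  [(2, 0), (32, 1), (109, 2), (144, 3)]

noncomputable def line : ℕ :=
  nat_lit 0x20000000000000000000000000000000000800100000004

theorem U_fix : and' (and' (Nat.blt 2 512) (fixAll ns U_ss0 2)) (subB D1 (orL (orbs ns U_ss0 U_os) id)) = true :=
  by decide +kernel

theorem U_un : allL (unions (orbs ns U_ss0 U_os)) (fun M => or' (not' (tb M 2)) (or' (not' (Nat.beq (Nat.mod 40 (pcN 512 9 M)) 0)) (or' (Nat.beq M (Nat.shiftLeft 1 2)) (Nat.beq M line)))) = true :=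
  by decide +kernel

theorem st2 : IsStab 512 (gen ns (sTop A_S1)) (gen ns (sTop A_S1) ⊓ MulAction.stabilizer (Equiv.Perm ℕ) 2) 2 D1 :=
  isStab_inf ctx (r := 1) (by decide +kernel)

noncomputable def tr : T3 :=
  .N (.N (.N (.N (.N (.N .L .L .L) (.N .L .L .L) (.N .L .L .L)) (.N (.N .L .L .L) (.N .L .L .L) (.N .L .L .L)) (.N (.N .L .L .L) (.N .L .L .L) (.N .L .L .L))) (.N (.N (.N .L .L .L) (.N .L .L .L) (.N .L .L .L)) (.N (.N .L .L .L) (.N .L .L .L) (.N .L .L .L)) (.N (.N .L .L .L) (.N .L .L .L) (.N .L .L .L))) (.N (.N (.N .L .L .L) (.N .L .L .L) (.N .L .L .L)) (.N (.N .L .L .L) (.N .L .L .L) (.N .L .L .L)) (.N (.N .L .L .L) (.N .L .L .L) (.N .L .L .L)))) (.N (.N (.N (.N .L .L .L) (.N .L .L .L) (.N .L .L .L)) (.N (.N .L .L .L) (.N .L .L .L) (.N .L .L .L)) (.N (.N .L .L .L) (.N .L .L .L) (.N .L .L .L))) (.N (.N (.N .L .L .L) (.N .L .L .L) (.N .L .L .L)) (.N (.N .L .L .L) (.N .L .L .L) (.N .L .L .L)) (.N (.N .L .L .L) (.N .L .L .L) (.N .L .L .L)))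 (.N (.N (.N .L .L .L) (.N .L .L .L) (.N .L .L .L)) (.N (.N .L .L .L) (.N .L .L .L) (.N .L .L .L)) (.N (.N .L .L .L) (.N .L .L .L) (.N .L .L .L)))) (.N (.N (.N (.N .L .L .L) (.N .L .L .L) (.N .L .L .L)) (.N (.N .L .L .L) (.N .L .L .L) (.N .L .L .L)) (.N (.N .L .L .L) (.N .L .L .L) (.N .L .L .L))) (.N (.N (.N .L .L .L) (.N .L .L .L) (.N .L .L .L)) (.N (.N .L .L .L) (.N .L .L .L) (.N .L .L .L)) (.N (.N .L .L .L) (.N .L .L .L) (.N .L .L .L))) (.N (.N (.N .L .L .L) (.N .L .L .L) (.N .L .L .L)) (.N (.N .L .L .L) (.N .L .L .L) (.N .L .L .L)) (.N (.N .L .L .L) (.N .L .L .L) (.N .L .L .L))))) (.N (.N (.N (.N .L .L .L) (.N .L .L .L) (.N .L .L .L)) (.N (.N .L .L .L) (.N .L .L .L) (.N .L .L .L)) (.N (.N .L .L .L) (.N .L .L .L) (.N .L .L .L))) (.N (.N (.N .L .L .L) (.N .L .L .L) (.N .L .L .L)) (.N (.N .L .L .L) (.N .L .L .L) (.N .L .L .L)) (.N (.N .L .L .L) (.N .L .L .L) (.N .L .L .L))) (.N (.N (.N .L .L .L) (.N .L .L .L) (.N .L .L .L)) (.N (.N .L .L .L) (.N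 .L .L .L) (.N .L .L .L)) (.N (.N .L .L .L) (.N .L .L .L) (.N .L .L .L)))) (.N (.N (.N (.N .L .L .L) (.N .L .L .L) (.N .L .L .L)) (.N (.N .L .L .L) (.N .L .L .L) (.N .L .L .L)) (.N (.N .L .L .L) (.N .L .L .L) (.N .L .L .L))) (.N (.N (.N .L .L .L) (.N .L .L .L) (.N .L .L .L)) (.N (.N .L .L .L) (.N .L .L .L) (.N .L .L .L)) (.N (.N .L .L .L) (.N .L .L .L) (.N .L .L .L))) (.N (.N (.N .L .L .L) (.N .L .L .L) (.N .L .L .L)) (.N (.N .L .L .L) (.N .L .L .L) (.N .L .L .L)) (.N (.N .L .L .L) (.N .L .L .L) (.N .L .L .L))))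

theorem L_for : Nat.ble 113 (pc 13 (forestH 512 (fun y => Nat.mod y 8191) ns [8] [10] [12] line [([], tr)])) = true :=
  by decide +kernel

noncomputable def HA_S5 : List SD :=
  []

noncomputable def HA_d4 : SD :=
  ⟨152, 1, [140], lab 1 1 0, 1⟩

noncomputable def HA_S4 : List SD :=
  HA_d4 :: HA_S5

noncomputable def HA_d3 : SD :=
  ⟨55, 2, [134, 136, 138, 140], lab 3 7 (nat_lit 0x40000000000000820030000000000000000000008000000000400000000000000000000000000000000000000000400000000000000000000000000000000000000000001000000000000000000030000c0600010000010000000000004000000000000), 3⟩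

noncomputable def HA_S3 : List SD :=
  HA_d3 :: HA_S4

noncomputable def HA_d2 : SD :=
  ⟨98, 2, [128, 130, 132, 134, 136, 138, 140], lab 4 15 (nat_lit 0x20000000000000000000650000000000000005000000000000000000000000000000000700000000400005000000000000000000000400000000000000040000000000800000000000000000060000000000000000800000000030005004000000000000000700c000000000000000900000000a000080000000700000000000100000c00060000), 3⟩

noncomputable def HA_S2 : List SD :=
  HA_d2 :: HA_S3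

noncomputable def HA_d1 : SD :=
  ⟨262, 1, [122, 124, 126, 128, 130, 132, 134, 136, 138, 140], lab 5 31 (nat_lit 0x7000000000000000189c00000000000000004000000005000070000000000000002000000000000000000a00200000005800000000000000000000003080000000000000001400000028000000000000900000024000000000000018000000000000000000000000000008000000000000000e000000000c0000c000000001000000000c00000000000000000000000000000000000007800000000000000000000000001600008000000), 3⟩

noncomputable def HA_S1 : List SD :=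
  HA_d1 :: HA_S2

noncomputable def HA_d0 : SD :=
  ⟨248, 1, [14, 38, 118, 120, 122, 124, 126, 128, 130, 132, 134, 136, 138, 140], lab 5 31 (nat_lit 0x4083d000000150300450d6000000060600580e518e00000000252000050000a00006a80000000070000000020026034c0e9030003000002e00000d000044024000000000007028000000c000400000100162b40005cd5000200000002740054000012002aa000600901600401604c13000080358e5ae20a8027001a0000008802020005015808800918008022f431c00058a03801a03d45b00600280000000000140080c0014f001a702400), 3⟩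

noncomputable def HA_S0 : List SD :=
  HA_d0 :: HA_S1

theorem knH_1 : Known ns (gen ns (sTop A_S1)) 2360610721332463665136 :=
  knH_0.steps ctx (es := [(49, [9, 14, 37, 20, 22, 35, 39]),
 (50, [27, 11, 8, 24, 16, 32, 22, 35, 32]),
 (51, [18, 12, 8, 29, 16, 26, 22, 34, 32]),
 (20, [21]),
 (28, [35, 17, 32, 22, 35, 32, 39]),
 (59, [39, 15]),
 (60, [14, 14, 38, 15, 39, 14]),
 (61, [39, 14, 38, 120, 119, 15]),
 (62, [15, 39, 121, 121, 119, 38]),
 (63, [122, 124, 123, 123]),
 (64, [125, 125, 125, 122, 126, 125]),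
 (65, [126, 123, 127, 124, 126, 124]),
 (66, [125, 123, 124, 124, 126]),
 (67, [129, 132, 128, 131, 128, 132, 131, 129, 130, 128, 130]),
 (68, [130, 133, 130, 132, 130, 132, 132]),
 (69, [134, 134, 136, 135]),
 (70, [136, 139, 136, 136, 136])]) (by decide +kernel)

theorem HA_ex : Exact 512 ns HA_S0 ∧ gen ns (sTop HA_S0) = gen ns (sTop A_S1) ∧ gen ns (sTop A_S1) = gen ns (sTop A_S1) :=
  exact_of_known ctx hH (le_rfl) knH_1 (by decide +kernel)

noncomputable def HC_as : List (List ℕ × List ℕ) :=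
  [([40], [40])]

noncomputable def HC_cs : List (List ℕ) :=
  [[]]

noncomputable def HC_pl : List Pl :=
  [⟨.lst 0, []⟩, ⟨.forced 0 0, []⟩, ⟨.forced 0 0, []⟩, ⟨.forced 0 0, []⟩, ⟨.forced 0 0, []⟩]

noncomputable def HC_M0 : ℕ :=
  nat_lit 0x10018010a100000001080800080000008000000000000000000210000000100000020

theorem HC_b0 : Br 512 ns (derAs HC_as [[0]]) (derSs 512 9 ns HC_as [[0]]) (gen ns (sTop HA_S0)) HA_d0.p HC_M0 (InCs ns HA_S0 HC_cs) :=
  br_of_brB ctx hE HA_ex.1 (pl := HC_pl) (bs := []) (tps := []) (by decide +kernel)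

theorem HC : SolList ns (gen ns (sTop A_S1)) HC_as [[40]] HC_cs :=
  solList_of_br ctx HA_ex.1 HA_ex.2.1 knH_1 HC_b0 (cons := []) (r := 6) (by decide +kernel)

noncomputable def S_C1 : List Lvl :=
  []

noncomputable def S_ss0 : List (List ℕ) :=
  [[40]]

noncomputable def S_D0 : ℕ :=
  nat_lit 0x10000000088000000000000000000000000040400000000000000000014

noncomputable def S_l0 : Lvl :=
  ⟨2, [[40]],
  tabA [(90, 512), (82, 513), (195, 23040), (4, 20993), (199, 49920), (232, 1025)], 3⟩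

noncomputable def S_C0 : List Lvl :=
  S_l0 :: S_C1

theorem S_ver1 : Ver ns S_C1 1 :=
  ver_nil _

theorem S_le0 : gen ns S_l0.ws ≤ gen ns S_ss0 :=
  gen_le_step ctx (tgt := [])
  (es := []) (le_refl (gen _ [])) (by decide +kernel)

theorem S_lv0 : chkLvl 512 ns S_l0 S_C1 S_D0 6 = true :=
  by decide +kernel

theorem S_pt0_0 : AllIn (PtOK 512 ns S_l0 S_C1 S_ss0 S_D0) 0 512 :=
  ptOK_of_chkPts ctx S_ver1 (a := 0) (n := 8) (by decide +kernel)

theorem S_st0 : IsStab 512 (gen ns S_l0.ws) (cgrp ns S_C1) S_l0.b S_D0 :=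
  isStab_plain ctx S_le0 S_lv0 (by norm_num) S_pt0_0

theorem S_ver0 : Ver ns S_C0 7 :=
  S_ver1.cons ctx S_st0 (by decide +kernel)

theorem S_eq : gen ns S_ss0 = cgrp ns S_C0 :=
  le_antisymm (gen_le_of_subsetL _ (by decide +kernel)) S_le0

theorem S_card : Nat.card (gen ns S_ss0) = 7 :=
  by rw [S_eq]; exact S_ver0.card

theorem ab : eqW 512 9 ns [56, 40] [40, 40, 56] = true :=
  by decide +kernel

noncomputable def F_os : List (ℕ × ℕ) :=
  [(102, 2), (136, 2), (71, 2), (29, 2), (4, 4), (49, 4), (161, 4), (36, 4)]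

noncomputable def fws : List (List ℕ) :=
  [[40], [56]]

noncomputable def T1 : ℕ :=
  nat_lit 0x410e065c11000000128802008008080186002020284016e4200129050290a4014134

noncomputable def T1c : ℕ :=
  nat_lit 0x580500103021118080052c01120020108412044064215010b00a84092c40700001200

noncomputable def T2 : ℕ :=
  nat_lit 0x5401600591301080802dac00100020000010040202050044d20280810848684014334

noncomputable def T2c : ℕ :=
  nat_lit 0x814807060010100010000210a0080909c62024064a0513a200816187421120001000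

theorem T_un : and' (subB D1 (orL (orbs ns fws F_os) id)) (allL (unions (orbs ns fws F_os)) fun M => or' (not' (Nat.beq (pcN 512 9 M) 56)) (or' (memB [T1, T1c, T2, T2c] M) (Nat.ble 163 (pc 13 (forestH 512 (fun y => Nat.mod y 8191) ns [8] [10] [12] M [([], tr)]))))) = true :=
  by decide +kernel

noncomputable def T1_reps : List (List ℕ × T3) :=
  [([], (.N (.N (.N (.N .L (.N (.N .L .L (.N .L .L .L)) (.N .L (.N .L .L .L) .L) .L) .L) (.N (.N (.N .L (.N .L .L .L) .L) (.N .L .L (.N .L .L .L)) (.N .L .L (.N .L .L .L))) .L (.N (.N .L .L .L) (.N .L .L .L) .L)) (.N (.N (.N .L .L (.N .L .L .L)) .L (.N .L .L .L)) (.N (.N (.N .L .L .L) (.N .L .L .L) .L) .L (.N .L .L .L)) (.N .L .L .L))) (.N (.N (.N (.N .L .L .L) .L .L) (.N (.N .L .L (.N .L .L .L)) (.N (.N .L .L .L) .L .L) .L) (.N (.N .L .L .L) (.N .L .L .L) (.N .L .L .L))) (.N .L (.N .L (.N .L (.N .L .L .L) .L) (.N .L .L (.N .L .L .L))) (.N (.N (.N .L .L .L) .L .L) (.N .L .L (.N .L .L .L)) (.N .L .L .L)))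 (.N (.N (.N .L .L .L) (.N .L .L .L) (.N .L .L .L)) (.N (.N .L .L .L) .L (.N .L (.N .L .L .L) .L)) (.N .L (.N (.N .L .L .L) .L .L) .L))) (.N (.N (.N .L .L (.N .L .L .L)) (.N .L .L .L) (.N .L .L (.N (.N .L .L .L) .L .L))) (.N (.N .L (.N .L .L (.N .L .L .L)) .L) (.N .L .L (.N .L .L .L)) (.N .L .L .L)) (.N .L (.N .L (.N .L .L .L) .L) (.N (.N .L .L .L) .L .L)))) (.N .L (.N (.N (.N .L .L .L) (.N .L .L (.N (.N .L .L .L) .L .L)) (.N .L (.N .L .L .L) (.N .L .L .L))) (.N .L (.N .L (.N .L .L .L) .L) (.N .L .L .L)) (.N (.N (.N .L .L .L) .L (.N .L .L .L)) (.N .L .L .L) (.N (.N .L .L .L) (.N .L .L .L) .L))) (.N (.N (.N (.N .L .L .L) .L .L) .L .L) (.N .L .L (.N .L .L .L)) (.N (.N .L (.N .L .L .L) .L) (.N .L .L .L) (.N .L .L (.N .L .L (.N .L .L .L)))))) (.N (.N (.N (.N (.N .L .L .L) .L (.N .L .L .L)) (.N .L .L .L) .L) (.N (.N .L (.N .L .L (.N .L .L .L)) .L) (.N .L .L .L) (.N .L .L .L)) .L) (.N (.N (.N .L .L (.N .L .L .L)) .L (.N (.N .L .L .L) .L .L)) (.N .L (.N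 (.N .L .L .L) .L (.N .L .L .L)) (.N (.N .L .L .L) .L .L)) (.N .L (.N .L (.N .L .L .L) .L) (.N (.N .L .L .L) (.N .L .L .L) (.N .L .L .L)))) (.N (.N (.N .L .L (.N .L .L .L)) .L (.N .L .L (.N .L .L .L))) (.N .L .L .L) .L))))]

theorem T1_for : and' (invAll ns (sTop A_S2) T1) (Nat.ble 162 (pc 12 (forestM 512 2111 ns [8] [10] [12] T1 T1_reps))) = true :=
  by decide +kernel

noncomputable def T1c_reps : List (List ℕ × T3) :=
  [([], (.N (.N (.N (.N .L (.N (.N .L .L (.N .L .L .L)) (.N .L (.N .L .L .L) .L) .L) .L) (.N (.N (.N .L (.N .L .L .L) .L) (.N .L .L (.N .L .L .L)) (.N .L .L (.N .L .L .L))) .L (.N (.N .L .L .L) (.N .L .L .L) .L)) (.N (.N (.N .L .L (.N .L .L .L)) .L (.N .L .L .L)) (.N (.N (.N .L .L .L) (.N .L .L .L) .L) .L (.N .L .L .L)) (.N .L .L .L))) (.N (.N (.N (.N .L .L .L) .L .L) (.N (.N .L .L (.N .L .L .L)) (.N (.N .L .L .L) .L .L) .L) (.N (.N .L .L .L) (.N .L .L .L) (.N .L .L .L))) (.N .L (.N .L (.N .L (.N .L .L .L) .L) (.N .L .L (.N .L .L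 .L))) (.N (.N (.N .L .L .L) .L .L) (.N .L .L (.N .L .L .L)) (.N .L .L .L))) (.N (.N (.N .L .L .L) (.N .L .L .L) (.N .L .L .L)) (.N (.N .L .L .L) .L (.N .L (.N .L .L .L) .L)) (.N .L (.N (.N .L .L .L) .L .L) .L))) (.N (.N (.N .L .L (.N .L .L .L)) (.N .L .L .L) (.N .L .L (.N (.N .L .L .L) .L .L))) (.N (.N .L (.N .L .L (.N .L .L .L)) .L) (.N .L .L (.N .L .L .L)) (.N .L .L .L)) (.N .L (.N .L (.N .L .L .L) .L) (.N (.N .L .L .L) .L .L)))) (.N .L (.N (.N (.N .L .L .L) (.N .L .L (.N (.N .L .L .L) .L .L)) (.N .L (.N .L .L .L) (.N .L .L .L))) (.N .L (.N .L (.N .L .L .L) .L) (.N .L .L .L)) (.N (.N (.N .L .L .L) .L (.N .L .L .L)) (.N .L .L .L) (.N (.N .L .L .L) (.N .L .L .L) .L))) (.N (.N (.N (.N .L .L .L) .L .L) .L .L) (.N .L .L (.N .L .L .L)) (.N (.N .L (.N .L .L .L) .L) (.N .L .L .L) (.N .L .L (.N .L .L (.N .L .L .L)))))) (.N (.N (.N (.N (.N .L .L .L) .L (.N .L .L .L)) (.N .L .L .L) .L) (.N (.N .L (.N .L .L (.N .L .L .L)) .L) (.N .L .L .L) (.N .L .L .L))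 .L) (.N (.N (.N .L .L (.N .L .L .L)) .L (.N (.N .L .L .L) .L .L)) (.N .L (.N (.N .L .L .L) .L (.N .L .L .L)) (.N (.N .L .L .L) .L .L)) (.N .L (.N .L (.N .L .L .L) .L) (.N (.N .L .L .L) (.N .L .L .L) (.N .L .L .L)))) (.N (.N (.N .L .L (.N .L .L .L)) .L (.N .L .L (.N .L .L .L))) (.N .L .L .L) .L))))]

theorem T1c_for : and' (invAll ns (sTop A_S2) T1c) (Nat.ble 162 (pc 12 (forestM 512 2111 ns [8] [10] [12] T1c T1c_reps))) = true :=
  by decide +kernel

noncomputable def lab1 : ℕ → ℕ :=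
  lab 9 511 (nat_lit 0x5a418ac661c1e98c6b368f512723ea3c6e9358441d08564a4136a37d144fcdb113a41cec04bc8c030010ed30211a19020d32aafd100c2198808e00ec11e008370b8d2e4188be24c762135f30e7c16198406e0f9e902578c8ea715c94e02be7b07cb21a2b971e2c12909052472840c0af361a284f08228a95a2087a851c5a)

noncomputable def tw1 : List (List ℕ) :=
  [[12, 10, 26, 16, 23, 38], [24, 8, 8, 18, 16, 25, 28, 35, 32]]

noncomputable def lab2 : ℕ → ℕ :=
  lab 9 511 (nat_lit 0x1f1c8a48937214b2c44d8891ce95f11c62583e89d1e2163941e2db701c5e4a37c838eb0e35b05b90f7b0f412c90f815d1037815a04880110cccc369bb2106d100317e69320c1984d0d1558c5c3f26069125098820f3820a8525317100488a1d82168f422ab4a2901c3920c937d3e0aeb90e982022f578c86f103d1696004)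

noncomputable def tw2 : List (List ℕ) :=
  [[22, 8, 23, 16, 27, 22, 34, 32, 38], [12, 14, 29, 17, 25, 28, 35, 32, 38]]

theorem T_cor : and' (corB 512 112 lab1 lab2 T2 T1) (corB 512 112 lab1 lab2 T2c T1c) = true :=
  by decide +kernel

theorem KH : Known ns (gen ns (sTop A_S1)) 2360610721332463665136 :=
  knH_1

theorem H_in : and' (allL fws (inK 2360610721332463665136)) (and' (allL U_ss0 (inK 2360610721332463665136)) (and' (allL tw1 (inK 2360610721332463665136)) (allL tw2 (inK 2360610721332463665136)))) = true :=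
  by decide +kernel

end Cfsg.Agent.R3.McL
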