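import Cfsg.Agent.R3.RuC

set_option autoImplicit false
set_option Elab.async false
set_option maxRecDepth 4096

namespace Cfsg.Agent.R3.Ru

open Cfsg.Agent.Comp

noncomputable def Q0 : List (List ℕ × T3) :=
  [([], (.N (.N (.N (.N (.N (.N .L .L (.N .L .L .L)) .L (.N .L .L .L)) .L (.N .L .L (.N .L .L .L))) .L (.N (.N .L (.N .L .L .L) (.N (.N .L .L .L) .L .L)) .L (.N (.N .L (.N .L (.N .L .L .L) .L) .L) .L (.N .L .L (.N .L .L .L))))) (.N (.N (.N .L .L .L) (.N (.N .L .L .L) .L .L) .L) (.N (.N (.N .L .L .L) (.N .L .L .L) .L) (.N (.N .L .L .L) .L .L) .L) .L) (.N (.N .L (.N .L (.N (.N .L .L .L) .L .L) .L) (.N (.N .L .L .L) .L .L)) .L (.N (.N .L (.N .L (.N .L .L .L) .L) .L) .L (.N (.N .L .L .L) .L (.N .L .L (.N .L .L .L)))))) (.N (.N (.N (.N .L .L (.N .L .L (.N .L .L .L))) .L .L) (.N (.N (.N .L .L .L) .L .L) (.N (.N .L .L .L) .L .L) .L) .L) (.N (.N (.N .L .L .L) (.N .L .L .L) .L) (.N (.N .L .L .L) .L .L) .L) .L) (.N (.N .L (.N .L (.N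 (.N (.N .L .L .L) .L .L) .L .L) .L) (.N (.N .L .L .L) .L (.N .L .L .L))) .L (.N (.N .L (.N .L (.N .L .L .L) .L) (.N .L .L .L)) .L .L))))]

noncomputable def X0 : ℕ :=
  cat 4096 [nat_lit 0x400000000000000000000000000000000002000000000000000000000000000000000000000000000000000000004000000000800000800000000000000000000000000800000000000000000000000000000000000000000000000000000000000000000000000000000000000000000000000000000000000000040000000000000000000000000000000000000000000000000000000000000000000000000000000000000000000000000000000000000000000000000000000000000000000000000000000000000000000000000000000000000000000000000000000000000000000000000000000000000000000000000040000000000000041000000000000000000000000000000000000000000000000000000000000000020000000000000000000000000000000000000000000000000000040000000000000000000000000000000000000000000000000000000000000000000000000000000000000000000040000000000000000000000000000000000000000000000000000000000000000000000000000004000000000800000000000000000000000000000000000000000000000000200100000000000000000,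
 nat_lit 0x1000000000000000000000000000000000000000000000000000000000000000000000000000000000000000200000000000000000000000000000000000000000000800000000000000000000000000000000000000000000000000000000000000000000000080000000080000000000000000000000000000000000000000100000000000000000000000000000000000000000000100000000000000000000000000008000000000000000000000000000000000000000000000000000000000000000000000000000000000000000000000000000000000000000000010000000000000000200000000000000000000000000000000000000000000000000000000000000000000000000000000000000000000000000000000000000000000000000800000000000000000000000000000000000000000000000000000000000000000000000000400000000000000000000000000000000000020000000000000000000000000000800000000000000000000000000000000000000000000000000000000000000000000000000000000000000000000000000000000000000000000000000000800000000000000000000000000000004010000000000000000000000000000000000000000000000000000000000000000000000000000000000000000000000,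
 nat_lit 0x40000000000000000000000000000000000000000000000004000008000000000000000000000040000000000000000000200000000000000000000000000000000000000000000000000000000000000000000000000000000000000000000000000000000000000000000000000000004000000000000000000000000000000000000000000000000008000000000000000000000000000000000000000800000000000000000000000000000000000000000000000000000000000000000000000000000000000000000000000000000c00000000000000000000000000000000000001000000000800000000040000000000000000000000000000000000000000000000000000000004000000000000000000004000000000000000000000000000000000000000000000008000000000000000000000000000000000000000000000000000000000000000000000000000000000400000000000000000000000020000000000000000000000000000000000000000000000080800000000000000000000000000000000000000000000000000000000000000000000000000000000000000000000000000000000,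
 nat_lit 0x20000000000000000000000000010000000000000000000000000000000000000000000000008000000000000000000000000000000000000000000000000000000000000000000000000000000008000000000000000000000000000000000000000000000000000000000000000000000000000000000000000000000000000000000000000000000000000000000000000000000000000000000020000000000000000000000000000000000000000000000000000000000000200000000000000000000001000040400000000000000000000000000000000000000000000000000000000000000000000000000000000000000008004000000000000000000000000000000000000000000000000000000000000000000000000000000000000000000000000000000000000000000000000000000000000000000000000000000000000000000000000000000000000000000000000000000000000000000000000000000000000000000000000000000000000000000000000000000000000000000000000002000000100000002000000000000000000000000000000000000002000400000000000000000000000000000004000000000000000000000000000000000000000000003000000000000000000000000000000,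
 nat_lit 0x10000000000000080000000000000000000000000000000000000000000000000000000000000000010000000000000000000000000000000000000000000000000000000000000000000000002000400000000000000000000000000]

theorem Q0_for : Nat.beq (forestH 4096 hs ns [46] [108] [109] F0 Q0) X0 = true :=
  by decide +kernel

noncomputable def Q1 : List (List ℕ × T3) :=
  [([10], (.N (.N (.N (.N (.N (.N .L .L (.N .L .L .L)) .L (.N .L .L .L)) .L (.N .L .L (.N .L .L (.N .L .L .L)))) .L (.N (.N .L (.N .L .L .L) (.N (.N .L .L .L) .L (.N .L .L .L))) .L (.N (.N .L (.N .L (.N .L .L .L) .L) .L) .L (.N .L .L (.N .L .L (.N .L .L .L)))))) (.N (.N (.N .L .L .L) (.N (.N (.N .L .L .L) (.N .L .L .L) .L) (.N (.N .L .L .L) .L .L) .L) .L) (.N (.N (.N .L .L .L) (.N .L (.N .L (.N .L .L .L) .L) .L) .L) (.N (.N .L (.N .L (.N .L .L .L) .L) .L) (.N .L (.N (.N .L .L .L) (.N .L .L .L) .L) .L) .L) .L) .L) (.N (.N .L (.N .L (.N (.N .L .L .L) .L .L) .L) (.N (.N .L .L .L) .L (.N .L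 .L (.N .L .L (.N .L .L .L))))) .L (.N (.N .L (.N .L (.N .L .L .L) .L) (.N .L .L (.N .L .L .L))) .L (.N (.N .L .L (.N .L .L (.N .L .L .L))) .L (.N .L .L (.N (.N .L .L .L) .L .L)))))) (.N (.N (.N (.N .L .L (.N .L .L (.N .L .L .L))) .L .L) (.N (.N (.N .L .L .L) (.N .L (.N .L .L .L) .L) .L) (.N (.N .L (.N .L (.N .L .L .L) .L) .L) (.N .L (.N .L (.N .L .L .L) .L) .L) .L) .L) .L) (.N (.N (.N (.N .L .L (.N .L .L .L)) .L .L) (.N (.N .L (.N .L (.N .L .L .L) .L) .L) (.N (.N .L .L .L) (.N .L (.N .L .L .L) .L) .L) .L) .L) (.N (.N .L (.N (.N .L (.N .L .L .L) .L) (.N .L (.N .L .L .L) .L) .L) .L) (.N (.N .L (.N .L (.N .L .L .L) .L) .L) (.N (.N .L (.N .L .L .L) .L) (.N (.N .L .L .L) .L .L) .L) .L) .L) .L) .L) (.N (.N .L (.N .L (.N (.N (.N .L .L .L) .L .L) .L .L) .L) (.N (.N .L .L (.N .L .L (.N .L .L (.N .L .L .L)))) .L (.N (.N .L .L (.N .L .L .L)) .L (.N (.N .L .L (.N .L .L .L)) .L (.N .L .L (.N .L .L .L)))))) .L (.N (.N .L (.N .L (.N .L .L .L)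 .L) (.N .L .L (.N .L .L (.N .L .L (.N .L .L .L))))) .L (.N (.N .L .L (.N .L .L (.N .L .L (.N .L .L .L)))) .L (.N (.N .L .L (.N .L .L (.N .L .L .L))) .L (.N (.N .L .L (.N .L .L .L)) .L .L))))))),
 ([11], (.N (.N (.N (.N (.N (.N .L .L (.N .L .L .L)) .L (.N .L .L .L)) .L (.N .L .L (.N .L .L (.N .L .L .L)))) .L (.N (.N .L (.N .L .L .L) (.N (.N .L .L .L) .L (.N .L .L .L))) .L (.N (.N .L (.N .L (.N .L .L .L) .L) .L) .L (.N .L .L (.N .L .L (.N .L .L .L)))))) (.N (.N (.N .L .L .L) (.N (.N (.N .L .L .L) (.N .L .L .L) .L) (.N (.N .L .L .L) .L .L) .L) .L) (.N (.N (.N .L .L .L) (.N .L (.N .L (.N .L .L .L) .L) .L) .L) (.N (.N .L (.N .L (.N .L .L .L) .L) .L) (.N .L (.N (.N .L .L .L) (.N .L .L .L) .L) .L) .L) .L) .L) (.N (.N .L (.N .L (.N (.N .L .L .L) .L .L) .L) (.N (.N .L .L .L) .L (.N .L .L (.N .L .L (.N .L .L .L))))) .L (.N (.N .L (.N .L (.N .L .L .L) .L) (.N .L .L (.N .L .L .L))) .L (.N (.N .L .L (.N .L .L (.N .L .L .L))) .L (.N .L .L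 (.N (.N .L .L .L) .L .L)))))) (.N (.N (.N (.N .L .L (.N .L .L (.N .L .L .L))) .L .L) (.N (.N (.N .L .L .L) (.N .L (.N .L .L .L) .L) .L) (.N (.N .L (.N .L (.N .L .L .L) .L) .L) (.N .L (.N .L (.N .L .L .L) .L) .L) .L) .L) .L) (.N (.N (.N (.N .L .L (.N .L .L .L)) .L .L) (.N (.N .L (.N .L (.N .L .L .L) .L) .L) (.N (.N .L .L .L) (.N .L (.N .L .L .L) .L) .L) .L) .L) (.N (.N .L (.N (.N .L (.N .L .L .L) .L) (.N .L (.N .L .L .L) .L) .L) .L) (.N (.N .L (.N .L (.N .L .L .L) .L) .L) (.N (.N .L (.N .L .L .L) .L) (.N (.N .L .L .L) .L .L) .L) .L) .L) .L) .L) (.N (.N .L (.N .L (.N (.N (.N .L .L .L) .L .L) .L .L) .L) (.N (.N .L .L (.N .L .L (.N .L .L (.N .L .L .L)))) .L (.N (.N .L .L (.N .L .L .L)) .L (.N (.N .L .L (.N .L .L .L)) .L (.N .L .L (.N .L .L .L)))))) .L (.N (.N .L (.N .L (.N .L .L .L) .L) (.N .L .L (.N .L .L (.N .L .L (.N .L .L .L))))) .L (.N (.N .L .L (.N .L .L (.N .L .L (.N .L .L .L)))) .L (.N (.N .L .L (.N .L .L (.N .L .L .L)))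 .L (.N (.N .L .L (.N .L .L .L)) .L .L))))))),
 ([12], (.N (.N (.N (.N (.N (.N .L .L (.N .L .L .L)) .L (.N .L .L .L)) .L (.N .L .L (.N .L .L (.N .L .L .L)))) .L (.N (.N .L (.N .L .L .L) (.N (.N .L .L .L) .L (.N .L .L .L))) .L (.N (.N .L (.N .L (.N .L .L .L) .L) .L) .L (.N .L .L (.N .L .L (.N .L .L .L)))))) (.N (.N (.N .L .L .L) (.N (.N (.N .L .L .L) (.N .L .L .L) .L) (.N (.N .L .L .L) .L .L) .L) .L) (.N (.N (.N .L .L .L) (.N .L (.N .L (.N .L .L .L) .L) .L) .L) (.N (.N .L (.N .L (.N .L .L .L) .L) .L) (.N .L (.N (.N .L .L .L) (.N .L .L .L) .L) .L) .L) .L) .L) (.N (.N .L (.N .L (.N (.N .L .L .L) .L .L) .L) (.N (.N .L .L .L) .L (.N .L .L (.N .L .L (.N .L .L .L))))) .L (.N (.N .L (.N .L (.N .L .L .L) .L) (.N .L .L (.N .L .L .L))) .L (.N (.N .L .L (.N .L .L (.N .L .L .L))) .L (.N .L .L (.N (.N .L .L .L) .L .L)))))) (.N (.N (.N (.N .L .L (.N .L .L (.N .L .L .L))) .L .L) (.N (.N (.N .L .L .L) (.N .L (.N .L .L .L) .L) .L) (.N (.N .L (.N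 .L (.N .L .L .L) .L) .L) (.N .L (.N .L (.N .L .L .L) .L) .L) .L) .L) .L) (.N (.N (.N (.N .L .L (.N .L .L .L)) .L .L) (.N (.N .L (.N .L (.N .L .L .L) .L) .L) (.N (.N .L .L .L) (.N .L (.N .L .L .L) .L) .L) .L) .L) (.N (.N .L (.N (.N .L (.N .L .L .L) .L) (.N .L (.N .L .L .L) .L) .L) .L) (.N (.N .L (.N .L (.N .L .L .L) .L) .L) (.N (.N .L (.N .L .L .L) .L) (.N (.N .L .L .L) .L .L) .L) .L) .L) .L) .L) (.N (.N .L (.N .L (.N (.N (.N .L .L .L) .L .L) .L .L) .L) (.N (.N .L .L (.N .L .L (.N .L .L (.N .L .L .L)))) .L (.N (.N .L .L (.N .L .L .L)) .L (.N (.N .L .L (.N .L .L .L)) .L (.N .L .L (.N .L .L .L)))))) .L (.N (.N .L (.N .L (.N .L .L .L) .L) (.N .L .L (.N .L .L (.N .L .L (.N .L .L .L))))) .L (.N (.N .L .L (.N .L .L (.N .L .L (.N .L .L .L)))) .L (.N (.N .L .L (.N .L .L (.N .L .L .L))) .L (.N (.N .L .L (.N .L .L .L)) .L .L))))))),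
 ([13], (.N (.N (.N (.N (.N (.N .L .L (.N .L .L .L)) .L (.N .L .L .L)) .L (.N .L .L (.N .L .L (.N .L .L .L)))) .L (.N (.N .L (.N .L .L .L) (.N (.N .L .L .L) .L (.N .L .L .L))) .L (.N (.N .L (.N .L (.N .L .L .L) .L) .L) .L (.N .L .L (.N .L .L (.N .L .L .L)))))) (.N (.N (.N .L .L .L) (.N (.N (.N .L .L .L) (.N .L .L .L) .L) (.N (.N .L .L .L) .L .L) .L) .L) (.N (.N (.N .L .L .L) (.N .L (.N .L (.N .L .L .L) .L) .L) .L) (.N (.N .L (.N .L (.N .L .L .L) .L) .L) (.N .L (.N (.N .L .L .L) (.N .L .L .L) .L) .L) .L) .L) .L) (.N (.N .L (.N .L (.N (.N .L .L .L) .L .L) .L) (.N (.N .L .L .L) .L (.N .L .L (.N .L .L (.N .L .L .L))))) .L (.N (.N .L (.N .L (.N .L .L .L) .L) (.N .L .L (.N .L .L .L))) .L (.N (.N .L .L (.N .L .L (.N .L .L .L))) .L (.N .L .L (.N (.N .L .L .L) .L .L)))))) (.N (.N (.N (.N .L .L (.N .L .L (.N .L .L .L))) .L .L) (.N (.N (.N .L .L .L) (.N .L (.N .L .L .L) .L) .L) (.N (.N .L (.N .L (.N .L .L .L) .L) .L) (.N .L (.N .L (.N .L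 .L .L) .L) .L) .L) .L) .L) (.N (.N (.N (.N .L .L (.N .L .L .L)) .L .L) (.N (.N .L (.N .L (.N .L .L .L) .L) .L) (.N (.N .L .L .L) (.N .L (.N .L .L .L) .L) .L) .L) .L) (.N (.N .L (.N (.N .L (.N .L .L .L) .L) (.N .L (.N .L .L .L) .L) .L) .L) (.N (.N .L (.N .L (.N .L .L .L) .L) .L) (.N (.N .L (.N .L .L .L) .L) (.N (.N .L .L .L) .L .L) .L) .L) .L) .L) .L) (.N (.N .L (.N .L (.N (.N (.N .L .L .L) .L .L) .L .L) .L) (.N (.N .L .L (.N .L .L (.N .L .L (.N .L .L .L)))) .L (.N (.N .L .L (.N .L .L .L)) .L (.N (.N .L .L (.N .L .L .L)) .L (.N .L .L (.N .L .L .L)))))) .L (.N (.N .L (.N .L (.N .L .L .L) .L) (.N .L .L (.N .L .L (.N .L .L (.N .L .L .L))))) .L (.N (.N .L .L (.N .L .L (.N .L .L (.N .L .L .L)))) .L (.N (.N .L .L (.N .L .L (.N .L .L .L))) .L (.N (.N .L .L (.N .L .L .L)) .L .L))))))),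
 ([14], (.N (.N (.N (.N (.N (.N .L .L (.N .L .L .L)) .L (.N .L .L .L)) .L (.N .L .L (.N .L .L (.N .L .L .L)))) .L (.N (.N .L (.N .L .L .L) (.N (.N .L .L .L) .L (.N .L .L .L))) .L (.N (.N .L (.N .L (.N .L .L .L) .L) .L) .L (.N .L .L (.N .L .L (.N .L .L .L)))))) (.N (.N (.N .L .L .L) (.N (.N (.N .L .L .L) (.N .L .L .L) .L) (.N (.N .L .L .L) .L .L) .L) .L) (.N (.N (.N .L .L .L) (.N .L (.N .L (.N .L .L .L) .L) .L) .L) (.N (.N .L (.N .L (.N .L .L .L) .L) .L) (.N .L (.N (.N .L .L .L) (.N .L .L .L) .L) .L) .L) .L) .L) (.N (.N .L (.N .L (.N (.N .L .L .L) .L .L) .L) (.N (.N .L .L .L) .L (.N .L .L (.N .L .L (.N .L .L .L))))) .L (.N (.N .L (.N .L (.N .L .L .L) .L) (.N .L .L (.N .L .L .L))) .L (.N (.N .L .L (.N .L .L (.N .L .L .L))) .L (.N .L .L (.N (.N .L .L .L) .L .L)))))) (.N (.N (.N (.N .L .L (.N .L .L (.N .L .L .L))) .L .L) (.N (.N (.N .L .L .L) (.N .L (.N .L .L .L) .L) .L) (.N (.N .L (.N .L (.N .L .L .L) .L) .L) (.N .L (.N .L (.N .L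 .L .L) .L) .L) .L) .L) .L) (.N (.N (.N (.N .L .L (.N .L .L .L)) .L .L) (.N (.N .L (.N .L (.N .L .L .L) .L) .L) (.N (.N .L .L .L) (.N .L (.N .L .L .L) .L) .L) .L) .L) (.N (.N .L (.N (.N .L (.N .L .L .L) .L) (.N .L (.N .L .L .L) .L) .L) .L) (.N (.N .L (.N .L (.N .L .L .L) .L) .L) (.N (.N .L (.N .L .L .L) .L) (.N (.N .L .L .L) .L .L) .L) .L) .L) .L) .L) (.N (.N .L (.N .L (.N (.N (.N .L .L .L) .L .L) .L .L) .L) (.N (.N .L .L (.N .L .L (.N .L .L (.N .L .L .L)))) .L (.N (.N .L .L (.N .L .L .L)) .L (.N (.N .L .L (.N .L .L .L)) .L (.N .L .L (.N .L .L .L)))))) .L (.N (.N .L (.N .L (.N .L .L .L) .L) (.N .L .L (.N .L .L (.N .L .L (.N .L .L .L))))) .L (.N (.N .L .L (.N .L .L (.N .L .L (.N .L .L .L)))) .L (.N (.N .L .L (.N .L .L (.N .L .L .L))) .L (.N (.N .L .L (.N .L .L .L)) .L .L))))))),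
 ([15], (.N (.N (.N (.N (.N (.N .L .L (.N .L .L .L)) .L (.N .L .L .L)) .L (.N .L .L (.N .L .L (.N .L .L .L)))) .L (.N (.N .L (.N .L .L .L) (.N (.N .L .L .L) .L (.N .L .L .L))) .L (.N (.N .L (.N .L (.N .L .L .L) .L) .L) .L (.N .L .L (.N .L .L (.N .L .L .L)))))) (.N (.N (.N .L .L .L) (.N (.N (.N .L .L .L) (.N .L .L .L) .L) (.N (.N .L .L .L) .L .L) .L) .L) (.N (.N (.N .L .L .L) (.N .L (.N .L (.N .L .L .L) .L) .L) .L) (.N (.N .L (.N .L (.N .L .L .L) .L) .L) (.N .L (.N (.N .L .L .L) (.N .L .L .L) .L) .L) .L) .L) .L) (.N (.N .L (.N .L (.N (.N .L .L .L) .L .L) .L) (.N (.N .L .L .L) .L (.N .L .L (.N .L .L (.N .L .L .L))))) .L (.N (.N .L (.N .L (.N .L .L .L) .L) (.N .L .L (.N .L .L .L))) .L (.N (.N .L .L (.N .L .L (.N .L .L .L))) .L (.N .L .L (.N (.N .L .L .L) .L .L)))))) (.N (.N (.N (.N .L .L (.N .L .L (.N .L .L .L))) .L .L) (.N (.N (.N .L .L .L) (.N .L (.N .L .L .L) .L) .L) (.N (.N .L (.N .L (.N .L .L .L) .L) .L) (.N .L (.N .L (.N .L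 .L .L) .L) .L) .L) .L) .L) (.N (.N (.N (.N .L .L (.N .L .L .L)) .L .L) (.N (.N .L (.N .L (.N .L .L .L) .L) .L) (.N (.N .L .L .L) (.N .L (.N .L .L .L) .L) .L) .L) .L) (.N (.N .L (.N (.N .L (.N .L .L .L) .L) (.N .L (.N .L .L .L) .L) .L) .L) (.N (.N .L (.N .L (.N .L .L .L) .L) .L) (.N (.N .L (.N .L .L .L) .L) (.N (.N .L .L .L) .L .L) .L) .L) .L) .L) .L) (.N (.N .L (.N .L (.N (.N (.N .L .L .L) .L .L) .L .L) .L) (.N (.N .L .L (.N .L .L (.N .L .L (.N .L .L .L)))) .L (.N (.N .L .L (.N .L .L .L)) .L (.N (.N .L .L (.N .L .L .L)) .L (.N .L .L (.N .L .L .L)))))) .L (.N (.N .L (.N .L (.N .L .L .L) .L) (.N .L .L (.N .L .L (.N .L .L (.N .L .L .L))))) .L (.N (.N .L .L (.N .L .L (.N .L .L (.N .L .L .L)))) .L (.N (.N .L .L (.N .L .L (.N .L .L .L))) .L (.N (.N .L .L (.N .L .L .L)) .L .L))))))),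
 ([16], (.N (.N (.N (.N (.N (.N .L .L (.N .L .L .L)) .L (.N .L .L .L)) .L (.N .L .L (.N .L .L (.N .L .L .L)))) .L (.N (.N .L (.N .L .L .L) (.N (.N .L .L .L) .L (.N .L .L .L))) .L (.N (.N .L (.N .L (.N .L .L .L) .L) .L) .L (.N .L .L (.N .L .L (.N .L .L .L)))))) (.N (.N (.N .L .L .L) (.N (.N (.N .L .L .L) (.N .L .L .L) .L) (.N (.N .L .L .L) .L .L) .L) .L) (.N (.N (.N .L .L .L) (.N .L (.N .L (.N .L .L .L) .L) .L) .L) (.N (.N .L (.N .L (.N .L .L .L) .L) .L) (.N .L (.N (.N .L .L .L) (.N .L .L .L) .L) .L) .L) .L) .L) (.N (.N .L (.N .L (.N (.N .L .L .L) .L .L) .L) (.N (.N .L .L .L) .L (.N .L .L (.N .L .L (.N .L .L .L))))) .L (.N (.N .L (.N .L (.N .L .L .L) .L) (.N .L .L (.N .L .L .L))) .L (.N (.N .L .L (.N .L .L (.N .L .L .L))) .L (.N .L .L (.N (.N .L .L .L) .L .L)))))) (.N (.N (.N (.N .L .L (.N .L .L (.N .L .L .L))) .L .L) (.N (.N (.N .L .L .L) (.N .L (.N .L .L .L) .L) .L) (.N (.N .L (.N .L (.N .L .L .L) .L) .L) (.N .L (.N .L (.N .L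 .L .L) .L) .L) .L) .L) .L) (.N (.N (.N (.N .L .L (.N .L .L .L)) .L .L) (.N (.N .L (.N .L (.N .L .L .L) .L) .L) (.N (.N .L .L .L) (.N .L (.N .L .L .L) .L) .L) .L) .L) (.N (.N .L (.N (.N .L (.N .L .L .L) .L) (.N .L (.N .L .L .L) .L) .L) .L) (.N (.N .L (.N .L (.N .L .L .L) .L) .L) (.N (.N .L (.N .L .L .L) .L) (.N (.N .L .L .L) .L .L) .L) .L) .L) .L) .L) (.N (.N .L (.N .L (.N (.N (.N .L .L .L) .L .L) .L .L) .L) (.N (.N .L .L (.N .L .L (.N .L .L (.N .L .L .L)))) .L (.N (.N .L .L (.N .L .L .L)) .L (.N (.N .L .L (.N .L .L .L)) .L (.N .L .L (.N .L .L .L)))))) .L (.N (.N .L (.N .L (.N .L .L .L) .L) (.N .L .L (.N .L .L (.N .L .L (.N .L .L .L))))) .L (.N (.N .L .L (.N .L .L (.N .L .L (.N .L .L .L)))) .L (.N (.N .L .L (.N .L .L (.N .L .L .L))) .L (.N (.N .L .L (.N .L .L .L)) .L .L))))))),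
 ([18], (.N (.N (.N (.N (.N (.N .L .L (.N .L .L .L)) .L (.N .L .L .L)) .L (.N .L .L (.N .L .L (.N .L .L .L)))) .L (.N (.N .L (.N .L .L .L) (.N (.N .L .L .L) .L (.N .L .L .L))) .L (.N (.N .L (.N .L (.N .L .L .L) .L) .L) .L (.N .L .L (.N .L .L (.N .L .L .L)))))) (.N (.N (.N .L .L .L) (.N (.N (.N .L .L .L) (.N .L .L .L) .L) (.N (.N .L .L .L) .L .L) .L) .L) (.N (.N (.N .L .L .L) (.N .L (.N .L (.N .L .L .L) .L) .L) .L) (.N (.N .L (.N .L (.N .L .L .L) .L) .L) (.N .L (.N (.N .L .L .L) (.N .L .L .L) .L) .L) .L) .L) .L) (.N (.N .L (.N .L (.N (.N .L .L .L) .L .L) .L) (.N (.N .L .L .L) .L (.N .L .L (.N .L .L (.N .L .L .L))))) .L (.N (.N .L (.N .L (.N .L .L .L) .L) (.N .L .L (.N .L .L .L))) .L (.N (.N .L .L (.N .L .L (.N .L .L .L))) .L (.N .L .L (.N (.N .L .L .L) .L .L)))))) (.N (.N (.N (.N .L .L (.N .L .L (.N .L .L .L))) .L .L) (.N (.N (.N .L .L .L) (.N .L (.N .L .L .L) .L) .L) (.N (.N .L (.N .L (.N .L .L .L) .L) .L) (.N .L (.N .L (.N .L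 .L .L) .L) .L) .L) .L) .L) (.N (.N (.N (.N .L .L (.N .L .L .L)) .L .L) (.N (.N .L (.N .L (.N .L .L .L) .L) .L) (.N (.N .L .L .L) (.N .L (.N .L .L .L) .L) .L) .L) .L) (.N (.N .L (.N (.N .L (.N .L .L .L) .L) (.N .L (.N .L .L .L) .L) .L) .L) (.N (.N .L (.N .L (.N .L .L .L) .L) .L) (.N (.N .L (.N .L .L .L) .L) (.N (.N .L .L .L) .L .L) .L) .L) .L) .L) .L) (.N (.N .L (.N .L (.N (.N (.N .L .L .L) .L .L) .L .L) .L) (.N (.N .L .L (.N .L .L (.N .L .L (.N .L .L .L)))) .L (.N (.N .L .L (.N .L .L .L)) .L (.N (.N .L .L (.N .L .L .L)) .L (.N .L .L (.N .L .L .L)))))) .L (.N (.N .L (.N .L (.N .L .L .L) .L) (.N .L .L (.N .L .L (.N .L .L (.N .L .L .L))))) .L (.N (.N .L .L (.N .L .L (.N .L .L (.N .L .L .L)))) .L (.N (.N .L .L (.N .L .L (.N .L .L .L))) .L (.N (.N .L .L (.N .L .L .L)) .L .L))))))),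
 ([19], (.N (.N (.N (.N (.N (.N .L .L (.N .L .L .L)) .L (.N .L .L .L)) .L (.N .L .L (.N .L .L (.N .L .L .L)))) .L (.N (.N .L (.N .L .L .L) (.N (.N .L .L .L) .L (.N .L .L .L))) .L (.N (.N .L (.N .L (.N .L .L .L) .L) .L) .L (.N .L .L (.N .L .L (.N .L .L .L)))))) (.N (.N (.N .L .L .L) (.N (.N (.N .L .L .L) (.N .L .L .L) .L) (.N (.N .L .L .L) .L .L) .L) .L) (.N (.N (.N .L .L .L) (.N .L (.N .L (.N .L .L .L) .L) .L) .L) (.N (.N .L (.N .L (.N .L .L .L) .L) .L) (.N .L (.N (.N .L .L .L) (.N .L .L .L) .L) .L) .L) .L) .L) (.N (.N .L (.N .L (.N (.N .L .L .L) .L .L) .L) (.N (.N .L .L .L) .L (.N .L .L (.N .L .L (.N .L .L .L))))) .L (.N (.N .L (.N .L (.N .L .L .L) .L) (.N .L .L (.N .L .L .L))) .L (.N (.N .L .L (.N .L .L (.N .L .L .L))) .L (.N .L .L (.N (.N .L .L .L) .L .L)))))) (.N (.N (.N (.N .L .L (.N .L .L (.N .L .L .L))) .L .L) (.N (.N (.N .L .L .L) (.N .L (.N .L .L .L) .L) .L) (.N (.N .L (.N .L (.N .L .L .L) .L) .L) (.N .L (.N .L (.N .L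 .L .L) .L) .L) .L) .L) .L) (.N (.N (.N (.N .L .L (.N .L .L .L)) .L .L) (.N (.N .L (.N .L (.N .L .L .L) .L) .L) (.N (.N .L .L .L) (.N .L (.N .L .L .L) .L) .L) .L) .L) (.N (.N .L (.N (.N .L (.N .L .L .L) .L) (.N .L (.N .L .L .L) .L) .L) .L) (.N (.N .L (.N .L (.N .L .L .L) .L) .L) (.N (.N .L (.N .L .L .L) .L) (.N (.N .L .L .L) .L .L) .L) .L) .L) .L) .L) (.N (.N .L (.N .L (.N (.N (.N .L .L .L) .L .L) .L .L) .L) (.N (.N .L .L (.N .L .L (.N .L .L (.N .L .L .L)))) .L (.N (.N .L .L (.N .L .L .L)) .L (.N (.N .L .L (.N .L .L .L)) .L (.N .L .L (.N .L .L .L)))))) .L (.N (.N .L (.N .L (.N .L .L .L) .L) (.N .L .L (.N .L .L (.N .L .L (.N .L .L .L))))) .L (.N (.N .L .L (.N .L .L (.N .L .L (.N .L .L .L)))) .L (.N (.N .L .L (.N .L .L (.N .L .L .L))) .L (.N (.N .L .L (.N .L .L .L)) .L .L))))))),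
 ([12, 10], (.N (.N (.N (.N (.N (.N .L .L (.N .L .L .L)) .L (.N .L .L .L)) .L (.N .L .L (.N .L .L (.N .L .L .L)))) .L (.N (.N .L (.N .L .L .L) (.N (.N .L .L .L) .L (.N .L .L .L))) .L (.N (.N .L (.N .L (.N .L .L .L) .L) .L) .L (.N .L .L (.N .L .L (.N .L .L .L)))))) (.N (.N (.N .L .L .L) (.N (.N (.N .L .L .L) (.N .L .L .L) .L) (.N (.N .L .L .L) .L .L) .L) .L) (.N (.N (.N .L .L .L) (.N .L (.N .L (.N .L .L .L) .L) .L) .L) (.N (.N .L (.N .L (.N .L .L .L) .L) .L) (.N .L (.N (.N .L .L .L) (.N .L .L .L) .L) .L) .L) .L) .L) (.N (.N .L (.N .L (.N (.N .L .L .L) .L .L) .L) (.N (.N .L .L .L) .L (.N .L .L (.N .L .L (.N .L .L .L))))) .L (.N (.N .L (.N .L (.N .L .L .L) .L) (.N .L .L (.N .L .L .L))) .L (.N (.N .L .L (.N .L .L (.N .L .L .L))) .L (.N .L .L (.N (.N .L .L .L) .L .L)))))) (.N (.N (.N (.N .L .L (.N .L .L (.N .L .L .L))) .L .L) (.N (.N (.N .L .L .L) (.N .L (.N .L .L .L) .L) .L) (.N (.N .L (.N .L (.N .L .L .L) .L) .L) (.N .L (.N .L (.N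 .L .L .L) .L) .L) .L) .L) .L) (.N (.N (.N (.N .L .L (.N .L .L .L)) .L .L) (.N (.N .L (.N .L (.N .L .L .L) .L) .L) (.N (.N .L .L .L) (.N .L (.N .L .L .L) .L) .L) .L) .L) (.N (.N .L (.N (.N .L (.N .L .L .L) .L) (.N .L (.N .L .L .L) .L) .L) .L) (.N (.N .L (.N .L (.N .L .L .L) .L) .L) (.N (.N .L (.N .L .L .L) .L) (.N (.N .L .L .L) .L .L) .L) .L) .L) .L) .L) (.N (.N .L (.N .L (.N (.N (.N .L .L .L) .L .L) .L .L) .L) (.N (.N .L .L (.N .L .L (.N .L .L (.N .L .L .L)))) .L (.N (.N .L .L (.N .L .L .L)) .L (.N (.N .L .L (.N .L .L .L)) .L (.N .L .L (.N .L .L .L)))))) .L (.N (.N .L (.N .L (.N .L .L .L) .L) (.N .L .L (.N .L .L (.N .L .L (.N .L .L .L))))) .L (.N (.N .L .L (.N .L .L (.N .L .L (.N .L .L .L)))) .L (.N (.N .L .L (.N .L .L (.N .L .L .L))) .L (.N (.N .L .L (.N .L .L .L)) .L .L))))))),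
 ([13, 10], (.N (.N (.N (.N (.N (.N .L .L (.N .L .L .L)) .L (.N .L .L .L)) .L (.N .L .L (.N .L .L (.N .L .L .L)))) .L (.N (.N .L (.N .L .L .L) (.N (.N .L .L .L) .L (.N .L .L .L))) .L (.N (.N .L (.N .L (.N .L .L .L) .L) .L) .L (.N .L .L (.N .L .L (.N .L .L .L)))))) (.N (.N (.N .L .L .L) (.N (.N (.N .L .L .L) (.N .L .L .L) .L) (.N (.N .L .L .L) .L .L) .L) .L) (.N (.N (.N .L .L .L) (.N .L (.N .L (.N .L .L .L) .L) .L) .L) (.N (.N .L (.N .L (.N .L .L .L) .L) .L) (.N .L (.N (.N .L .L .L) (.N .L .L .L) .L) .L) .L) .L) .L) (.N (.N .L (.N .L (.N (.N .L .L .L) .L .L) .L) (.N (.N .L .L .L) .L (.N .L .L (.N .L .L (.N .L .L .L))))) .L (.N (.N .L (.N .L (.N .L .L .L) .L) (.N .L .L (.N .L .L .L))) .L (.N (.N .L .L (.N .L .L (.N .L .L .L))) .L (.N .L .L (.N (.N .L .L .L) .L .L)))))) (.N (.N (.N (.N .L .L (.N .L .L (.N .L .L .L))) .L .L) (.N (.N (.N .L .L .L) (.N .L (.N .L .L .L) .L) .L) (.N (.N .L (.N .L (.N .L .L .L) .L) .L) (.N .L (.N .L (.N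 .L .L .L) .L) .L) .L) .L) .L) (.N (.N (.N (.N .L .L (.N .L .L .L)) .L .L) (.N (.N .L (.N .L (.N .L .L .L) .L) .L) (.N (.N .L .L .L) (.N .L (.N .L .L .L) .L) .L) .L) .L) (.N (.N .L (.N (.N .L (.N .L .L .L) .L) (.N .L (.N .L .L .L) .L) .L) .L) (.N (.N .L (.N .L (.N .L .L .L) .L) .L) (.N (.N .L (.N .L .L .L) .L) (.N (.N .L .L .L) .L .L) .L) .L) .L) .L) .L) (.N (.N .L (.N .L (.N (.N (.N .L .L .L) .L .L) .L .L) .L) (.N (.N .L .L (.N .L .L (.N .L .L (.N .L .L .L)))) .L (.N (.N .L .L (.N .L .L .L)) .L (.N (.N .L .L (.N .L .L .L)) .L (.N .L .L (.N .L .L .L)))))) .L (.N (.N .L (.N .L (.N .L .L .L) .L) (.N .L .L (.N .L .L (.N .L .L (.N .L .L .L))))) .L (.N (.N .L .L (.N .L .L (.N .L .L (.N .L .L .L)))) .L (.N (.N .L .L (.N .L .L (.N .L .L .L))) .L (.N (.N .L .L (.N .L .L .L)) .L .L))))))),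
 ([15, 10], (.N (.N (.N (.N (.N (.N .L .L (.N .L .L .L)) .L (.N .L .L .L)) .L (.N .L .L (.N .L .L (.N .L .L .L)))) .L (.N (.N .L (.N .L .L .L) (.N (.N .L .L .L) .L (.N .L .L .L))) .L (.N (.N .L (.N .L (.N .L .L .L) .L) .L) .L (.N .L .L (.N .L .L (.N .L .L .L)))))) (.N (.N (.N .L .L .L) (.N (.N (.N .L .L .L) (.N .L .L .L) .L) (.N (.N .L .L .L) .L .L) .L) .L) (.N (.N (.N .L .L .L) (.N .L (.N .L (.N .L .L .L) .L) .L) .L) (.N (.N .L (.N .L (.N .L .L .L) .L) .L) (.N .L (.N (.N .L .L .L) (.N .L .L .L) .L) .L) .L) .L) .L) (.N (.N .L (.N .L (.N (.N .L .L .L) .L .L) .L) (.N (.N .L .L .L) .L (.N .L .L (.N .L .L (.N .L .L .L))))) .L (.N (.N .L (.N .L (.N .L .L .L) .L) (.N .L .L (.N .L .L .L))) .L (.N (.N .L .L (.N .L .L (.N .L .L .L))) .L (.N .L .L (.N (.N .L .L .L) .L .L)))))) (.N (.N (.N (.N .L .L (.N .L .L (.N .L .L .L))) .L .L) (.N (.N (.N .L .L .L) (.N .L (.N .L .L .L) .L) .L) (.N (.N .L (.N .L (.N .L .L .L) .L) .L) (.N .L (.N .L (.N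 .L .L .L) .L) .L) .L) .L) .L) (.N (.N (.N (.N .L .L (.N .L .L .L)) .L .L) (.N (.N .L (.N .L (.N .L .L .L) .L) .L) (.N (.N .L .L .L) (.N .L (.N .L .L .L) .L) .L) .L) .L) (.N (.N .L (.N (.N .L (.N .L .L .L) .L) (.N .L (.N .L .L .L) .L) .L) .L) (.N (.N .L (.N .L (.N .L .L .L) .L) .L) (.N (.N .L (.N .L .L .L) .L) (.N (.N .L .L .L) .L .L) .L) .L) .L) .L) .L) (.N (.N .L (.N .L (.N (.N (.N .L .L .L) .L .L) .L .L) .L) (.N (.N .L .L (.N .L .L (.N .L .L (.N .L .L .L)))) .L (.N (.N .L .L (.N .L .L .L)) .L (.N (.N .L .L (.N .L .L .L)) .L (.N .L .L (.N .L .L .L)))))) .L (.N (.N .L (.N .L (.N .L .L .L) .L) (.N .L .L (.N .L .L (.N .L .L (.N .L .L .L))))) .L (.N (.N .L .L (.N .L .L (.N .L .L (.N .L .L .L)))) .L (.N (.N .L .L (.N .L .L (.N .L .L .L))) .L (.N (.N .L .L (.N .L .L .L)) .L .L)))))))]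

noncomputable def X1 : ℕ :=
  cat 4096 [nat_lit 0x208010000004000480100000200000040004110002001040030000000000081000000000000004028000214400011100420401100000050000002000000900001001000000080800100000001800140010800000000c400000000084100008001010b21008040000032000052000602000404400001600001150800080000400904000000b0000c84008030401801100408000013000080220c002008080000082212086020000008100000200405100000008092840001424000040c0a002000000101110004c040411003000000040004000800400402050040001880c0000e42049000800c04002001400500407001044cc018800000000421000090000601004000100043000000020000a4000118c0400000401050008481000100005400000000000000408000240004020040030448220200c084800004016200408020800006010080048000000000004000000400400600000400000821040000000001000000100809005000000010409001800201820800400000006010000002450040001100040000088000282020400010c02180840444000060042080000800080484000000005810a002400019000801100000400000822b00018115004048a0011140281800000800100422000408210000000808080a40000000088c44000008050008242030001001030020400040e812001080000000104001000900,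
 nat_lit 0x88000000002000000401102c480044a02000000800029010008008004004101001000000001100001000800c084842021020000001000108000043000018c0110880010000000404180820000040000402010800004102001000013236401411002040090050002000c02500000004240000080400052400010020004440010080004200020200000208210408000040d410030004020400008018000002410301184060020002000040060a4002000000000800001000040000080010120000000010000044b0080524010410408800000000204002820001400000200009208000000050010004008000800410000400004000002000100100040404004200608810201410000470080200c82000200100040100c20a000e00804000000008a00004140200080644050000000105000002010002000000047000020080000004000c000024400200000412002000840008180018100001149001001040000200010000080090401800000000811000080400004002082404812000000100002400c0502c00000008400004005e000840000000000020208000204066000084200020160000004400020010a000206c4000000820800010000450001090100012131080001100802100000040000180d204300004000000006844000000100100004410402000000000040000050000000000108008b0c00000400009800000,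
 nat_lit 0xe008008044400400200088022000000001000000a203461204000084000000000004400402b0208000300200060001001011009020400000208204040010010128080001005011c000008004100050b00401700c4000000400008600020006000060000180006140004804000000020000080204c020810a0040000000800000001000804090340005002000400100110404034004046082000000040a043020000012004a00002800010000000000186100000480000300050000000104000804000040400004000400d8000480000010000100001100c0400408000041000000004080410010000000248004040024000000042100401001048003040520200400022000080010094042000284080008000000024000308010000000005000208000200004410444001000004a2044114110604001800800100000800010000914000000000012000120010001008000220001000001009000893804300103010004020800000000001204004400a00010000000028008000088084410000010410428000800000b00000080098040020038908842100480800000052010000084000140010000200084a0014040400000000140008400a001128105000000520003102000000004000101800000008808008050024a0010810001020000000008000400822008062000246000000000008004000100001080010000084004,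
 nat_lit 0x114000604104000100080004004900980800008040002094000005000000100200224010080080401240000020d000008000070478204a14004201004000810401102c20020008000000008141000000211010808002500110020010003001803840000000000008080400000340010480208000106901000100102000410208240000168004000150000000224000800001280040000411000000408404014208400000841000000080080a240010c810000040004000400003c40000028058a010001000001001001400420020040000000000100004000080100000200400408180809000000000080840083000010240c14000033010000180004000120481000024000008418002800008080080000110220102001402006004888800200000800000104010020000000008010010000100115002008041140008800082020000c000000164040040000000024000000000404100800240000044000016000251003000008010018c0000000080002420202404160011020004a06200001000004240080100200000001e1014440010000a00828820000d4420440004c040044180000102080010084010004004010010110400200000080009800408100004010001040000048800000200234040004c000480000000000400890040000002102001c0080000140040001021110404200008208200000404000000042,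
 nat_lit 0x1000000804100041000040000050a00802000001200001402000011020500080a300001000001004008000080040000001002040000004c0098e40024100004140604401c3000000000004002000000841004010042000000081280604000004000000104000000d08040180011600600000100064000020001858c01400040000042010000080088001004000002400220012100221046000440]

theorem Q1_for : Nat.beq (forestH 4096 hs ns [46] [108] [109] F0 Q1) X1 = true :=
  by decide +kernel

theorem Q1_big : allL Q1 (fun r => and' (wordIn (sTop A_S1) r.1) (Nat.blt 1560 (pcN 4096 12 (orb ns (bigW r.1) 3 1)))) = true :=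
  by decide +kernel

noncomputable def Q2 : List (List ℕ × T3) :=
  [([16, 10], (.N (.N (.N (.N (.N (.N .L .L (.N .L .L .L)) .L (.N .L .L .L)) .L (.N .L .L (.N .L .L (.N .L .L .L)))) .L (.N (.N .L (.N .L .L .L) (.N (.N .L .L .L) .L (.N .L .L .L))) .L (.N (.N .L (.N .L (.N .L .L .L) .L) .L) .L (.N .L .L (.N .L .L (.N .L .L .L)))))) (.N (.N (.N .L .L .L) (.N (.N (.N .L .L .L) (.N .L .L .L) .L) (.N (.N .L .L .L) .L .L) .L) .L) (.N (.N (.N .L .L .L) (.N .L (.N .L (.N .L .L .L) .L) .L) .L) (.N (.N .L (.N .L (.N .L .L .L) .L) .L) (.N .L (.N (.N .L .L .L) (.N .L .L .L) .L) .L) .L) .L) .L) (.N (.N .L (.N .L (.N (.N .L .L .L) .L .L) .L) (.N (.N .L .L .L) .L (.N .L .L (.N .L .L (.N .L .L .L))))) .L (.N (.N .L (.N .L (.N .L .L .L) .L) (.N .L .L (.N .L .L .L))) .L (.N (.N .L .L (.N .L .L (.N .L .L .L))) .L (.N .L .L (.N (.N .L .L .L) .L .L)))))) (.N (.N (.N (.N .L .L (.N .L .L (.N .L .L .L))) .L .L) (.N (.N (.N .L .L .L) (.N .L (.N .L .L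 .L) .L) .L) (.N (.N .L (.N .L (.N .L .L .L) .L) .L) (.N .L (.N .L (.N .L .L .L) .L) .L) .L) .L) .L) (.N (.N (.N (.N .L .L (.N .L .L .L)) .L .L) (.N (.N .L (.N .L (.N .L .L .L) .L) .L) (.N (.N .L .L .L) (.N .L (.N .L .L .L) .L) .L) .L) .L) (.N (.N .L (.N (.N .L (.N .L .L .L) .L) (.N .L (.N .L .L .L) .L) .L) .L) (.N (.N .L (.N .L (.N .L .L .L) .L) .L) (.N (.N .L (.N .L .L .L) .L) (.N (.N .L .L .L) .L .L) .L) .L) .L) .L) .L) (.N (.N .L (.N .L (.N (.N (.N .L .L .L) .L .L) .L .L) .L) (.N (.N .L .L (.N .L .L (.N .L .L (.N .L .L .L)))) .L (.N (.N .L .L (.N .L .L .L)) .L (.N (.N .L .L (.N .L .L .L)) .L (.N .L .L (.N .L .L .L)))))) .L (.N (.N .L (.N .L (.N .L .L .L) .L) (.N .L .L (.N .L .L (.N .L .L (.N .L .L .L))))) .L (.N (.N .L .L (.N .L .L (.N .L .L (.N .L .L .L)))) .L (.N (.N .L .L (.N .L .L (.N .L .L .L))) .L (.N (.N .L .L (.N .L .L .L)) .L .L))))))),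
 ([17, 10], (.N (.N (.N (.N (.N (.N .L .L (.N .L .L .L)) .L (.N .L .L .L)) .L (.N .L .L (.N .L .L (.N .L .L .L)))) .L (.N (.N .L (.N .L .L .L) (.N (.N .L .L .L) .L (.N .L .L .L))) .L (.N (.N .L (.N .L (.N .L .L .L) .L) .L) .L (.N .L .L (.N .L .L (.N .L .L .L)))))) (.N (.N (.N .L .L .L) (.N (.N (.N .L .L .L) (.N .L .L .L) .L) (.N (.N .L .L .L) .L .L) .L) .L) (.N (.N (.N .L .L .L) (.N .L (.N .L (.N .L .L .L) .L) .L) .L) (.N (.N .L (.N .L (.N .L .L .L) .L) .L) (.N .L (.N (.N .L .L .L) (.N .L .L .L) .L) .L) .L) .L) .L) (.N (.N .L (.N .L (.N (.N .L .L .L) .L .L) .L) (.N (.N .L .L .L) .L (.N .L .L (.N .L .L (.N .L .L .L))))) .L (.N (.N .L (.N .L (.N .L .L .L) .L) (.N .L .L (.N .L .L .L))) .L (.N (.N .L .L (.N .L .L (.N .L .L .L))) .L (.N .L .L (.N (.N .L .L .L) .L .L)))))) (.N (.N (.N (.N .L .L (.N .L .L (.N .L .L .L))) .L .L) (.N (.N (.N .L .L .L) (.N .L (.N .L .L .L) .L) .L) (.N (.N .L (.N .L (.N .L .L .L) .L) .L) (.N .L (.N .L (.N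 .L .L .L) .L) .L) .L) .L) .L) (.N (.N (.N (.N .L .L (.N .L .L .L)) .L .L) (.N (.N .L (.N .L (.N .L .L .L) .L) .L) (.N (.N .L .L .L) (.N .L (.N .L .L .L) .L) .L) .L) .L) (.N (.N .L (.N (.N .L (.N .L .L .L) .L) (.N .L (.N .L .L .L) .L) .L) .L) (.N (.N .L (.N .L (.N .L .L .L) .L) .L) (.N (.N .L (.N .L .L .L) .L) (.N (.N .L .L .L) .L .L) .L) .L) .L) .L) .L) (.N (.N .L (.N .L (.N (.N (.N .L .L .L) .L .L) .L .L) .L) (.N (.N .L .L (.N .L .L (.N .L .L (.N .L .L .L)))) .L (.N (.N .L .L (.N .L .L .L)) .L (.N (.N .L .L (.N .L .L .L)) .L (.N .L .L (.N .L .L .L)))))) .L (.N (.N .L (.N .L (.N .L .L .L) .L) (.N .L .L (.N .L .L (.N .L .L (.N .L .L .L))))) .L (.N (.N .L .L (.N .L .L (.N .L .L (.N .L .L .L)))) .L (.N (.N .L .L (.N .L .L (.N .L .L .L))) .L (.N (.N .L .L (.N .L .L .L)) .L .L))))))),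
 ([18, 10], (.N (.N (.N (.N (.N (.N .L .L (.N .L .L .L)) .L (.N .L .L .L)) .L (.N .L .L (.N .L .L (.N .L .L .L)))) .L (.N (.N .L (.N .L .L .L) (.N (.N .L .L .L) .L (.N .L .L .L))) .L (.N (.N .L (.N .L (.N .L .L .L) .L) .L) .L (.N .L .L (.N .L .L (.N .L .L .L)))))) (.N (.N (.N .L .L .L) (.N (.N (.N .L .L .L) (.N .L .L .L) .L) (.N (.N .L .L .L) .L .L) .L) .L) (.N (.N (.N .L .L .L) (.N .L (.N .L (.N .L .L .L) .L) .L) .L) (.N (.N .L (.N .L (.N .L .L .L) .L) .L) (.N .L (.N (.N .L .L .L) (.N .L .L .L) .L) .L) .L) .L) .L) (.N (.N .L (.N .L (.N (.N .L .L .L) .L .L) .L) (.N (.N .L .L .L) .L (.N .L .L (.N .L .L (.N .L .L .L))))) .L (.N (.N .L (.N .L (.N .L .L .L) .L) (.N .L .L (.N .L .L .L))) .L (.N (.N .L .L (.N .L .L (.N .L .L .L))) .L (.N .L .L (.N (.N .L .L .L) .L .L)))))) (.N (.N (.N (.N .L .L (.N .L .L (.N .L .L .L))) .L .L) (.N (.N (.N .L .L .L) (.N .L (.N .L .L .L) .L) .L) (.N (.N .L (.N .L (.N .L .L .L) .L) .L) (.N .L (.N .L (.N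 .L .L .L) .L) .L) .L) .L) .L) (.N (.N (.N (.N .L .L (.N .L .L .L)) .L .L) (.N (.N .L (.N .L (.N .L .L .L) .L) .L) (.N (.N .L .L .L) (.N .L (.N .L .L .L) .L) .L) .L) .L) (.N (.N .L (.N (.N .L (.N .L .L .L) .L) (.N .L (.N .L .L .L) .L) .L) .L) (.N (.N .L (.N .L (.N .L .L .L) .L) .L) (.N (.N .L (.N .L .L .L) .L) (.N (.N .L .L .L) .L .L) .L) .L) .L) .L) .L) (.N (.N .L (.N .L (.N (.N (.N .L .L .L) .L .L) .L .L) .L) (.N (.N .L .L (.N .L .L (.N .L .L (.N .L .L .L)))) .L (.N (.N .L .L (.N .L .L .L)) .L (.N (.N .L .L (.N .L .L .L)) .L (.N .L .L (.N .L .L .L)))))) .L (.N (.N .L (.N .L (.N .L .L .L) .L) (.N .L .L (.N .L .L (.N .L .L (.N .L .L .L))))) .L (.N (.N .L .L (.N .L .L (.N .L .L (.N .L .L .L)))) .L (.N (.N .L .L (.N .L .L (.N .L .L .L))) .L (.N (.N .L .L (.N .L .L .L)) .L .L))))))),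
 ([19, 10], (.N (.N (.N (.N (.N (.N .L .L (.N .L .L .L)) .L (.N .L .L .L)) .L (.N .L .L (.N .L .L (.N .L .L .L)))) .L (.N (.N .L (.N .L .L .L) (.N (.N .L .L .L) .L (.N .L .L .L))) .L (.N (.N .L (.N .L (.N .L .L .L) .L) .L) .L (.N .L .L (.N .L .L (.N .L .L .L)))))) (.N (.N (.N .L .L .L) (.N (.N (.N .L .L .L) (.N .L .L .L) .L) (.N (.N .L .L .L) .L .L) .L) .L) (.N (.N (.N .L .L .L) (.N .L (.N .L (.N .L .L .L) .L) .L) .L) (.N (.N .L (.N .L (.N .L .L .L) .L) .L) (.N .L (.N (.N .L .L .L) (.N .L .L .L) .L) .L) .L) .L) .L) (.N (.N .L (.N .L (.N (.N .L .L .L) .L .L) .L) (.N (.N .L .L .L) .L (.N .L .L (.N .L .L (.N .L .L .L))))) .L (.N (.N .L (.N .L (.N .L .L .L) .L) (.N .L .L (.N .L .L .L))) .L (.N (.N .L .L (.N .L .L (.N .L .L .L))) .L (.N .L .L (.N (.N .L .L .L) .L .L)))))) (.N (.N (.N (.N .L .L (.N .L .L (.N .L .L .L))) .L .L) (.N (.N (.N .L .L .L) (.N .L (.N .L .L .L) .L) .L) (.N (.N .L (.N .L (.N .L .L .L) .L) .L) (.N .L (.N .L (.N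 .L .L .L) .L) .L) .L) .L) .L) (.N (.N (.N (.N .L .L (.N .L .L .L)) .L .L) (.N (.N .L (.N .L (.N .L .L .L) .L) .L) (.N (.N .L .L .L) (.N .L (.N .L .L .L) .L) .L) .L) .L) (.N (.N .L (.N (.N .L (.N .L .L .L) .L) (.N .L (.N .L .L .L) .L) .L) .L) (.N (.N .L (.N .L (.N .L .L .L) .L) .L) (.N (.N .L (.N .L .L .L) .L) (.N (.N .L .L .L) .L .L) .L) .L) .L) .L) .L) (.N (.N .L (.N .L (.N (.N (.N .L .L .L) .L .L) .L .L) .L) (.N (.N .L .L (.N .L .L (.N .L .L (.N .L .L .L)))) .L (.N (.N .L .L (.N .L .L .L)) .L (.N (.N .L .L (.N .L .L .L)) .L (.N .L .L (.N .L .L .L)))))) .L (.N (.N .L (.N .L (.N .L .L .L) .L) (.N .L .L (.N .L .L (.N .L .L (.N .L .L .L))))) .L (.N (.N .L .L (.N .L .L (.N .L .L (.N .L .L .L)))) .L (.N (.N .L .L (.N .L .L (.N .L .L .L))) .L (.N (.N .L .L (.N .L .L .L)) .L .L))))))),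
 ([20, 10], (.N (.N (.N (.N (.N (.N .L .L (.N .L .L .L)) .L (.N .L .L .L)) .L (.N .L .L (.N .L .L (.N .L .L .L)))) .L (.N (.N .L (.N .L .L .L) (.N (.N .L .L .L) .L (.N .L .L .L))) .L (.N (.N .L (.N .L (.N .L .L .L) .L) .L) .L (.N .L .L (.N .L .L (.N .L .L .L)))))) (.N (.N (.N .L .L .L) (.N (.N (.N .L .L .L) (.N .L .L .L) .L) (.N (.N .L .L .L) .L .L) .L) .L) (.N (.N (.N .L .L .L) (.N .L (.N .L (.N .L .L .L) .L) .L) .L) (.N (.N .L (.N .L (.N .L .L .L) .L) .L) (.N .L (.N (.N .L .L .L) (.N .L .L .L) .L) .L) .L) .L) .L) (.N (.N .L (.N .L (.N (.N .L .L .L) .L .L) .L) (.N (.N .L .L .L) .L (.N .L .L (.N .L .L (.N .L .L .L))))) .L (.N (.N .L (.N .L (.N .L .L .L) .L) (.N .L .L (.N .L .L .L))) .L (.N (.N .L .L (.N .L .L (.N .L .L .L))) .L (.N .L .L (.N (.N .L .L .L) .L .L)))))) (.N (.N (.N (.N .L .L (.N .L .L (.N .L .L .L))) .L .L) (.N (.N (.N .L .L .L) (.N .L (.N .L .L .L) .L) .L) (.N (.N .L (.N .L (.N .L .L .L) .L) .L) (.N .L (.N .L (.N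 .L .L .L) .L) .L) .L) .L) .L) (.N (.N (.N (.N .L .L (.N .L .L .L)) .L .L) (.N (.N .L (.N .L (.N .L .L .L) .L) .L) (.N (.N .L .L .L) (.N .L (.N .L .L .L) .L) .L) .L) .L) (.N (.N .L (.N (.N .L (.N .L .L .L) .L) (.N .L (.N .L .L .L) .L) .L) .L) (.N (.N .L (.N .L (.N .L .L .L) .L) .L) (.N (.N .L (.N .L .L .L) .L) (.N (.N .L .L .L) .L .L) .L) .L) .L) .L) .L) (.N (.N .L (.N .L (.N (.N (.N .L .L .L) .L .L) .L .L) .L) (.N (.N .L .L (.N .L .L (.N .L .L (.N .L .L .L)))) .L (.N (.N .L .L (.N .L .L .L)) .L (.N (.N .L .L (.N .L .L .L)) .L (.N .L .L (.N .L .L .L)))))) .L (.N (.N .L (.N .L (.N .L .L .L) .L) (.N .L .L (.N .L .L (.N .L .L (.N .L .L .L))))) .L (.N (.N .L .L (.N .L .L (.N .L .L (.N .L .L .L)))) .L (.N (.N .L .L (.N .L .L (.N .L .L .L))) .L (.N (.N .L .L (.N .L .L .L)) .L .L))))))),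
 ([21, 10], (.N (.N (.N (.N (.N (.N .L .L (.N .L .L .L)) .L (.N .L .L .L)) .L (.N .L .L (.N .L .L (.N .L .L .L)))) .L (.N (.N .L (.N .L .L .L) (.N (.N .L .L .L) .L (.N .L .L .L))) .L (.N (.N .L (.N .L (.N .L .L .L) .L) .L) .L (.N .L .L (.N .L .L (.N .L .L .L)))))) (.N (.N (.N .L .L .L) (.N (.N (.N .L .L .L) (.N .L .L .L) .L) (.N (.N .L .L .L) .L .L) .L) .L) (.N (.N (.N .L .L .L) (.N .L (.N .L (.N .L .L .L) .L) .L) .L) (.N (.N .L (.N .L (.N .L .L .L) .L) .L) (.N .L (.N (.N .L .L .L) (.N .L .L .L) .L) .L) .L) .L) .L) (.N (.N .L (.N .L (.N (.N .L .L .L) .L .L) .L) (.N (.N .L .L .L) .L (.N .L .L (.N .L .L (.N .L .L .L))))) .L (.N (.N .L (.N .L (.N .L .L .L) .L) (.N .L .L (.N .L .L .L))) .L (.N (.N .L .L (.N .L .L (.N .L .L .L))) .L (.N .L .L (.N (.N .L .L .L) .L .L)))))) (.N (.N (.N (.N .L .L (.N .L .L (.N .L .L .L))) .L .L) (.N (.N (.N .L .L .L) (.N .L (.N .L .L .L) .L) .L) (.N (.N .L (.N .L (.N .L .L .L) .L) .L) (.N .L (.N .L (.N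 .L .L .L) .L) .L) .L) .L) .L) (.N (.N (.N (.N .L .L (.N .L .L .L)) .L .L) (.N (.N .L (.N .L (.N .L .L .L) .L) .L) (.N (.N .L .L .L) (.N .L (.N .L .L .L) .L) .L) .L) .L) (.N (.N .L (.N (.N .L (.N .L .L .L) .L) (.N .L (.N .L .L .L) .L) .L) .L) (.N (.N .L (.N .L (.N .L .L .L) .L) .L) (.N (.N .L (.N .L .L .L) .L) (.N (.N .L .L .L) .L .L) .L) .L) .L) .L) .L) (.N (.N .L (.N .L (.N (.N (.N .L .L .L) .L .L) .L .L) .L) (.N (.N .L .L (.N .L .L (.N .L .L (.N .L .L .L)))) .L (.N (.N .L .L (.N .L .L .L)) .L (.N (.N .L .L (.N .L .L .L)) .L (.N .L .L (.N .L .L .L)))))) .L (.N (.N .L (.N .L (.N .L .L .L) .L) (.N .L .L (.N .L .L (.N .L .L (.N .L .L .L))))) .L (.N (.N .L .L (.N .L .L (.N .L .L (.N .L .L .L)))) .L (.N (.N .L .L (.N .L .L (.N .L .L .L))) .L (.N (.N .L .L (.N .L .L .L)) .L .L))))))),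
 ([22, 10], (.N (.N (.N (.N (.N (.N .L .L (.N .L .L .L)) .L (.N .L .L .L)) .L (.N .L .L (.N .L .L (.N .L .L .L)))) .L (.N (.N .L (.N .L .L .L) (.N (.N .L .L .L) .L (.N .L .L .L))) .L (.N (.N .L (.N .L (.N .L .L .L) .L) .L) .L (.N .L .L (.N .L .L (.N .L .L .L)))))) (.N (.N (.N .L .L .L) (.N (.N (.N .L .L .L) (.N .L .L .L) .L) (.N (.N .L .L .L) .L .L) .L) .L) (.N (.N (.N .L .L .L) (.N .L (.N .L (.N .L .L .L) .L) .L) .L) (.N (.N .L (.N .L (.N .L .L .L) .L) .L) (.N .L (.N (.N .L .L .L) (.N .L .L .L) .L) .L) .L) .L) .L) (.N (.N .L (.N .L (.N (.N .L .L .L) .L .L) .L) (.N (.N .L .L .L) .L (.N .L .L (.N .L .L (.N .L .L .L))))) .L (.N (.N .L (.N .L (.N .L .L .L) .L) (.N .L .L (.N .L .L .L))) .L (.N (.N .L .L (.N .L .L (.N .L .L .L))) .L (.N .L .L (.N (.N .L .L .L) .L .L)))))) (.N (.N (.N (.N .L .L (.N .L .L (.N .L .L .L))) .L .L) (.N (.N (.N .L .L .L) (.N .L (.N .L .L .L) .L) .L) (.N (.N .L (.N .L (.N .L .L .L) .L) .L) (.N .L (.N .L (.N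 .L .L .L) .L) .L) .L) .L) .L) (.N (.N (.N (.N .L .L (.N .L .L .L)) .L .L) (.N (.N .L (.N .L (.N .L .L .L) .L) .L) (.N (.N .L .L .L) (.N .L (.N .L .L .L) .L) .L) .L) .L) (.N (.N .L (.N (.N .L (.N .L .L .L) .L) (.N .L (.N .L .L .L) .L) .L) .L) (.N (.N .L (.N .L (.N .L .L .L) .L) .L) (.N (.N .L (.N .L .L .L) .L) (.N (.N .L .L .L) .L .L) .L) .L) .L) .L) .L) (.N (.N .L (.N .L (.N (.N (.N .L .L .L) .L .L) .L .L) .L) (.N (.N .L .L (.N .L .L (.N .L .L (.N .L .L .L)))) .L (.N (.N .L .L (.N .L .L .L)) .L (.N (.N .L .L (.N .L .L .L)) .L (.N .L .L (.N .L .L .L)))))) .L (.N (.N .L (.N .L (.N .L .L .L) .L) (.N .L .L (.N .L .L (.N .L .L (.N .L .L .L))))) .L (.N (.N .L .L (.N .L .L (.N .L .L (.N .L .L .L)))) .L (.N (.N .L .L (.N .L .L (.N .L .L .L))) .L (.N (.N .L .L (.N .L .L .L)) .L .L))))))),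
 ([23, 10], (.N (.N (.N (.N (.N (.N .L .L (.N .L .L .L)) .L (.N .L .L .L)) .L (.N .L .L (.N .L .L (.N .L .L .L)))) .L (.N (.N .L (.N .L .L .L) (.N (.N .L .L .L) .L (.N .L .L .L))) .L (.N (.N .L (.N .L (.N .L .L .L) .L) .L) .L (.N .L .L (.N .L .L (.N .L .L .L)))))) (.N (.N (.N .L .L .L) (.N (.N (.N .L .L .L) (.N .L .L .L) .L) (.N (.N .L .L .L) .L .L) .L) .L) (.N (.N (.N .L .L .L) (.N .L (.N .L (.N .L .L .L) .L) .L) .L) (.N (.N .L (.N .L (.N .L .L .L) .L) .L) (.N .L (.N (.N .L .L .L) (.N .L .L .L) .L) .L) .L) .L) .L) (.N (.N .L (.N .L (.N (.N .L .L .L) .L .L) .L) (.N (.N .L .L .L) .L (.N .L .L (.N .L .L (.N .L .L .L))))) .L (.N (.N .L (.N .L (.N .L .L .L) .L) (.N .L .L (.N .L .L .L))) .L (.N (.N .L .L (.N .L .L (.N .L .L .L))) .L (.N .L .L (.N (.N .L .L .L) .L .L)))))) (.N (.N (.N (.N .L .L (.N .L .L (.N .L .L .L))) .L .L) (.N (.N (.N .L .L .L) (.N .L (.N .L .L .L) .L) .L) (.N (.N .L (.N .L (.N .L .L .L) .L) .L) (.N .L (.N .L (.N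 .L .L .L) .L) .L) .L) .L) .L) (.N (.N (.N (.N .L .L (.N .L .L .L)) .L .L) (.N (.N .L (.N .L (.N .L .L .L) .L) .L) (.N (.N .L .L .L) (.N .L (.N .L .L .L) .L) .L) .L) .L) (.N (.N .L (.N (.N .L (.N .L .L .L) .L) (.N .L (.N .L .L .L) .L) .L) .L) (.N (.N .L (.N .L (.N .L .L .L) .L) .L) (.N (.N .L (.N .L .L .L) .L) (.N (.N .L .L .L) .L .L) .L) .L) .L) .L) .L) (.N (.N .L (.N .L (.N (.N (.N .L .L .L) .L .L) .L .L) .L) (.N (.N .L .L (.N .L .L (.N .L .L (.N .L .L .L)))) .L (.N (.N .L .L (.N .L .L .L)) .L (.N (.N .L .L (.N .L .L .L)) .L (.N .L .L (.N .L .L .L)))))) .L (.N (.N .L (.N .L (.N .L .L .L) .L) (.N .L .L (.N .L .L (.N .L .L (.N .L .L .L))))) .L (.N (.N .L .L (.N .L .L (.N .L .L (.N .L .L .L)))) .L (.N (.N .L .L (.N .L .L (.N .L .L .L))) .L (.N (.N .L .L (.N .L .L .L)) .L .L))))))),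
 ([24, 10], (.N (.N (.N (.N (.N (.N .L .L (.N .L .L .L)) .L (.N .L .L .L)) .L (.N .L .L (.N .L .L (.N .L .L .L)))) .L (.N (.N .L (.N .L .L .L) (.N (.N .L .L .L) .L (.N .L .L .L))) .L (.N (.N .L (.N .L (.N .L .L .L) .L) .L) .L (.N .L .L (.N .L .L (.N .L .L .L)))))) (.N (.N (.N .L .L .L) (.N (.N (.N .L .L .L) (.N .L .L .L) .L) (.N (.N .L .L .L) .L .L) .L) .L) (.N (.N (.N .L .L .L) (.N .L (.N .L (.N .L .L .L) .L) .L) .L) (.N (.N .L (.N .L (.N .L .L .L) .L) .L) (.N .L (.N (.N .L .L .L) (.N .L .L .L) .L) .L) .L) .L) .L) (.N (.N .L (.N .L (.N (.N .L .L .L) .L .L) .L) (.N (.N .L .L .L) .L (.N .L .L (.N .L .L (.N .L .L .L))))) .L (.N (.N .L (.N .L (.N .L .L .L) .L) (.N .L .L (.N .L .L .L))) .L (.N (.N .L .L (.N .L .L (.N .L .L .L))) .L (.N .L .L (.N (.N .L .L .L) .L .L)))))) (.N (.N (.N (.N .L .L (.N .L .L (.N .L .L .L))) .L .L) (.N (.N (.N .L .L .L) (.N .L (.N .L .L .L) .L) .L) (.N (.N .L (.N .L (.N .L .L .L) .L) .L) (.N .L (.N .L (.N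 .L .L .L) .L) .L) .L) .L) .L) (.N (.N (.N (.N .L .L (.N .L .L .L)) .L .L) (.N (.N .L (.N .L (.N .L .L .L) .L) .L) (.N (.N .L .L .L) (.N .L (.N .L .L .L) .L) .L) .L) .L) (.N (.N .L (.N (.N .L (.N .L .L .L) .L) (.N .L (.N .L .L .L) .L) .L) .L) (.N (.N .L (.N .L (.N .L .L .L) .L) .L) (.N (.N .L (.N .L .L .L) .L) (.N (.N .L .L .L) .L .L) .L) .L) .L) .L) .L) (.N (.N .L (.N .L (.N (.N (.N .L .L .L) .L .L) .L .L) .L) (.N (.N .L .L (.N .L .L (.N .L .L (.N .L .L .L)))) .L (.N (.N .L .L (.N .L .L .L)) .L (.N (.N .L .L (.N .L .L .L)) .L (.N .L .L (.N .L .L .L)))))) .L (.N (.N .L (.N .L (.N .L .L .L) .L) (.N .L .L (.N .L .L (.N .L .L (.N .L .L .L))))) .L (.N (.N .L .L (.N .L .L (.N .L .L (.N .L .L .L)))) .L (.N (.N .L .L (.N .L .L (.N .L .L .L))) .L (.N (.N .L .L (.N .L .L .L)) .L .L))))))),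
 ([25, 10], (.N (.N (.N (.N (.N (.N .L .L (.N .L .L .L)) .L (.N .L .L .L)) .L (.N .L .L (.N .L .L (.N .L .L .L)))) .L (.N (.N .L (.N .L .L .L) (.N (.N .L .L .L) .L (.N .L .L .L))) .L (.N (.N .L (.N .L (.N .L .L .L) .L) .L) .L (.N .L .L (.N .L .L (.N .L .L .L)))))) (.N (.N (.N .L .L .L) (.N (.N (.N .L .L .L) (.N .L .L .L) .L) (.N (.N .L .L .L) .L .L) .L) .L) (.N (.N (.N .L .L .L) (.N .L (.N .L (.N .L .L .L) .L) .L) .L) (.N (.N .L (.N .L (.N .L .L .L) .L) .L) (.N .L (.N (.N .L .L .L) (.N .L .L .L) .L) .L) .L) .L) .L) (.N (.N .L (.N .L (.N (.N .L .L .L) .L .L) .L) (.N (.N .L .L .L) .L (.N .L .L (.N .L .L (.N .L .L .L))))) .L (.N (.N .L (.N .L (.N .L .L .L) .L) (.N .L .L (.N .L .L .L))) .L (.N (.N .L .L (.N .L .L (.N .L .L .L))) .L (.N .L .L (.N (.N .L .L .L) .L .L)))))) (.N (.N (.N (.N .L .L (.N .L .L (.N .L .L .L))) .L .L) (.N (.N (.N .L .L .L) (.N .L (.N .L .L .L) .L) .L) (.N (.N .L (.N .L (.N .L .L .L) .L) .L) (.N .L (.N .L (.N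 .L .L .L) .L) .L) .L) .L) .L) (.N (.N (.N (.N .L .L (.N .L .L .L)) .L .L) (.N (.N .L (.N .L (.N .L .L .L) .L) .L) (.N (.N .L .L .L) (.N .L (.N .L .L .L) .L) .L) .L) .L) (.N (.N .L (.N (.N .L (.N .L .L .L) .L) (.N .L (.N .L .L .L) .L) .L) .L) (.N (.N .L (.N .L (.N .L .L .L) .L) .L) (.N (.N .L (.N .L .L .L) .L) (.N (.N .L .L .L) .L .L) .L) .L) .L) .L) .L) (.N (.N .L (.N .L (.N (.N (.N .L .L .L) .L .L) .L .L) .L) (.N (.N .L .L (.N .L .L (.N .L .L (.N .L .L .L)))) .L (.N (.N .L .L (.N .L .L .L)) .L (.N (.N .L .L (.N .L .L .L)) .L (.N .L .L (.N .L .L .L)))))) .L (.N (.N .L (.N .L (.N .L .L .L) .L) (.N .L .L (.N .L .L (.N .L .L (.N .L .L .L))))) .L (.N (.N .L .L (.N .L .L (.N .L .L (.N .L .L .L)))) .L (.N (.N .L .L (.N .L .L (.N .L .L .L))) .L (.N (.N .L .L (.N .L .L .L)) .L .L))))))),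
 ([26, 10], (.N (.N (.N (.N (.N (.N .L .L (.N .L .L .L)) .L (.N .L .L .L)) .L (.N .L .L (.N .L .L .L))) .L (.N (.N .L (.N .L .L .L) (.N .L .L .L)) .L (.N (.N .L (.N .L (.N .L .L .L) .L) .L) .L .L))) (.N (.N (.N .L .L .L) (.N (.N (.N .L .L .L) .L .L) (.N .L .L .L) .L) .L) (.N (.N (.N .L .L .L) .L .L) (.N .L (.N .L .L .L) .L) .L) .L) (.N (.N .L (.N .L (.N (.N .L .L .L) .L .L) .L) (.N .L .L (.N .L .L .L))) .L (.N (.N .L (.N .L (.N .L .L .L) .L) .L) .L (.N .L .L .L)))) (.N (.N (.N (.N .L .L (.N .L .L .L)) .L .L) (.N (.N (.N .L .L .L) .L .L) (.N (.N .L .L .L) .L .L) .L) .L) (.N (.N (.N (.N .L .L (.N .L .L .L)) .L .L) (.N .L .L .L) .L) (.N (.N .L .L .L) (.N .L (.N .L .L .L) .L) .L) .L) .L) (.N (.N .L (.N .L (.N (.N (.N .L .L .L) .L .L) .L .L) .L) (.N (.N .L .L .L) .L (.N (.N .L .L .L) .L .L))) .L (.N (.N .L (.N .L (.N .L .L .L) .L) (.N .L .L .L)) .L (.N .L .L .L))))),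
 ([28, 10], (.N (.N (.N (.N (.N (.N .L .L (.N .L .L .L)) .L (.N .L .L .L)) .L (.N .L .L (.N .L .L (.N .L .L .L)))) .L (.N (.N .L (.N .L .L .L) (.N (.N .L .L .L) .L (.N .L .L .L))) .L (.N (.N .L (.N .L (.N .L .L .L) .L) .L) .L (.N .L .L (.N .L .L (.N .L .L .L)))))) (.N (.N (.N .L .L .L) (.N (.N (.N .L .L .L) (.N .L .L .L) .L) (.N (.N .L .L .L) .L .L) .L) .L) (.N (.N (.N .L .L .L) (.N .L (.N .L (.N .L .L .L) .L) .L) .L) (.N (.N .L (.N .L (.N .L .L .L) .L) .L) (.N .L (.N (.N .L .L .L) (.N .L .L .L) .L) .L) .L) .L) .L) (.N (.N .L (.N .L (.N (.N .L .L .L) .L .L) .L) (.N (.N .L .L .L) .L (.N .L .L (.N .L .L (.N .L .L .L))))) .L (.N (.N .L (.N .L (.N .L .L .L) .L) (.N .L .L (.N .L .L .L))) .L (.N (.N .L .L (.N .L .L (.N .L .L .L))) .L (.N .L .L (.N (.N .L .L .L) .L .L)))))) (.N (.N (.N (.N .L .L (.N .L .L (.N .L .L .L))) .L .L) (.N (.N (.N .L .L .L) (.N .L (.N .L .L .L) .L) .L) (.N (.N .L (.N .L (.N .L .L .L) .L) .L) (.N .L (.N .L (.N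 .L .L .L) .L) .L) .L) .L) .L) (.N (.N (.N (.N .L .L (.N .L .L .L)) .L .L) (.N (.N .L (.N .L (.N .L .L .L) .L) .L) (.N (.N .L .L .L) (.N .L (.N .L .L .L) .L) .L) .L) .L) (.N (.N .L (.N (.N .L (.N .L .L .L) .L) (.N .L (.N .L .L .L) .L) .L) .L) (.N (.N .L (.N .L (.N .L .L .L) .L) .L) (.N (.N .L (.N .L .L .L) .L) (.N (.N .L .L .L) .L .L) .L) .L) .L) .L) .L) (.N (.N .L (.N .L (.N (.N (.N .L .L .L) .L .L) .L .L) .L) (.N (.N .L .L (.N .L .L (.N .L .L (.N .L .L .L)))) .L (.N (.N .L .L (.N .L .L .L)) .L (.N (.N .L .L (.N .L .L .L)) .L (.N .L .L (.N .L .L .L)))))) .L (.N (.N .L (.N .L (.N .L .L .L) .L) (.N .L .L (.N .L .L (.N .L .L (.N .L .L .L))))) .L (.N (.N .L .L (.N .L .L (.N .L .L (.N .L .L .L)))) .L (.N (.N .L .L (.N .L .L (.N .L .L .L))) .L (.N (.N .L .L (.N .L .L .L)) .L .L)))))))]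

noncomputable def X2 : ℕ :=
  cat 4096 [nat_lit 0x80030080004100000000480008400203001000c00040400008000000080042200021130008200400000000400000000811082000000000084004400005a060012400000000000000a803000048124820840000c000020008280004019042000400200010a0400000000040000001082000100004402001020060101000000200002a00343008014100004008100114020140c0080005000008300240010004200000410000000001000200000000000010044000010020280910c002001041000140208080c48001100a0100800206000003082440141800080000000000010400008a0042080000000002101001000804000000004000084100006806000001020004500001808000080000080003000210014010000000080000002010008000004049c0400410000100001000020800000684000031410000080000000b0000118810000000100000040586000001200044020840041200080208000100001010889000000000008000000200140000000100040038840000030002080040000002080819001040000200400002140409000c004000010984005900000400a400003040305402010300000002000000000000040a000308000b0000020002811000400010200000000080000000280010000030000400000042400002020020000020000400c0041400000420000080040000140028015420441000820010,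
 nat_lit 0x10002400080000090080000000000000421080051004003140805008102c0000004041040000000000000004480080044003004020008011201080004000008000080200404400084000248000640800004130009081c2400020481000000008504802402010000400000000200000000000128020000000280120010881000001010000000004850000000800000800000101010444006500720800030048020001090200024088200001001410100010450041004200a002000400000040480400004800000910008a21000000180000700c5804400280009000140160010000020a0000001001000000080001108910802a08008402004f01000880820008200010000800260040000000110014434000000441080800118500008080040000408000020000800800406003800000804000031100040200006040c100404201000100041004420093840004000000000020020000200020080402004000900000002000008000000180108000201001000000000400000108104018010000080002090000080111011a003000000001840000008000004004801001140000000000000001c0001000400088800001000000140000020840000014404040000000010814000010041000100000440002002402001100840000110000000001004808008000090100000200000041840000400020000200041800012000000,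
 nat_lit 0x4010000200000008100400000818440000040408400020000002103000120000090002010840058444008820420018620002008809000000200000414352004000040042000e00030100220044040121000400000004880120080c81080180000014020000000280000300040000041c10000108111014500004000821028000400100100480880040808000000020c01020000800102040010002004002080084000d010000000a084000500000030800000a0100000c00000800025210800040000004049018004b004080010824026500880204100000006240000000c000203410000820200400000142000000004000c0040001002040300000000000021040000014180000000080840000000000000040000000088500004292020000209400880004000000810480000210001000000000000000440040204000109080000408000801000800200c000000008000008008040c011040040000402024000001800010014001000010290000150400200140040000020001100002000000c10140828100448500000000020000010021000080020240100400002040110048002040000401080000100400080210000218000000420200080000400000011400002400802002021028810401100081120021100004080104000010110004502800200002000000800088082000020800008000408200000820008100,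
 nat_lit 0x44000000100000010008043028002394001080020801040000104108410000008035480064040400841ac100104020020000220010000304816000c00010508102a405000002014440c2c0046a04091080000c0200000000000200a00100880010000000400400c0000180000000060800002000000001000040a42000002000000400000000000240212200010830441420400001284208000000028000000002000800240801000405400041280000000500100008040048010002002000000008600001000024800000400000000000100200000480800014868002200000010000041000010002410510424000020c801000002200020100006042040000100000c800022800008401420414000000e00004020000041000301000000030c4440608000201802001080084000004400c000480203000000080000000810001000000008000010c0008041400000000000004000200245000200091800030000190002040082010000000004020000000000008300084620000000100806000000050000158084006200200040280000000200802001800240020010001023800010080000982040021080002204900000200c0040805002203030040000201002020298010020800100825059000000002090000000480002080006000c20010044004210800900008021040448400018024040840000004808160000000,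
 nat_lit 0x403190000010000008060000040020001071a008403010111000201000250108054000120048000404014080003000000080220008a13000200010001500840008000028800001086800081801488006820400000000031402448002000200040208058010000010082010028008001014201400048011000401000101000000004001043040000800101000000000000001800488080004200]

theorem Q2_for : Nat.beq (forestH 4096 hs ns [46] [108] [109] F0 Q2) X2 = true :=
  by decide +kernel

theorem Q2_big : allL Q2 (fun r => and' (wordIn (sTop A_S1) r.1) (Nat.blt 1560 (pcN 4096 12 (orb ns (bigW r.1) 3 1)))) = true :=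
  by decide +kernel

noncomputable def Q3 : List (List ℕ × T3) :=
  [([29, 10], (.N (.N (.N (.N (.N (.N .L .L (.N .L .L .L)) .L (.N .L .L .L)) .L (.N .L .L (.N .L .L (.N .L .L .L)))) .L (.N (.N .L (.N .L .L .L) (.N (.N .L .L .L) .L (.N .L .L .L))) .L (.N (.N .L (.N .L (.N .L .L .L) .L) .L) .L (.N .L .L (.N .L .L (.N .L .L .L)))))) (.N (.N (.N .L .L .L) (.N (.N (.N .L .L .L) (.N .L .L .L) .L) (.N (.N .L .L .L) .L .L) .L) .L) (.N (.N (.N .L .L .L) (.N .L (.N .L (.N .L .L .L) .L) .L) .L) (.N (.N .L (.N .L (.N .L .L .L) .L) .L) (.N .L (.N (.N .L .L .L) (.N .L .L .L) .L) .L) .L) .L) .L) (.N (.N .L (.N .L (.N (.N .L .L .L) .L .L) .L) (.N (.N .L .L .L) .L (.N .L .L (.N .L .L (.N .L .L .L))))) .L (.N (.N .L (.N .L (.N .L .L .L) .L) (.N .L .L (.N .L .L .L))) .L (.N (.N .L .L (.N .L .L (.N .L .L .L))) .L (.N .L .L (.N (.N .L .L .L) .L .L)))))) (.N (.N (.N (.N .L .L (.N .L .L (.N .L .L .L))) .L .L) (.N (.N (.N .L .L .L) (.N .L (.N .L .L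 .L) .L) .L) (.N (.N .L (.N .L (.N .L .L .L) .L) .L) (.N .L (.N .L (.N .L .L .L) .L) .L) .L) .L) .L) (.N (.N (.N (.N .L .L (.N .L .L .L)) .L .L) (.N (.N .L (.N .L (.N .L .L .L) .L) .L) (.N (.N .L .L .L) (.N .L (.N .L .L .L) .L) .L) .L) .L) (.N (.N .L (.N (.N .L (.N .L .L .L) .L) (.N .L (.N .L .L .L) .L) .L) .L) (.N (.N .L (.N .L (.N .L .L .L) .L) .L) (.N (.N .L (.N .L .L .L) .L) (.N (.N .L .L .L) .L .L) .L) .L) .L) .L) .L) (.N (.N .L (.N .L (.N (.N (.N .L .L .L) .L .L) .L .L) .L) (.N (.N .L .L (.N .L .L (.N .L .L (.N .L .L .L)))) .L (.N (.N .L .L (.N .L .L .L)) .L (.N (.N .L .L (.N .L .L .L)) .L (.N .L .L (.N .L .L .L)))))) .L (.N (.N .L (.N .L (.N .L .L .L) .L) (.N .L .L (.N .L .L (.N .L .L (.N .L .L .L))))) .L (.N (.N .L .L (.N .L .L (.N .L .L (.N .L .L .L)))) .L (.N (.N .L .L (.N .L .L (.N .L .L .L))) .L (.N (.N .L .L (.N .L .L .L)) .L .L))))))),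
 ([31, 10], (.N (.N (.N (.N (.N (.N .L .L (.N .L .L .L)) .L (.N .L .L .L)) .L (.N .L .L (.N .L .L .L))) .L (.N (.N .L (.N .L .L .L) (.N .L .L (.N .L .L .L))) .L (.N (.N .L (.N .L (.N .L .L .L) .L) .L) .L (.N .L .L .L)))) (.N (.N (.N .L .L .L) (.N .L (.N .L .L .L) .L) .L) (.N (.N (.N .L .L .L) .L .L) (.N (.N .L .L .L) (.N .L (.N .L .L .L) .L) .L) .L) .L) (.N (.N .L (.N .L (.N (.N .L .L .L) .L .L) .L) (.N (.N .L .L .L) .L (.N .L .L .L))) .L (.N (.N .L (.N .L (.N .L .L .L) .L) .L) .L (.N .L .L .L)))) (.N (.N (.N (.N .L .L (.N .L .L .L)) .L .L) (.N (.N (.N .L .L .L) .L .L) (.N .L .L .L) .L) .L) (.N (.N (.N (.N .L .L (.N .L .L .L)) .L .L) (.N .L .L .L) .L) (.N (.N .L .L .L) .L .L) .L) .L) (.N (.N .L (.N .L (.N (.N (.N .L .L .L) .L .L) .L .L) .L) (.N (.N .L .L .L) .L .L)) .L (.N (.N .L (.N .L (.N .L .L .L) .L) (.N .L .L .L)) .L (.N .L .L (.N (.N .L .L .L) .L .L)))))),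
 ([32, 10], (.N (.N (.N (.N (.N (.N .L .L (.N .L .L .L)) .L (.N .L .L .L)) .L (.N .L .L (.N .L .L (.N .L .L .L)))) .L (.N (.N .L (.N .L .L .L) (.N (.N .L .L .L) .L (.N .L .L .L))) .L (.N (.N .L (.N .L (.N .L .L .L) .L) .L) .L (.N .L .L (.N .L .L (.N .L .L .L)))))) (.N (.N (.N .L .L .L) (.N (.N (.N .L .L .L) (.N .L .L .L) .L) (.N (.N .L .L .L) .L .L) .L) .L) (.N (.N (.N .L .L .L) (.N .L (.N .L (.N .L .L .L) .L) .L) .L) (.N (.N .L (.N .L (.N .L .L .L) .L) .L) (.N .L (.N (.N .L .L .L) (.N .L .L .L) .L) .L) .L) .L) .L) (.N (.N .L (.N .L (.N (.N .L .L .L) .L .L) .L) (.N (.N .L .L .L) .L (.N .L .L (.N .L .L (.N .L .L .L))))) .L (.N (.N .L (.N .L (.N .L .L .L) .L) (.N .L .L (.N .L .L .L))) .L (.N (.N .L .L (.N .L .L (.N .L .L .L))) .L (.N .L .L (.N (.N .L .L .L) .L .L)))))) (.N (.N (.N (.N .L .L (.N .L .L (.N .L .L .L))) .L .L) (.N (.N (.N .L .L .L) (.N .L (.N .L .L .L) .L) .L) (.N (.N .L (.N .L (.N .L .L .L) .L) .L) (.N .L (.N .L (.N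 .L .L .L) .L) .L) .L) .L) .L) (.N (.N (.N (.N .L .L (.N .L .L .L)) .L .L) (.N (.N .L (.N .L (.N .L .L .L) .L) .L) (.N (.N .L .L .L) (.N .L (.N .L .L .L) .L) .L) .L) .L) (.N (.N .L (.N (.N .L (.N .L .L .L) .L) (.N .L (.N .L .L .L) .L) .L) .L) (.N (.N .L (.N .L (.N .L .L .L) .L) .L) (.N (.N .L (.N .L .L .L) .L) (.N (.N .L .L .L) .L .L) .L) .L) .L) .L) .L) (.N (.N .L (.N .L (.N (.N (.N .L .L .L) .L .L) .L .L) .L) (.N (.N .L .L (.N .L .L (.N .L .L (.N .L .L .L)))) .L (.N (.N .L .L (.N .L .L .L)) .L (.N (.N .L .L (.N .L .L .L)) .L (.N .L .L (.N .L .L .L)))))) .L (.N (.N .L (.N .L (.N .L .L .L) .L) (.N .L .L (.N .L .L (.N .L .L (.N .L .L .L))))) .L (.N (.N .L .L (.N .L .L (.N .L .L (.N .L .L .L)))) .L (.N (.N .L .L (.N .L .L (.N .L .L .L))) .L (.N (.N .L .L (.N .L .L .L)) .L .L))))))),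
 ([35, 10], (.N (.N (.N (.N (.N (.N .L .L (.N .L .L .L)) .L (.N .L .L .L)) .L (.N .L .L (.N .L .L (.N .L .L .L)))) .L (.N (.N .L (.N .L .L .L) (.N (.N .L .L .L) .L (.N .L .L .L))) .L (.N (.N .L (.N .L (.N .L .L .L) .L) .L) .L (.N .L .L (.N .L .L (.N .L .L .L)))))) (.N (.N (.N .L .L .L) (.N (.N (.N .L .L .L) (.N .L .L .L) .L) (.N (.N .L .L .L) .L .L) .L) .L) (.N (.N (.N .L .L .L) (.N .L (.N .L (.N .L .L .L) .L) .L) .L) (.N (.N .L (.N .L (.N .L .L .L) .L) .L) (.N .L (.N (.N .L .L .L) (.N .L .L .L) .L) .L) .L) .L) .L) (.N (.N .L (.N .L (.N (.N .L .L .L) .L .L) .L) (.N (.N .L .L .L) .L (.N .L .L (.N .L .L (.N .L .L .L))))) .L (.N (.N .L (.N .L (.N .L .L .L) .L) (.N .L .L (.N .L .L .L))) .L (.N (.N .L .L (.N .L .L (.N .L .L .L))) .L (.N .L .L (.N (.N .L .L .L) .L .L)))))) (.N (.N (.N (.N .L .L (.N .L .L (.N .L .L .L))) .L .L) (.N (.N (.N .L .L .L) (.N .L (.N .L .L .L) .L) .L) (.N (.N .L (.N .L (.N .L .L .L) .L) .L) (.N .L (.N .L (.N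 .L .L .L) .L) .L) .L) .L) .L) (.N (.N (.N (.N .L .L (.N .L .L .L)) .L .L) (.N (.N .L (.N .L (.N .L .L .L) .L) .L) (.N (.N .L .L .L) (.N .L (.N .L .L .L) .L) .L) .L) .L) (.N (.N .L (.N (.N .L (.N .L .L .L) .L) (.N .L (.N .L .L .L) .L) .L) .L) (.N (.N .L (.N .L (.N .L .L .L) .L) .L) (.N (.N .L (.N .L .L .L) .L) (.N (.N .L .L .L) .L .L) .L) .L) .L) .L) .L) (.N (.N .L (.N .L (.N (.N (.N .L .L .L) .L .L) .L .L) .L) (.N (.N .L .L (.N .L .L (.N .L .L (.N .L .L .L)))) .L (.N (.N .L .L (.N .L .L .L)) .L (.N (.N .L .L (.N .L .L .L)) .L (.N .L .L (.N .L .L .L)))))) .L (.N (.N .L (.N .L (.N .L .L .L) .L) (.N .L .L (.N .L .L (.N .L .L (.N .L .L .L))))) .L (.N (.N .L .L (.N .L .L (.N .L .L (.N .L .L .L)))) .L (.N (.N .L .L (.N .L .L (.N .L .L .L))) .L (.N (.N .L .L (.N .L .L .L)) .L .L))))))),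
 ([38, 10], (.N (.N (.N (.N (.N (.N .L .L (.N .L .L .L)) .L (.N .L .L .L)) .L (.N .L .L (.N .L .L (.N .L .L .L)))) .L (.N (.N .L (.N .L .L .L) (.N (.N .L .L .L) .L (.N .L .L .L))) .L (.N (.N .L (.N .L (.N .L .L .L) .L) .L) .L (.N .L .L (.N .L .L (.N .L .L .L)))))) (.N (.N (.N .L .L .L) (.N (.N (.N .L .L .L) (.N .L .L .L) .L) (.N (.N .L .L .L) .L .L) .L) .L) (.N (.N (.N .L .L .L) (.N .L (.N .L (.N .L .L .L) .L) .L) .L) (.N (.N .L (.N .L (.N .L .L .L) .L) .L) (.N .L (.N (.N .L .L .L) (.N .L .L .L) .L) .L) .L) .L) .L) (.N (.N .L (.N .L (.N (.N .L .L .L) .L .L) .L) (.N (.N .L .L .L) .L (.N .L .L (.N .L .L (.N .L .L .L))))) .L (.N (.N .L (.N .L (.N .L .L .L) .L) (.N .L .L (.N .L .L .L))) .L (.N (.N .L .L (.N .L .L (.N .L .L .L))) .L (.N .L .L (.N (.N .L .L .L) .L .L)))))) (.N (.N (.N (.N .L .L (.N .L .L (.N .L .L .L))) .L .L) (.N (.N (.N .L .L .L) (.N .L (.N .L .L .L) .L) .L) (.N (.N .L (.N .L (.N .L .L .L) .L) .L) (.N .L (.N .L (.N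 .L .L .L) .L) .L) .L) .L) .L) (.N (.N (.N (.N .L .L (.N .L .L .L)) .L .L) (.N (.N .L (.N .L (.N .L .L .L) .L) .L) (.N (.N .L .L .L) (.N .L (.N .L .L .L) .L) .L) .L) .L) (.N (.N .L (.N (.N .L (.N .L .L .L) .L) (.N .L (.N .L .L .L) .L) .L) .L) (.N (.N .L (.N .L (.N .L .L .L) .L) .L) (.N (.N .L (.N .L .L .L) .L) (.N (.N .L .L .L) .L .L) .L) .L) .L) .L) .L) (.N (.N .L (.N .L (.N (.N (.N .L .L .L) .L .L) .L .L) .L) (.N (.N .L .L (.N .L .L (.N .L .L (.N .L .L .L)))) .L (.N (.N .L .L (.N .L .L .L)) .L (.N (.N .L .L (.N .L .L .L)) .L (.N .L .L (.N .L .L .L)))))) .L (.N (.N .L (.N .L (.N .L .L .L) .L) (.N .L .L (.N .L .L (.N .L .L (.N .L .L .L))))) .L (.N (.N .L .L (.N .L .L (.N .L .L (.N .L .L .L)))) .L (.N (.N .L .L (.N .L .L (.N .L .L .L))) .L (.N (.N .L .L (.N .L .L .L)) .L .L))))))),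
 ([41, 10], (.N (.N (.N (.N (.N (.N .L .L (.N .L .L .L)) .L (.N .L .L .L)) .L (.N .L .L (.N .L .L (.N .L .L .L)))) .L (.N (.N .L (.N .L .L .L) (.N (.N .L .L .L) .L (.N .L .L .L))) .L (.N (.N .L (.N .L (.N .L .L .L) .L) .L) .L (.N .L .L (.N .L .L (.N .L .L .L)))))) (.N (.N (.N .L .L .L) (.N (.N (.N .L .L .L) (.N .L .L .L) .L) (.N (.N .L .L .L) .L .L) .L) .L) (.N (.N (.N .L .L .L) (.N .L (.N .L (.N .L .L .L) .L) .L) .L) (.N (.N .L (.N .L (.N .L .L .L) .L) .L) (.N .L (.N (.N .L .L .L) (.N .L .L .L) .L) .L) .L) .L) .L) (.N (.N .L (.N .L (.N (.N .L .L .L) .L .L) .L) (.N (.N .L .L .L) .L (.N .L .L (.N .L .L (.N .L .L .L))))) .L (.N (.N .L (.N .L (.N .L .L .L) .L) (.N .L .L (.N .L .L .L))) .L (.N (.N .L .L (.N .L .L (.N .L .L .L))) .L (.N .L .L (.N (.N .L .L .L) .L .L)))))) (.N (.N (.N (.N .L .L (.N .L .L (.N .L .L .L))) .L .L) (.N (.N (.N .L .L .L) (.N .L (.N .L .L .L) .L) .L) (.N (.N .L (.N .L (.N .L .L .L) .L) .L) (.N .L (.N .L (.N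 .L .L .L) .L) .L) .L) .L) .L) (.N (.N (.N (.N .L .L (.N .L .L .L)) .L .L) (.N (.N .L (.N .L (.N .L .L .L) .L) .L) (.N (.N .L .L .L) (.N .L (.N .L .L .L) .L) .L) .L) .L) (.N (.N .L (.N (.N .L (.N .L .L .L) .L) (.N .L (.N .L .L .L) .L) .L) .L) (.N (.N .L (.N .L (.N .L .L .L) .L) .L) (.N (.N .L (.N .L .L .L) .L) (.N (.N .L .L .L) .L .L) .L) .L) .L) .L) .L) (.N (.N .L (.N .L (.N (.N (.N .L .L .L) .L .L) .L .L) .L) (.N (.N .L .L (.N .L .L (.N .L .L (.N .L .L .L)))) .L (.N (.N .L .L (.N .L .L .L)) .L (.N (.N .L .L (.N .L .L .L)) .L (.N .L .L (.N .L .L .L)))))) .L (.N (.N .L (.N .L (.N .L .L .L) .L) (.N .L .L (.N .L .L (.N .L .L (.N .L .L .L))))) .L (.N (.N .L .L (.N .L .L (.N .L .L (.N .L .L .L)))) .L (.N (.N .L .L (.N .L .L (.N .L .L .L))) .L (.N (.N .L .L (.N .L .L .L)) .L .L))))))),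
 ([43, 10], (.N (.N (.N (.N (.N (.N .L .L (.N .L .L .L)) .L (.N .L .L .L)) .L (.N .L .L (.N .L .L (.N .L .L .L)))) .L (.N (.N .L (.N .L .L .L) (.N (.N .L .L .L) .L (.N .L .L .L))) .L (.N (.N .L (.N .L (.N .L .L .L) .L) .L) .L (.N .L .L (.N .L .L (.N .L .L .L)))))) (.N (.N (.N .L .L .L) (.N (.N (.N .L .L .L) (.N .L .L .L) .L) (.N (.N .L .L .L) .L .L) .L) .L) (.N (.N (.N .L .L .L) (.N .L (.N .L (.N .L .L .L) .L) .L) .L) (.N (.N .L (.N .L (.N .L .L .L) .L) .L) (.N .L (.N (.N .L .L .L) (.N .L .L .L) .L) .L) .L) .L) .L) (.N (.N .L (.N .L (.N (.N .L .L .L) .L .L) .L) (.N (.N .L .L .L) .L (.N .L .L (.N .L .L (.N .L .L .L))))) .L (.N (.N .L (.N .L (.N .L .L .L) .L) (.N .L .L (.N .L .L .L))) .L (.N (.N .L .L (.N .L .L (.N .L .L .L))) .L (.N .L .L (.N (.N .L .L .L) .L .L)))))) (.N (.N (.N (.N .L .L (.N .L .L (.N .L .L .L))) .L .L) (.N (.N (.N .L .L .L) (.N .L (.N .L .L .L) .L) .L) (.N (.N .L (.N .L (.N .L .L .L) .L) .L) (.N .L (.N .L (.N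 .L .L .L) .L) .L) .L) .L) .L) (.N (.N (.N (.N .L .L (.N .L .L .L)) .L .L) (.N (.N .L (.N .L (.N .L .L .L) .L) .L) (.N (.N .L .L .L) (.N .L (.N .L .L .L) .L) .L) .L) .L) (.N (.N .L (.N (.N .L (.N .L .L .L) .L) (.N .L (.N .L .L .L) .L) .L) .L) (.N (.N .L (.N .L (.N .L .L .L) .L) .L) (.N (.N .L (.N .L .L .L) .L) (.N (.N .L .L .L) .L .L) .L) .L) .L) .L) .L) (.N (.N .L (.N .L (.N (.N (.N .L .L .L) .L .L) .L .L) .L) (.N (.N .L .L (.N .L .L (.N .L .L (.N .L .L .L)))) .L (.N (.N .L .L (.N .L .L .L)) .L (.N (.N .L .L (.N .L .L .L)) .L (.N .L .L (.N .L .L .L)))))) .L (.N (.N .L (.N .L (.N .L .L .L) .L) (.N .L .L (.N .L .L (.N .L .L (.N .L .L .L))))) .L (.N (.N .L .L (.N .L .L (.N .L .L (.N .L .L .L)))) .L (.N (.N .L .L (.N .L .L (.N .L .L .L))) .L (.N (.N .L .L (.N .L .L .L)) .L .L))))))),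
 ([45, 10], (.N (.N (.N (.N (.N (.N .L .L (.N .L .L .L)) .L (.N .L .L .L)) .L (.N .L .L (.N .L .L .L))) .L (.N (.N .L (.N .L .L .L) (.N .L .L (.N .L .L .L))) .L (.N (.N .L (.N .L (.N .L .L .L) .L) .L) .L (.N .L .L .L)))) (.N (.N (.N .L .L .L) (.N .L (.N .L .L .L) .L) .L) (.N (.N (.N .L .L .L) .L .L) (.N (.N .L .L .L) (.N .L (.N .L .L .L) .L) .L) .L) .L) (.N (.N .L (.N .L (.N (.N .L .L .L) .L .L) .L) (.N (.N .L .L .L) .L (.N .L .L .L))) .L (.N (.N .L (.N .L (.N .L .L .L) .L) .L) .L (.N .L .L .L)))) (.N (.N (.N (.N .L .L (.N .L .L .L)) .L .L) (.N (.N (.N .L .L .L) .L .L) (.N .L .L .L) .L) .L) (.N (.N (.N (.N .L .L (.N .L .L .L)) .L .L) (.N .L .L .L) .L) (.N (.N .L .L .L) .L .L) .L) .L) (.N (.N .L (.N .L (.N (.N (.N .L .L .L) .L .L) .L .L) .L) (.N (.N .L .L .L) .L .L)) .L (.N (.N .L (.N .L (.N .L .L .L) .L) (.N .L .L .L)) .L (.N .L .L (.N (.N .L .L .L) .L .L)))))),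
 ([11, 11], (.N (.N (.N (.N (.N (.N .L .L (.N .L .L .L)) .L (.N .L .L .L)) .L (.N .L .L (.N .L .L (.N .L .L .L)))) .L (.N (.N .L (.N .L .L .L) (.N (.N .L .L .L) .L (.N .L .L .L))) .L (.N (.N .L (.N .L (.N .L .L .L) .L) .L) .L (.N .L .L (.N .L .L (.N .L .L .L)))))) (.N (.N (.N .L .L .L) (.N (.N (.N .L .L .L) (.N .L .L .L) .L) (.N (.N .L .L .L) .L .L) .L) .L) (.N (.N (.N .L .L .L) (.N .L (.N .L (.N .L .L .L) .L) .L) .L) (.N (.N .L (.N .L (.N .L .L .L) .L) .L) (.N .L (.N (.N .L .L .L) (.N .L .L .L) .L) .L) .L) .L) .L) (.N (.N .L (.N .L (.N (.N .L .L .L) .L .L) .L) (.N (.N .L .L .L) .L (.N .L .L (.N .L .L (.N .L .L .L))))) .L (.N (.N .L (.N .L (.N .L .L .L) .L) (.N .L .L (.N .L .L .L))) .L (.N (.N .L .L (.N .L .L (.N .L .L .L))) .L (.N .L .L (.N (.N .L .L .L) .L .L)))))) (.N (.N (.N (.N .L .L (.N .L .L (.N .L .L .L))) .L .L) (.N (.N (.N .L .L .L) (.N .L (.N .L .L .L) .L) .L) (.N (.N .L (.N .L (.N .L .L .L) .L) .L) (.N .L (.N .L (.N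 .L .L .L) .L) .L) .L) .L) .L) (.N (.N (.N (.N .L .L (.N .L .L .L)) .L .L) (.N (.N .L (.N .L (.N .L .L .L) .L) .L) (.N (.N .L .L .L) (.N .L (.N .L .L .L) .L) .L) .L) .L) (.N (.N .L (.N (.N .L (.N .L .L .L) .L) (.N .L (.N .L .L .L) .L) .L) .L) (.N (.N .L (.N .L (.N .L .L .L) .L) .L) (.N (.N .L (.N .L .L .L) .L) (.N (.N .L .L .L) .L .L) .L) .L) .L) .L) .L) (.N (.N .L (.N .L (.N (.N (.N .L .L .L) .L .L) .L .L) .L) (.N (.N .L .L (.N .L .L (.N .L .L (.N .L .L .L)))) .L (.N (.N .L .L (.N .L .L .L)) .L (.N (.N .L .L (.N .L .L .L)) .L (.N .L .L (.N .L .L .L)))))) .L (.N (.N .L (.N .L (.N .L .L .L) .L) (.N .L .L (.N .L .L (.N .L .L (.N .L .L .L))))) .L (.N (.N .L .L (.N .L .L (.N .L .L (.N .L .L .L)))) .L (.N (.N .L .L (.N .L .L (.N .L .L .L))) .L (.N (.N .L .L (.N .L .L .L)) .L .L))))))),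
 ([12, 11], (.N (.N (.N (.N (.N (.N .L .L (.N .L .L .L)) .L (.N .L .L .L)) .L (.N .L .L (.N .L .L (.N .L .L .L)))) .L (.N (.N .L (.N .L .L .L) (.N (.N .L .L .L) .L (.N .L .L .L))) .L (.N (.N .L (.N .L (.N .L .L .L) .L) .L) .L (.N .L .L (.N .L .L (.N .L .L .L)))))) (.N (.N (.N .L .L .L) (.N (.N (.N .L .L .L) (.N .L .L .L) .L) (.N (.N .L .L .L) .L .L) .L) .L) (.N (.N (.N .L .L .L) (.N .L (.N .L (.N .L .L .L) .L) .L) .L) (.N (.N .L (.N .L (.N .L .L .L) .L) .L) (.N .L (.N (.N .L .L .L) (.N .L .L .L) .L) .L) .L) .L) .L) (.N (.N .L (.N .L (.N (.N .L .L .L) .L .L) .L) (.N (.N .L .L .L) .L (.N .L .L (.N .L .L (.N .L .L .L))))) .L (.N (.N .L (.N .L (.N .L .L .L) .L) (.N .L .L (.N .L .L .L))) .L (.N (.N .L .L (.N .L .L (.N .L .L .L))) .L (.N .L .L (.N (.N .L .L .L) .L .L)))))) (.N (.N (.N (.N .L .L (.N .L .L (.N .L .L .L))) .L .L) (.N (.N (.N .L .L .L) (.N .L (.N .L .L .L) .L) .L) (.N (.N .L (.N .L (.N .L .L .L) .L) .L) (.N .L (.N .L (.N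 .L .L .L) .L) .L) .L) .L) .L) (.N (.N (.N (.N .L .L (.N .L .L .L)) .L .L) (.N (.N .L (.N .L (.N .L .L .L) .L) .L) (.N (.N .L .L .L) (.N .L (.N .L .L .L) .L) .L) .L) .L) (.N (.N .L (.N (.N .L (.N .L .L .L) .L) (.N .L (.N .L .L .L) .L) .L) .L) (.N (.N .L (.N .L (.N .L .L .L) .L) .L) (.N (.N .L (.N .L .L .L) .L) (.N (.N .L .L .L) .L .L) .L) .L) .L) .L) .L) (.N (.N .L (.N .L (.N (.N (.N .L .L .L) .L .L) .L .L) .L) (.N (.N .L .L (.N .L .L (.N .L .L (.N .L .L .L)))) .L (.N (.N .L .L (.N .L .L .L)) .L (.N (.N .L .L (.N .L .L .L)) .L (.N .L .L (.N .L .L .L)))))) .L (.N (.N .L (.N .L (.N .L .L .L) .L) (.N .L .L (.N .L .L (.N .L .L (.N .L .L .L))))) .L (.N (.N .L .L (.N .L .L (.N .L .L (.N .L .L .L)))) .L (.N (.N .L .L (.N .L .L (.N .L .L .L))) .L (.N (.N .L .L (.N .L .L .L)) .L .L))))))),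
 ([13, 11], (.N (.N (.N (.N (.N (.N .L .L (.N .L .L .L)) .L (.N .L .L .L)) .L (.N .L .L (.N .L .L (.N .L .L .L)))) .L (.N (.N .L (.N .L .L .L) (.N (.N .L .L .L) .L (.N .L .L .L))) .L (.N (.N .L (.N .L (.N .L .L .L) .L) .L) .L (.N .L .L (.N .L .L (.N .L .L .L)))))) (.N (.N (.N .L .L .L) (.N (.N (.N .L .L .L) (.N .L .L .L) .L) (.N (.N .L .L .L) .L .L) .L) .L) (.N (.N (.N .L .L .L) (.N .L (.N .L (.N .L .L .L) .L) .L) .L) (.N (.N .L (.N .L (.N .L .L .L) .L) .L) (.N .L (.N (.N .L .L .L) (.N .L .L .L) .L) .L) .L) .L) .L) (.N (.N .L (.N .L (.N (.N .L .L .L) .L .L) .L) (.N (.N .L .L .L) .L (.N .L .L (.N .L .L (.N .L .L .L))))) .L (.N (.N .L (.N .L (.N .L .L .L) .L) (.N .L .L (.N .L .L .L))) .L (.N (.N .L .L (.N .L .L (.N .L .L .L))) .L (.N .L .L (.N (.N .L .L .L) .L .L)))))) (.N (.N (.N (.N .L .L (.N .L .L (.N .L .L .L))) .L .L) (.N (.N (.N .L .L .L) (.N .L (.N .L .L .L) .L) .L) (.N (.N .L (.N .L (.N .L .L .L) .L) .L) (.N .L (.N .L (.N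 .L .L .L) .L) .L) .L) .L) .L) (.N (.N (.N (.N .L .L (.N .L .L .L)) .L .L) (.N (.N .L (.N .L (.N .L .L .L) .L) .L) (.N (.N .L .L .L) (.N .L (.N .L .L .L) .L) .L) .L) .L) (.N (.N .L (.N (.N .L (.N .L .L .L) .L) (.N .L (.N .L .L .L) .L) .L) .L) (.N (.N .L (.N .L (.N .L .L .L) .L) .L) (.N (.N .L (.N .L .L .L) .L) (.N (.N .L .L .L) .L .L) .L) .L) .L) .L) .L) (.N (.N .L (.N .L (.N (.N (.N .L .L .L) .L .L) .L .L) .L) (.N (.N .L .L (.N .L .L (.N .L .L (.N .L .L .L)))) .L (.N (.N .L .L (.N .L .L .L)) .L (.N (.N .L .L (.N .L .L .L)) .L (.N .L .L (.N .L .L .L)))))) .L (.N (.N .L (.N .L (.N .L .L .L) .L) (.N .L .L (.N .L .L (.N .L .L (.N .L .L .L))))) .L (.N (.N .L .L (.N .L .L (.N .L .L (.N .L .L .L)))) .L (.N (.N .L .L (.N .L .L (.N .L .L .L))) .L (.N (.N .L .L (.N .L .L .L)) .L .L))))))),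
 ([14, 11], (.N (.N (.N (.N (.N (.N .L .L (.N .L .L .L)) .L (.N .L .L .L)) .L (.N .L .L (.N .L .L (.N .L .L .L)))) .L (.N (.N .L (.N .L .L .L) (.N (.N .L .L .L) .L (.N .L .L .L))) .L (.N (.N .L (.N .L (.N .L .L .L) .L) .L) .L (.N .L .L (.N .L .L (.N .L .L .L)))))) (.N (.N (.N .L .L .L) (.N (.N (.N .L .L .L) (.N .L .L .L) .L) (.N (.N .L .L .L) .L .L) .L) .L) (.N (.N (.N .L .L .L) (.N .L (.N .L (.N .L .L .L) .L) .L) .L) (.N (.N .L (.N .L (.N .L .L .L) .L) .L) (.N .L (.N (.N .L .L .L) (.N .L .L .L) .L) .L) .L) .L) .L) (.N (.N .L (.N .L (.N (.N .L .L .L) .L .L) .L) (.N (.N .L .L .L) .L (.N .L .L (.N .L .L (.N .L .L .L))))) .L (.N (.N .L (.N .L (.N .L .L .L) .L) (.N .L .L (.N .L .L .L))) .L (.N (.N .L .L (.N .L .L (.N .L .L .L))) .L (.N .L .L (.N (.N .L .L .L) .L .L)))))) (.N (.N (.N (.N .L .L (.N .L .L (.N .L .L .L))) .L .L) (.N (.N (.N .L .L .L) (.N .L (.N .L .L .L) .L) .L) (.N (.N .L (.N .L (.N .L .L .L) .L) .L) (.N .L (.N .L (.N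 .L .L .L) .L) .L) .L) .L) .L) (.N (.N (.N (.N .L .L (.N .L .L .L)) .L .L) (.N (.N .L (.N .L (.N .L .L .L) .L) .L) (.N (.N .L .L .L) (.N .L (.N .L .L .L) .L) .L) .L) .L) (.N (.N .L (.N (.N .L (.N .L .L .L) .L) (.N .L (.N .L .L .L) .L) .L) .L) (.N (.N .L (.N .L (.N .L .L .L) .L) .L) (.N (.N .L (.N .L .L .L) .L) (.N (.N .L .L .L) .L .L) .L) .L) .L) .L) .L) (.N (.N .L (.N .L (.N (.N (.N .L .L .L) .L .L) .L .L) .L) (.N (.N .L .L (.N .L .L (.N .L .L (.N .L .L .L)))) .L (.N (.N .L .L (.N .L .L .L)) .L (.N (.N .L .L (.N .L .L .L)) .L (.N .L .L (.N .L .L .L)))))) .L (.N (.N .L (.N .L (.N .L .L .L) .L) (.N .L .L (.N .L .L (.N .L .L (.N .L .L .L))))) .L (.N (.N .L .L (.N .L .L (.N .L .L (.N .L .L .L)))) .L (.N (.N .L .L (.N .L .L (.N .L .L .L))) .L (.N (.N .L .L (.N .L .L .L)) .L .L)))))))]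

noncomputable def X3 : ℕ :=
  cat 4096 [nat_lit 0x41400180200010080c40002040401008200180000000000808000000001000a0100800444080000020000010108800000800c40018801018241100100400000020a80080080041000000d9020200410000180000830008400080000000002001404108010080000100001000404010841000008004002000008002424000000000010010000301010400100000000816080020000c200480401000020900008014020001000000000040248480020000080000000100440900000000000a800008080100000000080802040210040080000a2008600010410000000000014000000400000408200c1420008004402060098102004102400040000020001284000000100000000002d0000204011000020000830000000200000442010080220003100042022410054000000c08001040000000080820000022002a400002020002000400000180010180010000400440041a001102800000221004048000c840848000100010010410040080080a000304408000081400101002009040480100000318002641001001001350010080070400000110001000001008000000024004048081000800000040108021080000400002000000108001000202000001000090000180000300000800101114240400200000480001000100000000020004400000001010000000003008001008000000204010502422200000cc8051400,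
 nat_lit 0x1000108010a212020020000020800001000060004206028000000000100402060000124000089850040400006004000000000000500000020002800800140400000400002004040000000240000084008401480008001080000008100020000000000010020000804c0040040301800204040200000000000c00020028880132220b1a00021110000c808044000000082200000002200000082008101020004000201000100002184400000840000000000000120044011020180010000000004000000000820020000020713040004202808128028800000200010000000201c000400840020080400010001481000900001000500400008018820100100104000580000010080000122100120110042000800001108c00104020160100008000081000100412008120010000000c0000c02000008004000008800018820108002481000a0000100002040000040011020090201050040010018000000000a00040040090002000281100204040000e8c10100008100032c100050200110c0020001002200010000000080000a8110020011820002000021060000040000000040202000803000098000040104012000000080060c0000010014000000c000000221000200244024400004878000004004200000010006001004000000120000000001418048000000000000020000004106100101105008202040100004,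
 nat_lit 0x400001401000000000c0084000000e010100000000000000003001300141000000008000020010800040000040001000904042201280000204108a0040200c040402024c0004000000040002800001000208001420000000000400000004002800002000200100290011040140000008100000024000000201450408c020820282004000000201e0000040c68821080040040500010000040200002010044002400004002109000a900000100000080040000000012000004000000001012004012113000000100000040001400010a2004080084140000101004302000041100000004010003141006108100c000121c000020080008000020100000000000000002c1002090000404000014008000001481000402500000021041808040040000000800002000000004000000c280000001000000158002000000060102080020420000488282100000000040410010000400004000430200000010c040561828640240800d46c8010000020100020000002041000000200000000040c0000010042042080000a3000800600080204100010000000022200200400000024800000000010202000001000129201502809080000004100008202200045000000002000040004a08b00240000240400400000000005240000010040548000100a000a0100240090040020006840002802000000004000010000001800011,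
 nat_lit 0x2060020802019040019002000060000000040004022000e00009300010010030000000080010004002000080002000016408000028000000200001004000000000000010004442012010001000400000008000040018000080901800400400000c40500000011002013010020000500110101400000008014c020000020008020000004080020884000001c00000000000800020400584900000040102000000880000400010082000408004000540002000200030402000028000001004000041008200c0400000008001084200008210024004c00000080040001040000800000004012418000020180009a0200500010201000048044c0080000000200000008004000468805000219000500200004800004000a080000000000810010208010000202024100080000140102844000002400000080800222800a2c82000000001000002001000001800002800004800240102400000008081000640000000001000000084100000090000000a001024000000040200000000000004004080000808004100000100800800080000000000010000040000804000800200102000010082014000140060120000100310060004220c0071400011000003801000000008800008001002202400000800008000c02410040000101800220000180108880009900010040000001022160000000a1001400010100118010004000000,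
 nat_lit 0x23080000000000a000400800800a0006010080141004c0004202000100001020000000082504002008080810100000840404400010700000101020a0080008000c00800000001400400000004000000600010000000039408020000000100c000100000010000000000200004040000000c0020000000408210200066040001800110880000102800000060800010802010020009040000000024]

theorem Q3_for : Nat.beq (forestH 4096 hs ns [46] [108] [109] F0 Q3) X3 = true :=
  by decide +kernel

theorem Q3_big : allL Q3 (fun r => and' (wordIn (sTop A_S1) r.1) (Nat.blt 1560 (pcN 4096 12 (orb ns (bigW r.1) 3 1)))) = true :=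
  by decide +kernel

noncomputable def Q4 : List (List ℕ × T3) :=
  [([15, 11], (.N (.N (.N (.N (.N (.N .L .L (.N .L .L .L)) .L (.N .L .L .L)) .L (.N .L .L (.N .L .L (.N .L .L .L)))) .L (.N (.N .L (.N .L .L .L) (.N (.N .L .L .L) .L (.N .L .L .L))) .L (.N (.N .L (.N .L (.N .L .L .L) .L) .L) .L (.N .L .L (.N .L .L (.N .L .L .L)))))) (.N (.N (.N .L .L .L) (.N (.N (.N .L .L .L) (.N .L .L .L) .L) (.N (.N .L .L .L) .L .L) .L) .L) (.N (.N (.N .L .L .L) (.N .L (.N .L (.N .L .L .L) .L) .L) .L) (.N (.N .L (.N .L (.N .L .L .L) .L) .L) (.N .L (.N (.N .L .L .L) (.N .L .L .L) .L) .L) .L) .L) .L) (.N (.N .L (.N .L (.N (.N .L .L .L) .L .L) .L) (.N (.N .L .L .L) .L (.N .L .L (.N .L .L (.N .L .L .L))))) .L (.N (.N .L (.N .L (.N .L .L .L) .L) (.N .L .L (.N .L .L .L))) .L (.N (.N .L .L (.N .L .L (.N .L .L .L))) .L (.N .L .L (.N (.N .L .L .L) .L .L)))))) (.N (.N (.N (.N .L .L (.N .L .L (.N .L .L .L))) .L .L) (.N (.N (.N .L .L .L) (.N .L (.N .L .L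 .L) .L) .L) (.N (.N .L (.N .L (.N .L .L .L) .L) .L) (.N .L (.N .L (.N .L .L .L) .L) .L) .L) .L) .L) (.N (.N (.N (.N .L .L (.N .L .L .L)) .L .L) (.N (.N .L (.N .L (.N .L .L .L) .L) .L) (.N (.N .L .L .L) (.N .L (.N .L .L .L) .L) .L) .L) .L) (.N (.N .L (.N (.N .L (.N .L .L .L) .L) (.N .L (.N .L .L .L) .L) .L) .L) (.N (.N .L (.N .L (.N .L .L .L) .L) .L) (.N (.N .L (.N .L .L .L) .L) (.N (.N .L .L .L) .L .L) .L) .L) .L) .L) .L) (.N (.N .L (.N .L (.N (.N (.N .L .L .L) .L .L) .L .L) .L) (.N (.N .L .L (.N .L .L (.N .L .L (.N .L .L .L)))) .L (.N (.N .L .L (.N .L .L .L)) .L (.N (.N .L .L (.N .L .L .L)) .L (.N .L .L (.N .L .L .L)))))) .L (.N (.N .L (.N .L (.N .L .L .L) .L) (.N .L .L (.N .L .L (.N .L .L (.N .L .L .L))))) .L (.N (.N .L .L (.N .L .L (.N .L .L (.N .L .L .L)))) .L (.N (.N .L .L (.N .L .L (.N .L .L .L))) .L (.N (.N .L .L (.N .L .L .L)) .L .L))))))),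
 ([21, 11], (.N (.N (.N (.N (.N (.N .L .L (.N .L .L .L)) .L (.N .L .L .L)) .L (.N .L .L (.N .L .L (.N .L .L .L)))) .L (.N (.N .L (.N .L .L .L) (.N (.N .L .L .L) .L (.N .L .L .L))) .L (.N (.N .L (.N .L (.N .L .L .L) .L) .L) .L (.N .L .L (.N .L .L (.N .L .L .L)))))) (.N (.N (.N .L .L .L) (.N (.N (.N .L .L .L) (.N .L .L .L) .L) (.N (.N .L .L .L) .L .L) .L) .L) (.N (.N (.N .L .L .L) (.N .L (.N .L (.N .L .L .L) .L) .L) .L) (.N (.N .L (.N .L (.N .L .L .L) .L) .L) (.N .L (.N (.N .L .L .L) (.N .L .L .L) .L) .L) .L) .L) .L) (.N (.N .L (.N .L (.N (.N .L .L .L) .L .L) .L) (.N (.N .L .L .L) .L (.N .L .L (.N .L .L (.N .L .L .L))))) .L (.N (.N .L (.N .L (.N .L .L .L) .L) (.N .L .L (.N .L .L .L))) .L (.N (.N .L .L (.N .L .L (.N .L .L .L))) .L (.N .L .L (.N (.N .L .L .L) .L .L)))))) (.N (.N (.N (.N .L .L (.N .L .L (.N .L .L .L))) .L .L) (.N (.N (.N .L .L .L) (.N .L (.N .L .L .L) .L) .L) (.N (.N .L (.N .L (.N .L .L .L) .L) .L) (.N .L (.N .L (.N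 .L .L .L) .L) .L) .L) .L) .L) (.N (.N (.N (.N .L .L (.N .L .L .L)) .L .L) (.N (.N .L (.N .L (.N .L .L .L) .L) .L) (.N (.N .L .L .L) (.N .L (.N .L .L .L) .L) .L) .L) .L) (.N (.N .L (.N (.N .L (.N .L .L .L) .L) (.N .L (.N .L .L .L) .L) .L) .L) (.N (.N .L (.N .L (.N .L .L .L) .L) .L) (.N (.N .L (.N .L .L .L) .L) (.N (.N .L .L .L) .L .L) .L) .L) .L) .L) .L) (.N (.N .L (.N .L (.N (.N (.N .L .L .L) .L .L) .L .L) .L) (.N (.N .L .L (.N .L .L (.N .L .L (.N .L .L .L)))) .L (.N (.N .L .L (.N .L .L .L)) .L (.N (.N .L .L (.N .L .L .L)) .L (.N .L .L (.N .L .L .L)))))) .L (.N (.N .L (.N .L (.N .L .L .L) .L) (.N .L .L (.N .L .L (.N .L .L (.N .L .L .L))))) .L (.N (.N .L .L (.N .L .L (.N .L .L (.N .L .L .L)))) .L (.N (.N .L .L (.N .L .L (.N .L .L .L))) .L (.N (.N .L .L (.N .L .L .L)) .L .L))))))),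
 ([24, 11], (.N (.N (.N (.N (.N (.N .L .L (.N .L .L .L)) .L (.N .L .L .L)) .L (.N .L .L (.N .L .L (.N .L .L .L)))) .L (.N (.N .L (.N .L .L .L) (.N (.N .L .L .L) .L (.N .L .L .L))) .L (.N (.N .L (.N .L (.N .L .L .L) .L) .L) .L (.N .L .L (.N .L .L (.N .L .L .L)))))) (.N (.N (.N .L .L .L) (.N (.N (.N .L .L .L) (.N .L .L .L) .L) (.N (.N .L .L .L) .L .L) .L) .L) (.N (.N (.N .L .L .L) (.N .L (.N .L (.N .L .L .L) .L) .L) .L) (.N (.N .L (.N .L (.N .L .L .L) .L) .L) (.N .L (.N (.N .L .L .L) (.N .L .L .L) .L) .L) .L) .L) .L) (.N (.N .L (.N .L (.N (.N .L .L .L) .L .L) .L) (.N (.N .L .L .L) .L (.N .L .L (.N .L .L (.N .L .L .L))))) .L (.N (.N .L (.N .L (.N .L .L .L) .L) (.N .L .L (.N .L .L .L))) .L (.N (.N .L .L (.N .L .L (.N .L .L .L))) .L (.N .L .L (.N (.N .L .L .L) .L .L)))))) (.N (.N (.N (.N .L .L (.N .L .L (.N .L .L .L))) .L .L) (.N (.N (.N .L .L .L) (.N .L (.N .L .L .L) .L) .L) (.N (.N .L (.N .L (.N .L .L .L) .L) .L) (.N .L (.N .L (.N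 .L .L .L) .L) .L) .L) .L) .L) (.N (.N (.N (.N .L .L (.N .L .L .L)) .L .L) (.N (.N .L (.N .L (.N .L .L .L) .L) .L) (.N (.N .L .L .L) (.N .L (.N .L .L .L) .L) .L) .L) .L) (.N (.N .L (.N (.N .L (.N .L .L .L) .L) (.N .L (.N .L .L .L) .L) .L) .L) (.N (.N .L (.N .L (.N .L .L .L) .L) .L) (.N (.N .L (.N .L .L .L) .L) (.N (.N .L .L .L) .L .L) .L) .L) .L) .L) .L) (.N (.N .L (.N .L (.N (.N (.N .L .L .L) .L .L) .L .L) .L) (.N (.N .L .L (.N .L .L (.N .L .L (.N .L .L .L)))) .L (.N (.N .L .L (.N .L .L .L)) .L (.N (.N .L .L (.N .L .L .L)) .L (.N .L .L (.N .L .L .L)))))) .L (.N (.N .L (.N .L (.N .L .L .L) .L) (.N .L .L (.N .L .L (.N .L .L (.N .L .L .L))))) .L (.N (.N .L .L (.N .L .L (.N .L .L (.N .L .L .L)))) .L (.N (.N .L .L (.N .L .L (.N .L .L .L))) .L (.N (.N .L .L (.N .L .L .L)) .L .L))))))),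
 ([26, 11], (.N (.N (.N (.N (.N (.N .L .L (.N .L .L .L)) .L (.N .L .L .L)) .L (.N .L .L (.N .L .L (.N .L .L .L)))) .L (.N (.N .L (.N .L .L .L) (.N (.N .L .L .L) .L (.N .L .L .L))) .L (.N (.N .L (.N .L (.N .L .L .L) .L) .L) .L (.N .L .L (.N .L .L (.N .L .L .L)))))) (.N (.N (.N .L .L .L) (.N (.N (.N .L .L .L) (.N .L .L .L) .L) (.N (.N .L .L .L) .L .L) .L) .L) (.N (.N (.N .L .L .L) (.N .L (.N .L (.N .L .L .L) .L) .L) .L) (.N (.N .L (.N .L (.N .L .L .L) .L) .L) (.N .L (.N (.N .L .L .L) (.N .L .L .L) .L) .L) .L) .L) .L) (.N (.N .L (.N .L (.N (.N .L .L .L) .L .L) .L) (.N (.N .L .L .L) .L (.N .L .L (.N .L .L (.N .L .L .L))))) .L (.N (.N .L (.N .L (.N .L .L .L) .L) (.N .L .L (.N .L .L .L))) .L (.N (.N .L .L (.N .L .L (.N .L .L .L))) .L (.N .L .L (.N (.N .L .L .L) .L .L)))))) (.N (.N (.N (.N .L .L (.N .L .L (.N .L .L .L))) .L .L) (.N (.N (.N .L .L .L) (.N .L (.N .L .L .L) .L) .L) (.N (.N .L (.N .L (.N .L .L .L) .L) .L) (.N .L (.N .L (.N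 .L .L .L) .L) .L) .L) .L) .L) (.N (.N (.N (.N .L .L (.N .L .L .L)) .L .L) (.N (.N .L (.N .L (.N .L .L .L) .L) .L) (.N (.N .L .L .L) (.N .L (.N .L .L .L) .L) .L) .L) .L) (.N (.N .L (.N (.N .L (.N .L .L .L) .L) (.N .L (.N .L .L .L) .L) .L) .L) (.N (.N .L (.N .L (.N .L .L .L) .L) .L) (.N (.N .L (.N .L .L .L) .L) (.N (.N .L .L .L) .L .L) .L) .L) .L) .L) .L) (.N (.N .L (.N .L (.N (.N (.N .L .L .L) .L .L) .L .L) .L) (.N (.N .L .L (.N .L .L (.N .L .L (.N .L .L .L)))) .L (.N (.N .L .L (.N .L .L .L)) .L (.N (.N .L .L (.N .L .L .L)) .L (.N .L .L (.N .L .L .L)))))) .L (.N (.N .L (.N .L (.N .L .L .L) .L) (.N .L .L (.N .L .L (.N .L .L (.N .L .L .L))))) .L (.N (.N .L .L (.N .L .L (.N .L .L (.N .L .L .L)))) .L (.N (.N .L .L (.N .L .L (.N .L .L .L))) .L (.N (.N .L .L (.N .L .L .L)) .L .L))))))),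
 ([27, 11], (.N (.N (.N (.N (.N (.N .L .L (.N .L .L .L)) .L (.N .L .L .L)) .L (.N .L .L (.N .L .L (.N .L .L .L)))) .L (.N (.N .L (.N .L .L .L) (.N (.N .L .L .L) .L (.N .L .L .L))) .L (.N (.N .L (.N .L (.N .L .L .L) .L) .L) .L (.N .L .L (.N .L .L (.N .L .L .L)))))) (.N (.N (.N .L .L .L) (.N (.N (.N .L .L .L) (.N .L .L .L) .L) (.N (.N .L .L .L) .L .L) .L) .L) (.N (.N (.N .L .L .L) (.N .L (.N .L (.N .L .L .L) .L) .L) .L) (.N (.N .L (.N .L (.N .L .L .L) .L) .L) (.N .L (.N (.N .L .L .L) (.N .L .L .L) .L) .L) .L) .L) .L) (.N (.N .L (.N .L (.N (.N .L .L .L) .L .L) .L) (.N (.N .L .L .L) .L (.N .L .L (.N .L .L (.N .L .L .L))))) .L (.N (.N .L (.N .L (.N .L .L .L) .L) (.N .L .L (.N .L .L .L))) .L (.N (.N .L .L (.N .L .L (.N .L .L .L))) .L (.N .L .L (.N (.N .L .L .L) .L .L)))))) (.N (.N (.N (.N .L .L (.N .L .L (.N .L .L .L))) .L .L) (.N (.N (.N .L .L .L) (.N .L (.N .L .L .L) .L) .L) (.N (.N .L (.N .L (.N .L .L .L) .L) .L) (.N .L (.N .L (.N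 .L .L .L) .L) .L) .L) .L) .L) (.N (.N (.N (.N .L .L (.N .L .L .L)) .L .L) (.N (.N .L (.N .L (.N .L .L .L) .L) .L) (.N (.N .L .L .L) (.N .L (.N .L .L .L) .L) .L) .L) .L) (.N (.N .L (.N (.N .L (.N .L .L .L) .L) (.N .L (.N .L .L .L) .L) .L) .L) (.N (.N .L (.N .L (.N .L .L .L) .L) .L) (.N (.N .L (.N .L .L .L) .L) (.N (.N .L .L .L) .L .L) .L) .L) .L) .L) .L) (.N (.N .L (.N .L (.N (.N (.N .L .L .L) .L .L) .L .L) .L) (.N (.N .L .L (.N .L .L (.N .L .L (.N .L .L .L)))) .L (.N (.N .L .L (.N .L .L .L)) .L (.N (.N .L .L (.N .L .L .L)) .L (.N .L .L (.N .L .L .L)))))) .L (.N (.N .L (.N .L (.N .L .L .L) .L) (.N .L .L (.N .L .L (.N .L .L (.N .L .L .L))))) .L (.N (.N .L .L (.N .L .L (.N .L .L (.N .L .L .L)))) .L (.N (.N .L .L (.N .L .L (.N .L .L .L))) .L (.N (.N .L .L (.N .L .L .L)) .L .L))))))),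
 ([28, 11], (.N (.N (.N (.N (.N (.N .L .L (.N .L .L .L)) .L (.N .L .L .L)) .L (.N .L .L (.N .L .L (.N .L .L .L)))) .L (.N (.N .L (.N .L .L .L) (.N (.N .L .L .L) .L (.N .L .L .L))) .L (.N (.N .L (.N .L (.N .L .L .L) .L) .L) .L (.N .L .L (.N .L .L (.N .L .L .L)))))) (.N (.N (.N .L .L .L) (.N (.N (.N .L .L .L) (.N .L .L .L) .L) (.N (.N .L .L .L) .L .L) .L) .L) (.N (.N (.N .L .L .L) (.N .L (.N .L (.N .L .L .L) .L) .L) .L) (.N (.N .L (.N .L (.N .L .L .L) .L) .L) (.N .L (.N (.N .L .L .L) (.N .L .L .L) .L) .L) .L) .L) .L) (.N (.N .L (.N .L (.N (.N .L .L .L) .L .L) .L) (.N (.N .L .L .L) .L (.N .L .L (.N .L .L (.N .L .L .L))))) .L (.N (.N .L (.N .L (.N .L .L .L) .L) (.N .L .L (.N .L .L .L))) .L (.N (.N .L .L (.N .L .L (.N .L .L .L))) .L (.N .L .L (.N (.N .L .L .L) .L .L)))))) (.N (.N (.N (.N .L .L (.N .L .L (.N .L .L .L))) .L .L) (.N (.N (.N .L .L .L) (.N .L (.N .L .L .L) .L) .L) (.N (.N .L (.N .L (.N .L .L .L) .L) .L) (.N .L (.N .L (.N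 .L .L .L) .L) .L) .L) .L) .L) (.N (.N (.N (.N .L .L (.N .L .L .L)) .L .L) (.N (.N .L (.N .L (.N .L .L .L) .L) .L) (.N (.N .L .L .L) (.N .L (.N .L .L .L) .L) .L) .L) .L) (.N (.N .L (.N (.N .L (.N .L .L .L) .L) (.N .L (.N .L .L .L) .L) .L) .L) (.N (.N .L (.N .L (.N .L .L .L) .L) .L) (.N (.N .L (.N .L .L .L) .L) (.N (.N .L .L .L) .L .L) .L) .L) .L) .L) .L) (.N (.N .L (.N .L (.N (.N (.N .L .L .L) .L .L) .L .L) .L) (.N (.N .L .L (.N .L .L (.N .L .L (.N .L .L .L)))) .L (.N (.N .L .L (.N .L .L .L)) .L (.N (.N .L .L (.N .L .L .L)) .L (.N .L .L (.N .L .L .L)))))) .L (.N (.N .L (.N .L (.N .L .L .L) .L) (.N .L .L (.N .L .L (.N .L .L (.N .L .L .L))))) .L (.N (.N .L .L (.N .L .L (.N .L .L (.N .L .L .L)))) .L (.N (.N .L .L (.N .L .L (.N .L .L .L))) .L (.N (.N .L .L (.N .L .L .L)) .L .L))))))),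
 ([30, 11], (.N (.N (.N (.N (.N (.N .L .L (.N .L .L .L)) .L (.N .L .L .L)) .L (.N .L .L (.N .L .L (.N .L .L .L)))) .L (.N (.N .L (.N .L .L .L) (.N (.N .L .L .L) .L (.N .L .L .L))) .L (.N (.N .L (.N .L (.N .L .L .L) .L) .L) .L (.N .L .L (.N .L .L (.N .L .L .L)))))) (.N (.N (.N .L .L .L) (.N (.N (.N .L .L .L) (.N .L .L .L) .L) (.N (.N .L .L .L) .L .L) .L) .L) (.N (.N (.N .L .L .L) (.N .L (.N .L (.N .L .L .L) .L) .L) .L) (.N (.N .L (.N .L (.N .L .L .L) .L) .L) (.N .L (.N (.N .L .L .L) (.N .L .L .L) .L) .L) .L) .L) .L) (.N (.N .L (.N .L (.N (.N .L .L .L) .L .L) .L) (.N (.N .L .L .L) .L (.N .L .L (.N .L .L (.N .L .L .L))))) .L (.N (.N .L (.N .L (.N .L .L .L) .L) (.N .L .L (.N .L .L .L))) .L (.N (.N .L .L (.N .L .L (.N .L .L .L))) .L (.N .L .L (.N (.N .L .L .L) .L .L)))))) (.N (.N (.N (.N .L .L (.N .L .L (.N .L .L .L))) .L .L) (.N (.N (.N .L .L .L) (.N .L (.N .L .L .L) .L) .L) (.N (.N .L (.N .L (.N .L .L .L) .L) .L) (.N .L (.N .L (.N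 .L .L .L) .L) .L) .L) .L) .L) (.N (.N (.N (.N .L .L (.N .L .L .L)) .L .L) (.N (.N .L (.N .L (.N .L .L .L) .L) .L) (.N (.N .L .L .L) (.N .L (.N .L .L .L) .L) .L) .L) .L) (.N (.N .L (.N (.N .L (.N .L .L .L) .L) (.N .L (.N .L .L .L) .L) .L) .L) (.N (.N .L (.N .L (.N .L .L .L) .L) .L) (.N (.N .L (.N .L .L .L) .L) (.N (.N .L .L .L) .L .L) .L) .L) .L) .L) .L) (.N (.N .L (.N .L (.N (.N (.N .L .L .L) .L .L) .L .L) .L) (.N (.N .L .L (.N .L .L (.N .L .L (.N .L .L .L)))) .L (.N (.N .L .L (.N .L .L .L)) .L (.N (.N .L .L (.N .L .L .L)) .L (.N .L .L (.N .L .L .L)))))) .L (.N (.N .L (.N .L (.N .L .L .L) .L) (.N .L .L (.N .L .L (.N .L .L (.N .L .L .L))))) .L (.N (.N .L .L (.N .L .L (.N .L .L (.N .L .L .L)))) .L (.N (.N .L .L (.N .L .L (.N .L .L .L))) .L (.N (.N .L .L (.N .L .L .L)) .L .L))))))),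
 ([34, 11], (.N (.N (.N (.N (.N (.N .L .L (.N .L .L .L)) .L (.N .L .L .L)) .L (.N .L .L (.N .L .L (.N .L .L .L)))) .L (.N (.N .L (.N .L .L .L) (.N (.N .L .L .L) .L (.N .L .L .L))) .L (.N (.N .L (.N .L (.N .L .L .L) .L) .L) .L (.N .L .L (.N .L .L (.N .L .L .L)))))) (.N (.N (.N .L .L .L) (.N (.N (.N .L .L .L) (.N .L .L .L) .L) (.N (.N .L .L .L) .L .L) .L) .L) (.N (.N (.N .L .L .L) (.N .L (.N .L (.N .L .L .L) .L) .L) .L) (.N (.N .L (.N .L (.N .L .L .L) .L) .L) (.N .L (.N (.N .L .L .L) (.N .L .L .L) .L) .L) .L) .L) .L) (.N (.N .L (.N .L (.N (.N .L .L .L) .L .L) .L) (.N (.N .L .L .L) .L (.N .L .L (.N .L .L (.N .L .L .L))))) .L (.N (.N .L (.N .L (.N .L .L .L) .L) (.N .L .L (.N .L .L .L))) .L (.N (.N .L .L (.N .L .L (.N .L .L .L))) .L (.N .L .L (.N (.N .L .L .L) .L .L)))))) (.N (.N (.N (.N .L .L (.N .L .L (.N .L .L .L))) .L .L) (.N (.N (.N .L .L .L) (.N .L (.N .L .L .L) .L) .L) (.N (.N .L (.N .L (.N .L .L .L) .L) .L) (.N .L (.N .L (.N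 .L .L .L) .L) .L) .L) .L) .L) (.N (.N (.N (.N .L .L (.N .L .L .L)) .L .L) (.N (.N .L (.N .L (.N .L .L .L) .L) .L) (.N (.N .L .L .L) (.N .L (.N .L .L .L) .L) .L) .L) .L) (.N (.N .L (.N (.N .L (.N .L .L .L) .L) (.N .L (.N .L .L .L) .L) .L) .L) (.N (.N .L (.N .L (.N .L .L .L) .L) .L) (.N (.N .L (.N .L .L .L) .L) (.N (.N .L .L .L) .L .L) .L) .L) .L) .L) .L) (.N (.N .L (.N .L (.N (.N (.N .L .L .L) .L .L) .L .L) .L) (.N (.N .L .L (.N .L .L (.N .L .L (.N .L .L .L)))) .L (.N (.N .L .L (.N .L .L .L)) .L (.N (.N .L .L (.N .L .L .L)) .L (.N .L .L (.N .L .L .L)))))) .L (.N (.N .L (.N .L (.N .L .L .L) .L) (.N .L .L (.N .L .L (.N .L .L (.N .L .L .L))))) .L (.N (.N .L .L (.N .L .L (.N .L .L (.N .L .L .L)))) .L (.N (.N .L .L (.N .L .L (.N .L .L .L))) .L (.N (.N .L .L (.N .L .L .L)) .L .L))))))),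
 ([35, 11], (.N (.N (.N (.N (.N (.N .L .L (.N .L .L .L)) .L (.N .L .L .L)) .L (.N .L .L (.N .L .L (.N .L .L .L)))) .L (.N (.N .L (.N .L .L .L) (.N (.N .L .L .L) .L (.N .L .L .L))) .L (.N (.N .L (.N .L (.N .L .L .L) .L) .L) .L (.N .L .L (.N .L .L (.N .L .L .L)))))) (.N (.N (.N .L .L .L) (.N (.N (.N .L .L .L) (.N .L .L .L) .L) (.N (.N .L .L .L) .L .L) .L) .L) (.N (.N (.N .L .L .L) (.N .L (.N .L (.N .L .L .L) .L) .L) .L) (.N (.N .L (.N .L (.N .L .L .L) .L) .L) (.N .L (.N (.N .L .L .L) (.N .L .L .L) .L) .L) .L) .L) .L) (.N (.N .L (.N .L (.N (.N .L .L .L) .L .L) .L) (.N (.N .L .L .L) .L (.N .L .L (.N .L .L (.N .L .L .L))))) .L (.N (.N .L (.N .L (.N .L .L .L) .L) (.N .L .L (.N .L .L .L))) .L (.N (.N .L .L (.N .L .L (.N .L .L .L))) .L (.N .L .L (.N (.N .L .L .L) .L .L)))))) (.N (.N (.N (.N .L .L (.N .L .L (.N .L .L .L))) .L .L) (.N (.N (.N .L .L .L) (.N .L (.N .L .L .L) .L) .L) (.N (.N .L (.N .L (.N .L .L .L) .L) .L) (.N .L (.N .L (.N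 .L .L .L) .L) .L) .L) .L) .L) (.N (.N (.N (.N .L .L (.N .L .L .L)) .L .L) (.N (.N .L (.N .L (.N .L .L .L) .L) .L) (.N (.N .L .L .L) (.N .L (.N .L .L .L) .L) .L) .L) .L) (.N (.N .L (.N (.N .L (.N .L .L .L) .L) (.N .L (.N .L .L .L) .L) .L) .L) (.N (.N .L (.N .L (.N .L .L .L) .L) .L) (.N (.N .L (.N .L .L .L) .L) (.N (.N .L .L .L) .L .L) .L) .L) .L) .L) .L) (.N (.N .L (.N .L (.N (.N (.N .L .L .L) .L .L) .L .L) .L) (.N (.N .L .L (.N .L .L (.N .L .L (.N .L .L .L)))) .L (.N (.N .L .L (.N .L .L .L)) .L (.N (.N .L .L (.N .L .L .L)) .L (.N .L .L (.N .L .L .L)))))) .L (.N (.N .L (.N .L (.N .L .L .L) .L) (.N .L .L (.N .L .L (.N .L .L (.N .L .L .L))))) .L (.N (.N .L .L (.N .L .L (.N .L .L (.N .L .L .L)))) .L (.N (.N .L .L (.N .L .L (.N .L .L .L))) .L (.N (.N .L .L (.N .L .L .L)) .L .L))))))),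
 ([36, 11], (.N (.N (.N (.N (.N (.N .L .L .L) .L (.N .L .L .L)) .L (.N .L .L (.N .L .L .L))) .L (.N (.N .L (.N .L .L .L) (.N (.N .L .L .L) .L .L)) .L (.N (.N .L (.N .L (.N .L .L .L) .L) .L) .L (.N .L .L .L)))) (.N (.N (.N .L .L .L) (.N (.N .L .L .L) .L .L) .L) (.N (.N (.N .L .L .L) .L .L) (.N (.N .L .L .L) .L .L) .L) .L) (.N (.N .L (.N .L (.N (.N .L .L .L) .L .L) .L) (.N .L .L (.N .L .L .L))) .L (.N (.N .L (.N .L (.N .L .L .L) .L) (.N .L .L .L)) .L (.N (.N .L .L .L) .L .L)))) (.N (.N (.N (.N .L .L (.N .L .L (.N .L .L .L))) .L .L) (.N (.N (.N .L .L .L) (.N .L .L .L) .L) (.N .L .L .L) .L) .L) (.N (.N (.N (.N .L .L (.N .L .L .L)) .L .L) .L .L) (.N (.N .L .L .L) (.N .L (.N .L .L .L) .L) .L) .L) .L) (.N (.N .L (.N .L (.N (.N (.N .L .L .L) .L .L) .L .L) .L) (.N (.N .L .L .L) .L (.N .L .L (.N .L .L .L)))) .L (.N (.N .L (.N .L (.N .L .L .L) .L) .L) .L (.N .L .L .L))))),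
 ([42, 11], (.N (.N (.N (.N (.N (.N .L .L (.N .L .L .L)) .L (.N .L .L .L)) .L (.N .L .L (.N .L .L (.N .L .L .L)))) .L (.N (.N .L (.N .L .L .L) (.N (.N .L .L .L) .L (.N .L .L .L))) .L (.N (.N .L (.N .L (.N .L .L .L) .L) .L) .L (.N .L .L (.N .L .L (.N .L .L .L)))))) (.N (.N (.N .L .L .L) (.N (.N (.N .L .L .L) (.N .L .L .L) .L) (.N (.N .L .L .L) .L .L) .L) .L) (.N (.N (.N .L .L .L) (.N .L (.N .L (.N .L .L .L) .L) .L) .L) (.N (.N .L (.N .L (.N .L .L .L) .L) .L) (.N .L (.N (.N .L .L .L) (.N .L .L .L) .L) .L) .L) .L) .L) (.N (.N .L (.N .L (.N (.N .L .L .L) .L .L) .L) (.N (.N .L .L .L) .L (.N .L .L (.N .L .L (.N .L .L .L))))) .L (.N (.N .L (.N .L (.N .L .L .L) .L) (.N .L .L (.N .L .L .L))) .L (.N (.N .L .L (.N .L .L (.N .L .L .L))) .L (.N .L .L (.N (.N .L .L .L) .L .L)))))) (.N (.N (.N (.N .L .L (.N .L .L (.N .L .L .L))) .L .L) (.N (.N (.N .L .L .L) (.N .L (.N .L .L .L) .L) .L) (.N (.N .L (.N .L (.N .L .L .L) .L) .L) (.N .L (.N .L (.N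 .L .L .L) .L) .L) .L) .L) .L) (.N (.N (.N (.N .L .L (.N .L .L .L)) .L .L) (.N (.N .L (.N .L (.N .L .L .L) .L) .L) (.N (.N .L .L .L) (.N .L (.N .L .L .L) .L) .L) .L) .L) (.N (.N .L (.N (.N .L (.N .L .L .L) .L) (.N .L (.N .L .L .L) .L) .L) .L) (.N (.N .L (.N .L (.N .L .L .L) .L) .L) (.N (.N .L (.N .L .L .L) .L) (.N (.N .L .L .L) .L .L) .L) .L) .L) .L) .L) (.N (.N .L (.N .L (.N (.N (.N .L .L .L) .L .L) .L .L) .L) (.N (.N .L .L (.N .L .L (.N .L .L (.N .L .L .L)))) .L (.N (.N .L .L (.N .L .L .L)) .L (.N (.N .L .L (.N .L .L .L)) .L (.N .L .L (.N .L .L .L)))))) .L (.N (.N .L (.N .L (.N .L .L .L) .L) (.N .L .L (.N .L .L (.N .L .L (.N .L .L .L))))) .L (.N (.N .L .L (.N .L .L (.N .L .L (.N .L .L .L)))) .L (.N (.N .L .L (.N .L .L (.N .L .L .L))) .L (.N (.N .L .L (.N .L .L .L)) .L .L))))))),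
 ([44, 11], (.N (.N (.N (.N (.N (.N .L .L (.N .L .L .L)) .L (.N .L .L .L)) .L (.N .L .L (.N .L .L (.N .L .L .L)))) .L (.N (.N .L (.N .L .L .L) (.N (.N .L .L .L) .L (.N .L .L .L))) .L (.N (.N .L (.N .L (.N .L .L .L) .L) .L) .L (.N .L .L (.N .L .L (.N .L .L .L)))))) (.N (.N (.N .L .L .L) (.N (.N (.N .L .L .L) (.N .L .L .L) .L) (.N (.N .L .L .L) .L .L) .L) .L) (.N (.N (.N .L .L .L) (.N .L (.N .L (.N .L .L .L) .L) .L) .L) (.N (.N .L (.N .L (.N .L .L .L) .L) .L) (.N .L (.N (.N .L .L .L) (.N .L .L .L) .L) .L) .L) .L) .L) (.N (.N .L (.N .L (.N (.N .L .L .L) .L .L) .L) (.N (.N .L .L .L) .L (.N .L .L (.N .L .L (.N .L .L .L))))) .L (.N (.N .L (.N .L (.N .L .L .L) .L) (.N .L .L (.N .L .L .L))) .L (.N (.N .L .L (.N .L .L (.N .L .L .L))) .L (.N .L .L (.N (.N .L .L .L) .L .L)))))) (.N (.N (.N (.N .L .L (.N .L .L (.N .L .L .L))) .L .L) (.N (.N (.N .L .L .L) (.N .L (.N .L .L .L) .L) .L) (.N (.N .L (.N .L (.N .L .L .L) .L) .L) (.N .L (.N .L (.N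 .L .L .L) .L) .L) .L) .L) .L) (.N (.N (.N (.N .L .L (.N .L .L .L)) .L .L) (.N (.N .L (.N .L (.N .L .L .L) .L) .L) (.N (.N .L .L .L) (.N .L (.N .L .L .L) .L) .L) .L) .L) (.N (.N .L (.N (.N .L (.N .L .L .L) .L) (.N .L (.N .L .L .L) .L) .L) .L) (.N (.N .L (.N .L (.N .L .L .L) .L) .L) (.N (.N .L (.N .L .L .L) .L) (.N (.N .L .L .L) .L .L) .L) .L) .L) .L) .L) (.N (.N .L (.N .L (.N (.N (.N .L .L .L) .L .L) .L .L) .L) (.N (.N .L .L (.N .L .L (.N .L .L (.N .L .L .L)))) .L (.N (.N .L .L (.N .L .L .L)) .L (.N (.N .L .L (.N .L .L .L)) .L (.N .L .L (.N .L .L .L)))))) .L (.N (.N .L (.N .L (.N .L .L .L) .L) (.N .L .L (.N .L .L (.N .L .L (.N .L .L .L))))) .L (.N (.N .L .L (.N .L .L (.N .L .L (.N .L .L .L)))) .L (.N (.N .L .L (.N .L .L (.N .L .L .L))) .L (.N (.N .L .L (.N .L .L .L)) .L .L)))))))]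

noncomputable def X4 : ℕ :=
  cat 4096 [nat_lit 0x102008021400000420088004110b8004102200088004007070004500002014000408046001501120500000000020000000020004e811080020800800020006b0400102140220080400880020040000000080432200011800402010100200180800c0000004008190400800b001200004180000002a0280585000a001009040105400000001000802002020000000080080220105840850050002000006002002021104800040000000010000002000800150001000091b00000022680000020000200002000000002000443000010900041050000800020800060020c51800402180000001002040160040044088000020400000010140000041040169041020100010004822100100444008000000000400200000040104044010010000000301000202000000252880010000001031000000004840081000024008000800044202442000004400094011004141822284000080000000000404000000080200000410000002020000248400404800610002408a00000008000408100810000010000000000000841220000002080000000000000800000200688002080012004010000001482040000000800400002000000000010000000400404200002000200400000407000000104d000008100001c004180800902000040080420010008080100858000004002200101800000440110000000000040800a00004088002,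
 nat_lit 0x40010840015000000008310108000008000400000000000018004040800021000080208801442000000120020800000000490000200308100104180000400800200100310001000100004002001012002000010020000000080000000082002000a0000000044000000080408010001040000010812108049000000000210000c00005000d00000020000208124000000004001000010802805620408000010000008900c48030000090408000004400000602001000104404000284010000680080000a2004400100021202000105010800004004043002441200000000840020011001004080101040000020020000000000000080400008042100080060000000008627010008404d0000c00000000004420006000004000900000000000028200200042a000000000000020400008209000606204110210000022500080024000408008004002800400001510040000a00000401020000000031011c02400000402000080050d40088040000c0001004838000400204000912000000010040000000400060000001008008010000000000010400400000100002012004a80100001800000402018081050010082000200000000400190000000012000042020001000000004000040000008010001000400300400080102820c8b08044033000030105100800000091000016404010081001200002c90001400020081,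
 nat_lit 0x480400815000520040708c01602010110941000400008800180804000040008000100000804000010052000800040042100100000c000010492004000800061400280000000000441000050000000004001001100040001140422400200810080000084804000211000000050000000040220008082100800000000200200002040000024140000004029000800000000001020104050108080010880402110008000410800044b00000002000240003000040c0b02002128040000000060081000000012004000002080812000300004000810002220000000801008418420000200010008008280100010001002e0400010000808140a204880080000000a0010080000000000001510940034000000441040d00080140890000042110010901002511001211d00050200000030000a0002080410400000000150040006000a000200820044800408040400403800182001112420160200000010002040000c00000100002000000400000000000410080000010000000408000000000020002000200208100020000006410220002004000100000580000402008c0280001244001008000108000008092000008044000018400510100001408000001000000005500051000054000045860082500100400000081000080000000008000d00290000008200002004004000006003000000000200040024200020100a8,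
 nat_lit 0x10001c0440204004050400482000200000c200040001006000021240056005000000000400202004010100000020800004c0100401800100a040400800100100000281280000000000000000000010c001010500100000804400080000024000000588042411460042000050200000240021500000002000410449000418800284100000010408000000290400000000004000000000060010080000008400011040513000044402026080012100010c2004000900100004002954000000000220424008a00110802000000000c0004001001102810150200000400000020580020000000c0b8000200200000800420080248001000000002000008805400200080219100410100400004022001000000001081030002004000000020280000100000cc0000104104900002000800800000404000000001000810104200821000040240048200000102980001128100010001210000100600000020041044840042404000000042000021200080410100000100048000000810010040000a280600011080020001401000100808008000040001008040041208008000000000000000008000000200000200401000008400400000000800000010002821401002800000000000040108019a400000002001120c0004000800800000014008e000800000000408200801400808010a40000810001001007000200a82510000,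
 nat_lit 0x82088041008890000801100000004900402000000000020800544404009000c0400000000480200120004060800090008020080400000006001000020000022030000020000894000830000046000010000aa0440020424404000003004700100110100204000000000020c00012200600040210060008448000200001000014182140008000032000000008100c001002000002000010000108]

theorem Q4_for : Nat.beq (forestH 4096 hs ns [46] [108] [109] F0 Q4) X4 = true :=
  by decide +kernel

theorem Q4_big : allL Q4 (fun r => and' (wordIn (sTop A_S1) r.1) (Nat.blt 1560 (pcN 4096 12 (orb ns (bigW r.1) 3 1)))) = true :=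
  by decide +kernel

noncomputable def Q5 : List (List ℕ × T3) :=
  [([45, 11], (.N (.N (.N (.N (.N (.N .L .L (.N .L .L .L)) .L (.N .L .L .L)) .L (.N .L .L (.N .L .L (.N .L .L .L)))) .L (.N (.N .L (.N .L .L .L) (.N (.N .L .L .L) .L (.N .L .L .L))) .L (.N (.N .L (.N .L (.N .L .L .L) .L) .L) .L (.N .L .L (.N .L .L (.N .L .L .L)))))) (.N (.N (.N .L .L .L) (.N (.N (.N .L .L .L) (.N .L .L .L) .L) (.N (.N .L .L .L) .L .L) .L) .L) (.N (.N (.N .L .L .L) (.N .L (.N .L (.N .L .L .L) .L) .L) .L) (.N (.N .L (.N .L (.N .L .L .L) .L) .L) (.N .L (.N (.N .L .L .L) (.N .L .L .L) .L) .L) .L) .L) .L) (.N (.N .L (.N .L (.N (.N .L .L .L) .L .L) .L) (.N (.N .L .L .L) .L (.N .L .L (.N .L .L (.N .L .L .L))))) .L (.N (.N .L (.N .L (.N .L .L .L) .L) (.N .L .L (.N .L .L .L))) .L (.N (.N .L .L (.N .L .L (.N .L .L .L))) .L (.N .L .L (.N (.N .L .L .L) .L .L)))))) (.N (.N (.N (.N .L .L (.N .L .L (.N .L .L .L))) .L .L) (.N (.N (.N .L .L .L) (.N .L (.N .L .L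 .L) .L) .L) (.N (.N .L (.N .L (.N .L .L .L) .L) .L) (.N .L (.N .L (.N .L .L .L) .L) .L) .L) .L) .L) (.N (.N (.N (.N .L .L (.N .L .L .L)) .L .L) (.N (.N .L (.N .L (.N .L .L .L) .L) .L) (.N (.N .L .L .L) (.N .L (.N .L .L .L) .L) .L) .L) .L) (.N (.N .L (.N (.N .L (.N .L .L .L) .L) (.N .L (.N .L .L .L) .L) .L) .L) (.N (.N .L (.N .L (.N .L .L .L) .L) .L) (.N (.N .L (.N .L .L .L) .L) (.N (.N .L .L .L) .L .L) .L) .L) .L) .L) .L) (.N (.N .L (.N .L (.N (.N (.N .L .L .L) .L .L) .L .L) .L) (.N (.N .L .L (.N .L .L (.N .L .L (.N .L .L .L)))) .L (.N (.N .L .L (.N .L .L .L)) .L (.N (.N .L .L (.N .L .L .L)) .L (.N .L .L (.N .L .L .L)))))) .L (.N (.N .L (.N .L (.N .L .L .L) .L) (.N .L .L (.N .L .L (.N .L .L (.N .L .L .L))))) .L (.N (.N .L .L (.N .L .L (.N .L .L (.N .L .L .L)))) .L (.N (.N .L .L (.N .L .L (.N .L .L .L))) .L (.N (.N .L .L (.N .L .L .L)) .L .L))))))),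
 ([11, 12], (.N (.N (.N (.N (.N (.N .L .L (.N .L .L .L)) .L (.N .L .L .L)) .L (.N .L .L (.N .L .L (.N .L .L .L)))) .L (.N (.N .L (.N .L .L .L) (.N (.N .L .L .L) .L (.N .L .L .L))) .L (.N (.N .L (.N .L (.N .L .L .L) .L) .L) .L (.N .L .L (.N .L .L (.N .L .L .L)))))) (.N (.N (.N .L .L .L) (.N (.N (.N .L .L .L) (.N .L .L .L) .L) (.N (.N .L .L .L) .L .L) .L) .L) (.N (.N (.N .L .L .L) (.N .L (.N .L (.N .L .L .L) .L) .L) .L) (.N (.N .L (.N .L (.N .L .L .L) .L) .L) (.N .L (.N (.N .L .L .L) (.N .L .L .L) .L) .L) .L) .L) .L) (.N (.N .L (.N .L (.N (.N .L .L .L) .L .L) .L) (.N (.N .L .L .L) .L (.N .L .L (.N .L .L (.N .L .L .L))))) .L (.N (.N .L (.N .L (.N .L .L .L) .L) (.N .L .L (.N .L .L .L))) .L (.N (.N .L .L (.N .L .L (.N .L .L .L))) .L (.N .L .L (.N (.N .L .L .L) .L .L)))))) (.N (.N (.N (.N .L .L (.N .L .L (.N .L .L .L))) .L .L) (.N (.N (.N .L .L .L) (.N .L (.N .L .L .L) .L) .L) (.N (.N .L (.N .L (.N .L .L .L) .L) .L) (.N .L (.N .L (.N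 .L .L .L) .L) .L) .L) .L) .L) (.N (.N (.N (.N .L .L (.N .L .L .L)) .L .L) (.N (.N .L (.N .L (.N .L .L .L) .L) .L) (.N (.N .L .L .L) (.N .L (.N .L .L .L) .L) .L) .L) .L) (.N (.N .L (.N (.N .L (.N .L .L .L) .L) (.N .L (.N .L .L .L) .L) .L) .L) (.N (.N .L (.N .L (.N .L .L .L) .L) .L) (.N (.N .L (.N .L .L .L) .L) (.N (.N .L .L .L) .L .L) .L) .L) .L) .L) .L) (.N (.N .L (.N .L (.N (.N (.N .L .L .L) .L .L) .L .L) .L) (.N (.N .L .L (.N .L .L (.N .L .L (.N .L .L .L)))) .L (.N (.N .L .L (.N .L .L .L)) .L (.N (.N .L .L (.N .L .L .L)) .L (.N .L .L (.N .L .L .L)))))) .L (.N (.N .L (.N .L (.N .L .L .L) .L) (.N .L .L (.N .L .L (.N .L .L (.N .L .L .L))))) .L (.N (.N .L .L (.N .L .L (.N .L .L (.N .L .L .L)))) .L (.N (.N .L .L (.N .L .L (.N .L .L .L))) .L (.N (.N .L .L (.N .L .L .L)) .L .L))))))),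
 ([12, 12], (.N (.N (.N (.N (.N (.N .L .L (.N .L .L .L)) .L (.N .L .L .L)) .L (.N .L .L (.N .L .L (.N .L .L .L)))) .L (.N (.N .L (.N .L .L .L) (.N (.N .L .L .L) .L (.N .L .L .L))) .L (.N (.N .L (.N .L (.N .L .L .L) .L) .L) .L (.N .L .L (.N .L .L (.N .L .L .L)))))) (.N (.N (.N .L .L .L) (.N (.N (.N .L .L .L) (.N .L .L .L) .L) (.N (.N .L .L .L) .L .L) .L) .L) (.N (.N (.N .L .L .L) (.N .L (.N .L (.N .L .L .L) .L) .L) .L) (.N (.N .L (.N .L (.N .L .L .L) .L) .L) (.N .L (.N (.N .L .L .L) (.N .L .L .L) .L) .L) .L) .L) .L) (.N (.N .L (.N .L (.N (.N .L .L .L) .L .L) .L) (.N (.N .L .L .L) .L (.N .L .L (.N .L .L (.N .L .L .L))))) .L (.N (.N .L (.N .L (.N .L .L .L) .L) (.N .L .L (.N .L .L .L))) .L (.N (.N .L .L (.N .L .L (.N .L .L .L))) .L (.N .L .L (.N (.N .L .L .L) .L .L)))))) (.N (.N (.N (.N .L .L (.N .L .L (.N .L .L .L))) .L .L) (.N (.N (.N .L .L .L) (.N .L (.N .L .L .L) .L) .L) (.N (.N .L (.N .L (.N .L .L .L) .L) .L) (.N .L (.N .L (.N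 .L .L .L) .L) .L) .L) .L) .L) (.N (.N (.N (.N .L .L (.N .L .L .L)) .L .L) (.N (.N .L (.N .L (.N .L .L .L) .L) .L) (.N (.N .L .L .L) (.N .L (.N .L .L .L) .L) .L) .L) .L) (.N (.N .L (.N (.N .L (.N .L .L .L) .L) (.N .L (.N .L .L .L) .L) .L) .L) (.N (.N .L (.N .L (.N .L .L .L) .L) .L) (.N (.N .L (.N .L .L .L) .L) (.N (.N .L .L .L) .L .L) .L) .L) .L) .L) .L) (.N (.N .L (.N .L (.N (.N (.N .L .L .L) .L .L) .L .L) .L) (.N (.N .L .L (.N .L .L (.N .L .L (.N .L .L .L)))) .L (.N (.N .L .L (.N .L .L .L)) .L (.N (.N .L .L (.N .L .L .L)) .L (.N .L .L (.N .L .L .L)))))) .L (.N (.N .L (.N .L (.N .L .L .L) .L) (.N .L .L (.N .L .L (.N .L .L (.N .L .L .L))))) .L (.N (.N .L .L (.N .L .L (.N .L .L (.N .L .L .L)))) .L (.N (.N .L .L (.N .L .L (.N .L .L .L))) .L (.N (.N .L .L (.N .L .L .L)) .L .L))))))),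
 ([14, 12], (.N (.N (.N (.N (.N (.N .L .L (.N .L .L .L)) .L (.N .L .L .L)) .L (.N .L .L (.N .L .L (.N .L .L .L)))) .L (.N (.N .L (.N .L .L .L) (.N (.N .L .L .L) .L (.N .L .L .L))) .L (.N (.N .L (.N .L (.N .L .L .L) .L) .L) .L (.N .L .L (.N .L .L (.N .L .L .L)))))) (.N (.N (.N .L .L .L) (.N (.N (.N .L .L .L) (.N .L .L .L) .L) (.N (.N .L .L .L) .L .L) .L) .L) (.N (.N (.N .L .L .L) (.N .L (.N .L (.N .L .L .L) .L) .L) .L) (.N (.N .L (.N .L (.N .L .L .L) .L) .L) (.N .L (.N (.N .L .L .L) (.N .L .L .L) .L) .L) .L) .L) .L) (.N (.N .L (.N .L (.N (.N .L .L .L) .L .L) .L) (.N (.N .L .L .L) .L (.N .L .L (.N .L .L (.N .L .L .L))))) .L (.N (.N .L (.N .L (.N .L .L .L) .L) (.N .L .L (.N .L .L .L))) .L (.N (.N .L .L (.N .L .L (.N .L .L .L))) .L (.N .L .L (.N (.N .L .L .L) .L .L)))))) (.N (.N (.N (.N .L .L (.N .L .L (.N .L .L .L))) .L .L) (.N (.N (.N .L .L .L) (.N .L (.N .L .L .L) .L) .L) (.N (.N .L (.N .L (.N .L .L .L) .L) .L) (.N .L (.N .L (.N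 .L .L .L) .L) .L) .L) .L) .L) (.N (.N (.N (.N .L .L (.N .L .L .L)) .L .L) (.N (.N .L (.N .L (.N .L .L .L) .L) .L) (.N (.N .L .L .L) (.N .L (.N .L .L .L) .L) .L) .L) .L) (.N (.N .L (.N (.N .L (.N .L .L .L) .L) (.N .L (.N .L .L .L) .L) .L) .L) (.N (.N .L (.N .L (.N .L .L .L) .L) .L) (.N (.N .L (.N .L .L .L) .L) (.N (.N .L .L .L) .L .L) .L) .L) .L) .L) .L) (.N (.N .L (.N .L (.N (.N (.N .L .L .L) .L .L) .L .L) .L) (.N (.N .L .L (.N .L .L (.N .L .L (.N .L .L .L)))) .L (.N (.N .L .L (.N .L .L .L)) .L (.N (.N .L .L (.N .L .L .L)) .L (.N .L .L (.N .L .L .L)))))) .L (.N (.N .L (.N .L (.N .L .L .L) .L) (.N .L .L (.N .L .L (.N .L .L (.N .L .L .L))))) .L (.N (.N .L .L (.N .L .L (.N .L .L (.N .L .L .L)))) .L (.N (.N .L .L (.N .L .L (.N .L .L .L))) .L (.N (.N .L .L (.N .L .L .L)) .L .L))))))),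
 ([16, 12], (.N (.N (.N (.N (.N (.N .L .L (.N .L .L .L)) .L (.N .L .L .L)) .L (.N .L .L (.N .L .L (.N .L .L .L)))) .L (.N (.N .L (.N .L .L .L) (.N (.N .L .L .L) .L (.N .L .L .L))) .L (.N (.N .L (.N .L (.N .L .L .L) .L) .L) .L (.N .L .L (.N .L .L (.N .L .L .L)))))) (.N (.N (.N .L .L .L) (.N (.N (.N .L .L .L) (.N .L .L .L) .L) (.N (.N .L .L .L) .L .L) .L) .L) (.N (.N (.N .L .L .L) (.N .L (.N .L (.N .L .L .L) .L) .L) .L) (.N (.N .L (.N .L (.N .L .L .L) .L) .L) (.N .L (.N (.N .L .L .L) (.N .L .L .L) .L) .L) .L) .L) .L) (.N (.N .L (.N .L (.N (.N .L .L .L) .L .L) .L) (.N (.N .L .L .L) .L (.N .L .L (.N .L .L (.N .L .L .L))))) .L (.N (.N .L (.N .L (.N .L .L .L) .L) (.N .L .L (.N .L .L .L))) .L (.N (.N .L .L (.N .L .L (.N .L .L .L))) .L (.N .L .L (.N (.N .L .L .L) .L .L)))))) (.N (.N (.N (.N .L .L (.N .L .L (.N .L .L .L))) .L .L) (.N (.N (.N .L .L .L) (.N .L (.N .L .L .L) .L) .L) (.N (.N .L (.N .L (.N .L .L .L) .L) .L) (.N .L (.N .L (.N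 .L .L .L) .L) .L) .L) .L) .L) (.N (.N (.N (.N .L .L (.N .L .L .L)) .L .L) (.N (.N .L (.N .L (.N .L .L .L) .L) .L) (.N (.N .L .L .L) (.N .L (.N .L .L .L) .L) .L) .L) .L) (.N (.N .L (.N (.N .L (.N .L .L .L) .L) (.N .L (.N .L .L .L) .L) .L) .L) (.N (.N .L (.N .L (.N .L .L .L) .L) .L) (.N (.N .L (.N .L .L .L) .L) (.N (.N .L .L .L) .L .L) .L) .L) .L) .L) .L) (.N (.N .L (.N .L (.N (.N (.N .L .L .L) .L .L) .L .L) .L) (.N (.N .L .L (.N .L .L (.N .L .L (.N .L .L .L)))) .L (.N (.N .L .L (.N .L .L .L)) .L (.N (.N .L .L (.N .L .L .L)) .L (.N .L .L (.N .L .L .L)))))) .L (.N (.N .L (.N .L (.N .L .L .L) .L) (.N .L .L (.N .L .L (.N .L .L (.N .L .L .L))))) .L (.N (.N .L .L (.N .L .L (.N .L .L (.N .L .L .L)))) .L (.N (.N .L .L (.N .L .L (.N .L .L .L))) .L (.N (.N .L .L (.N .L .L .L)) .L .L))))))),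
 ([19, 12], (.N (.N (.N (.N (.N (.N .L .L (.N .L .L .L)) .L (.N .L .L .L)) .L (.N .L .L (.N .L .L (.N .L .L .L)))) .L (.N (.N .L (.N .L .L .L) (.N (.N .L .L .L) .L (.N .L .L .L))) .L (.N (.N .L (.N .L (.N .L .L .L) .L) .L) .L (.N .L .L (.N .L .L (.N .L .L .L)))))) (.N (.N (.N .L .L .L) (.N (.N (.N .L .L .L) (.N .L .L .L) .L) (.N (.N .L .L .L) .L .L) .L) .L) (.N (.N (.N .L .L .L) (.N .L (.N .L (.N .L .L .L) .L) .L) .L) (.N (.N .L (.N .L (.N .L .L .L) .L) .L) (.N .L (.N (.N .L .L .L) (.N .L .L .L) .L) .L) .L) .L) .L) (.N (.N .L (.N .L (.N (.N .L .L .L) .L .L) .L) (.N (.N .L .L .L) .L (.N .L .L (.N .L .L (.N .L .L .L))))) .L (.N (.N .L (.N .L (.N .L .L .L) .L) (.N .L .L (.N .L .L .L))) .L (.N (.N .L .L (.N .L .L (.N .L .L .L))) .L (.N .L .L (.N (.N .L .L .L) .L .L)))))) (.N (.N (.N (.N .L .L (.N .L .L (.N .L .L .L))) .L .L) (.N (.N (.N .L .L .L) (.N .L (.N .L .L .L) .L) .L) (.N (.N .L (.N .L (.N .L .L .L) .L) .L) (.N .L (.N .L (.N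 .L .L .L) .L) .L) .L) .L) .L) (.N (.N (.N (.N .L .L (.N .L .L .L)) .L .L) (.N (.N .L (.N .L (.N .L .L .L) .L) .L) (.N (.N .L .L .L) (.N .L (.N .L .L .L) .L) .L) .L) .L) (.N (.N .L (.N (.N .L (.N .L .L .L) .L) (.N .L (.N .L .L .L) .L) .L) .L) (.N (.N .L (.N .L (.N .L .L .L) .L) .L) (.N (.N .L (.N .L .L .L) .L) (.N (.N .L .L .L) .L .L) .L) .L) .L) .L) .L) (.N (.N .L (.N .L (.N (.N (.N .L .L .L) .L .L) .L .L) .L) (.N (.N .L .L (.N .L .L (.N .L .L (.N .L .L .L)))) .L (.N (.N .L .L (.N .L .L .L)) .L (.N (.N .L .L (.N .L .L .L)) .L (.N .L .L (.N .L .L .L)))))) .L (.N (.N .L (.N .L (.N .L .L .L) .L) (.N .L .L (.N .L .L (.N .L .L (.N .L .L .L))))) .L (.N (.N .L .L (.N .L .L (.N .L .L (.N .L .L .L)))) .L (.N (.N .L .L (.N .L .L (.N .L .L .L))) .L (.N (.N .L .L (.N .L .L .L)) .L .L))))))),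
 ([20, 12], (.N (.N (.N (.N (.N (.N .L .L (.N .L .L .L)) .L (.N .L .L .L)) .L (.N .L .L (.N .L .L (.N .L .L .L)))) .L (.N (.N .L (.N .L .L .L) (.N (.N .L .L .L) .L (.N .L .L .L))) .L (.N (.N .L (.N .L (.N .L .L .L) .L) .L) .L (.N .L .L (.N .L .L (.N .L .L .L)))))) (.N (.N (.N .L .L .L) (.N (.N (.N .L .L .L) (.N .L .L .L) .L) (.N (.N .L .L .L) .L .L) .L) .L) (.N (.N (.N .L .L .L) (.N .L (.N .L (.N .L .L .L) .L) .L) .L) (.N (.N .L (.N .L (.N .L .L .L) .L) .L) (.N .L (.N (.N .L .L .L) (.N .L .L .L) .L) .L) .L) .L) .L) (.N (.N .L (.N .L (.N (.N .L .L .L) .L .L) .L) (.N (.N .L .L .L) .L (.N .L .L (.N .L .L (.N .L .L .L))))) .L (.N (.N .L (.N .L (.N .L .L .L) .L) (.N .L .L (.N .L .L .L))) .L (.N (.N .L .L (.N .L .L (.N .L .L .L))) .L (.N .L .L (.N (.N .L .L .L) .L .L)))))) (.N (.N (.N (.N .L .L (.N .L .L (.N .L .L .L))) .L .L) (.N (.N (.N .L .L .L) (.N .L (.N .L .L .L) .L) .L) (.N (.N .L (.N .L (.N .L .L .L) .L) .L) (.N .L (.N .L (.N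 .L .L .L) .L) .L) .L) .L) .L) (.N (.N (.N (.N .L .L (.N .L .L .L)) .L .L) (.N (.N .L (.N .L (.N .L .L .L) .L) .L) (.N (.N .L .L .L) (.N .L (.N .L .L .L) .L) .L) .L) .L) (.N (.N .L (.N (.N .L (.N .L .L .L) .L) (.N .L (.N .L .L .L) .L) .L) .L) (.N (.N .L (.N .L (.N .L .L .L) .L) .L) (.N (.N .L (.N .L .L .L) .L) (.N (.N .L .L .L) .L .L) .L) .L) .L) .L) .L) (.N (.N .L (.N .L (.N (.N (.N .L .L .L) .L .L) .L .L) .L) (.N (.N .L .L (.N .L .L (.N .L .L (.N .L .L .L)))) .L (.N (.N .L .L (.N .L .L .L)) .L (.N (.N .L .L (.N .L .L .L)) .L (.N .L .L (.N .L .L .L)))))) .L (.N (.N .L (.N .L (.N .L .L .L) .L) (.N .L .L (.N .L .L (.N .L .L (.N .L .L .L))))) .L (.N (.N .L .L (.N .L .L (.N .L .L (.N .L .L .L)))) .L (.N (.N .L .L (.N .L .L (.N .L .L .L))) .L (.N (.N .L .L (.N .L .L .L)) .L .L))))))),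
 ([25, 12], (.N (.N (.N (.N (.N (.N .L .L (.N .L .L .L)) .L (.N .L .L .L)) .L (.N .L .L (.N .L .L (.N .L .L .L)))) .L (.N (.N .L (.N .L .L .L) (.N (.N .L .L .L) .L (.N .L .L .L))) .L (.N (.N .L (.N .L (.N .L .L .L) .L) .L) .L (.N .L .L (.N .L .L (.N .L .L .L)))))) (.N (.N (.N .L .L .L) (.N (.N (.N .L .L .L) (.N .L .L .L) .L) (.N (.N .L .L .L) .L .L) .L) .L) (.N (.N (.N .L .L .L) (.N .L (.N .L (.N .L .L .L) .L) .L) .L) (.N (.N .L (.N .L (.N .L .L .L) .L) .L) (.N .L (.N (.N .L .L .L) (.N .L .L .L) .L) .L) .L) .L) .L) (.N (.N .L (.N .L (.N (.N .L .L .L) .L .L) .L) (.N (.N .L .L .L) .L (.N .L .L (.N .L .L (.N .L .L .L))))) .L (.N (.N .L (.N .L (.N .L .L .L) .L) (.N .L .L (.N .L .L .L))) .L (.N (.N .L .L (.N .L .L (.N .L .L .L))) .L (.N .L .L (.N (.N .L .L .L) .L .L)))))) (.N (.N (.N (.N .L .L (.N .L .L (.N .L .L .L))) .L .L) (.N (.N (.N .L .L .L) (.N .L (.N .L .L .L) .L) .L) (.N (.N .L (.N .L (.N .L .L .L) .L) .L) (.N .L (.N .L (.N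 .L .L .L) .L) .L) .L) .L) .L) (.N (.N (.N (.N .L .L (.N .L .L .L)) .L .L) (.N (.N .L (.N .L (.N .L .L .L) .L) .L) (.N (.N .L .L .L) (.N .L (.N .L .L .L) .L) .L) .L) .L) (.N (.N .L (.N (.N .L (.N .L .L .L) .L) (.N .L (.N .L .L .L) .L) .L) .L) (.N (.N .L (.N .L (.N .L .L .L) .L) .L) (.N (.N .L (.N .L .L .L) .L) (.N (.N .L .L .L) .L .L) .L) .L) .L) .L) .L) (.N (.N .L (.N .L (.N (.N (.N .L .L .L) .L .L) .L .L) .L) (.N (.N .L .L (.N .L .L (.N .L .L (.N .L .L .L)))) .L (.N (.N .L .L (.N .L .L .L)) .L (.N (.N .L .L (.N .L .L .L)) .L (.N .L .L (.N .L .L .L)))))) .L (.N (.N .L (.N .L (.N .L .L .L) .L) (.N .L .L (.N .L .L (.N .L .L (.N .L .L .L))))) .L (.N (.N .L .L (.N .L .L (.N .L .L (.N .L .L .L)))) .L (.N (.N .L .L (.N .L .L (.N .L .L .L))) .L (.N (.N .L .L (.N .L .L .L)) .L .L))))))),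
 ([27, 12], (.N (.N (.N (.N (.N (.N .L .L (.N .L .L .L)) .L (.N .L .L .L)) .L (.N .L .L (.N .L .L (.N .L .L .L)))) .L (.N (.N .L (.N .L .L .L) (.N (.N .L .L .L) .L (.N .L .L .L))) .L (.N (.N .L (.N .L (.N .L .L .L) .L) .L) .L (.N .L .L (.N .L .L (.N .L .L .L)))))) (.N (.N (.N .L .L .L) (.N (.N (.N .L .L .L) (.N .L .L .L) .L) (.N (.N .L .L .L) .L .L) .L) .L) (.N (.N (.N .L .L .L) (.N .L (.N .L (.N .L .L .L) .L) .L) .L) (.N (.N .L (.N .L (.N .L .L .L) .L) .L) (.N .L (.N (.N .L .L .L) (.N .L .L .L) .L) .L) .L) .L) .L) (.N (.N .L (.N .L (.N (.N .L .L .L) .L .L) .L) (.N (.N .L .L .L) .L (.N .L .L (.N .L .L (.N .L .L .L))))) .L (.N (.N .L (.N .L (.N .L .L .L) .L) (.N .L .L (.N .L .L .L))) .L (.N (.N .L .L (.N .L .L (.N .L .L .L))) .L (.N .L .L (.N (.N .L .L .L) .L .L)))))) (.N (.N (.N (.N .L .L (.N .L .L (.N .L .L .L))) .L .L) (.N (.N (.N .L .L .L) (.N .L (.N .L .L .L) .L) .L) (.N (.N .L (.N .L (.N .L .L .L) .L) .L) (.N .L (.N .L (.N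 .L .L .L) .L) .L) .L) .L) .L) (.N (.N (.N (.N .L .L (.N .L .L .L)) .L .L) (.N (.N .L (.N .L (.N .L .L .L) .L) .L) (.N (.N .L .L .L) (.N .L (.N .L .L .L) .L) .L) .L) .L) (.N (.N .L (.N (.N .L (.N .L .L .L) .L) (.N .L (.N .L .L .L) .L) .L) .L) (.N (.N .L (.N .L (.N .L .L .L) .L) .L) (.N (.N .L (.N .L .L .L) .L) (.N (.N .L .L .L) .L .L) .L) .L) .L) .L) .L) (.N (.N .L (.N .L (.N (.N (.N .L .L .L) .L .L) .L .L) .L) (.N (.N .L .L (.N .L .L (.N .L .L (.N .L .L .L)))) .L (.N (.N .L .L (.N .L .L .L)) .L (.N (.N .L .L (.N .L .L .L)) .L (.N .L .L (.N .L .L .L)))))) .L (.N (.N .L (.N .L (.N .L .L .L) .L) (.N .L .L (.N .L .L (.N .L .L (.N .L .L .L))))) .L (.N (.N .L .L (.N .L .L (.N .L .L (.N .L .L .L)))) .L (.N (.N .L .L (.N .L .L (.N .L .L .L))) .L (.N (.N .L .L (.N .L .L .L)) .L .L))))))),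
 ([30, 12], (.N (.N (.N (.N (.N (.N .L .L (.N .L .L .L)) .L (.N .L .L .L)) .L (.N .L .L (.N .L .L (.N .L .L .L)))) .L (.N (.N .L (.N .L .L .L) (.N (.N .L .L .L) .L (.N .L .L .L))) .L (.N (.N .L (.N .L (.N .L .L .L) .L) .L) .L (.N .L .L (.N .L .L (.N .L .L .L)))))) (.N (.N (.N .L .L .L) (.N (.N (.N .L .L .L) (.N .L .L .L) .L) (.N (.N .L .L .L) .L .L) .L) .L) (.N (.N (.N .L .L .L) (.N .L (.N .L (.N .L .L .L) .L) .L) .L) (.N (.N .L (.N .L (.N .L .L .L) .L) .L) (.N .L (.N (.N .L .L .L) (.N .L .L .L) .L) .L) .L) .L) .L) (.N (.N .L (.N .L (.N (.N .L .L .L) .L .L) .L) (.N (.N .L .L .L) .L (.N .L .L (.N .L .L (.N .L .L .L))))) .L (.N (.N .L (.N .L (.N .L .L .L) .L) (.N .L .L (.N .L .L .L))) .L (.N (.N .L .L (.N .L .L (.N .L .L .L))) .L (.N .L .L (.N (.N .L .L .L) .L .L)))))) (.N (.N (.N (.N .L .L (.N .L .L (.N .L .L .L))) .L .L) (.N (.N (.N .L .L .L) (.N .L (.N .L .L .L) .L) .L) (.N (.N .L (.N .L (.N .L .L .L) .L) .L) (.N .L (.N .L (.N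 .L .L .L) .L) .L) .L) .L) .L) (.N (.N (.N (.N .L .L (.N .L .L .L)) .L .L) (.N (.N .L (.N .L (.N .L .L .L) .L) .L) (.N (.N .L .L .L) (.N .L (.N .L .L .L) .L) .L) .L) .L) (.N (.N .L (.N (.N .L (.N .L .L .L) .L) (.N .L (.N .L .L .L) .L) .L) .L) (.N (.N .L (.N .L (.N .L .L .L) .L) .L) (.N (.N .L (.N .L .L .L) .L) (.N (.N .L .L .L) .L .L) .L) .L) .L) .L) .L) (.N (.N .L (.N .L (.N (.N (.N .L .L .L) .L .L) .L .L) .L) (.N (.N .L .L (.N .L .L (.N .L .L (.N .L .L .L)))) .L (.N (.N .L .L (.N .L .L .L)) .L (.N (.N .L .L (.N .L .L .L)) .L (.N .L .L (.N .L .L .L)))))) .L (.N (.N .L (.N .L (.N .L .L .L) .L) (.N .L .L (.N .L .L (.N .L .L (.N .L .L .L))))) .L (.N (.N .L .L (.N .L .L (.N .L .L (.N .L .L .L)))) .L (.N (.N .L .L (.N .L .L (.N .L .L .L))) .L (.N (.N .L .L (.N .L .L .L)) .L .L))))))),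
 ([34, 12], (.N (.N (.N (.N (.N (.N .L .L (.N .L .L .L)) .L (.N .L .L .L)) .L (.N .L .L (.N .L .L (.N .L .L .L)))) .L (.N (.N .L (.N .L .L .L) (.N (.N .L .L .L) .L (.N .L .L .L))) .L (.N (.N .L (.N .L (.N .L .L .L) .L) .L) .L (.N .L .L (.N .L .L (.N .L .L .L)))))) (.N (.N (.N .L .L .L) (.N (.N (.N .L .L .L) (.N .L .L .L) .L) (.N (.N .L .L .L) .L .L) .L) .L) (.N (.N (.N .L .L .L) (.N .L (.N .L (.N .L .L .L) .L) .L) .L) (.N (.N .L (.N .L (.N .L .L .L) .L) .L) (.N .L (.N (.N .L .L .L) (.N .L .L .L) .L) .L) .L) .L) .L) (.N (.N .L (.N .L (.N (.N .L .L .L) .L .L) .L) (.N (.N .L .L .L) .L (.N .L .L (.N .L .L (.N .L .L .L))))) .L (.N (.N .L (.N .L (.N .L .L .L) .L) (.N .L .L (.N .L .L .L))) .L (.N (.N .L .L (.N .L .L (.N .L .L .L))) .L (.N .L .L (.N (.N .L .L .L) .L .L)))))) (.N (.N (.N (.N .L .L (.N .L .L (.N .L .L .L))) .L .L) (.N (.N (.N .L .L .L) (.N .L (.N .L .L .L) .L) .L) (.N (.N .L (.N .L (.N .L .L .L) .L) .L) (.N .L (.N .L (.N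 .L .L .L) .L) .L) .L) .L) .L) (.N (.N (.N (.N .L .L (.N .L .L .L)) .L .L) (.N (.N .L (.N .L (.N .L .L .L) .L) .L) (.N (.N .L .L .L) (.N .L (.N .L .L .L) .L) .L) .L) .L) (.N (.N .L (.N (.N .L (.N .L .L .L) .L) (.N .L (.N .L .L .L) .L) .L) .L) (.N (.N .L (.N .L (.N .L .L .L) .L) .L) (.N (.N .L (.N .L .L .L) .L) (.N (.N .L .L .L) .L .L) .L) .L) .L) .L) .L) (.N (.N .L (.N .L (.N (.N (.N .L .L .L) .L .L) .L .L) .L) (.N (.N .L .L (.N .L .L (.N .L .L (.N .L .L .L)))) .L (.N (.N .L .L (.N .L .L .L)) .L (.N (.N .L .L (.N .L .L .L)) .L (.N .L .L (.N .L .L .L)))))) .L (.N (.N .L (.N .L (.N .L .L .L) .L) (.N .L .L (.N .L .L (.N .L .L (.N .L .L .L))))) .L (.N (.N .L .L (.N .L .L (.N .L .L (.N .L .L .L)))) .L (.N (.N .L .L (.N .L .L (.N .L .L .L))) .L (.N (.N .L .L (.N .L .L .L)) .L .L))))))),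
 ([36, 12], (.N (.N (.N (.N (.N (.N .L .L (.N .L .L .L)) .L (.N .L .L .L)) .L (.N .L .L (.N .L .L (.N .L .L .L)))) .L (.N (.N .L (.N .L .L .L) (.N (.N .L .L .L) .L (.N .L .L .L))) .L (.N (.N .L (.N .L (.N .L .L .L) .L) .L) .L (.N .L .L (.N .L .L (.N .L .L .L)))))) (.N (.N (.N .L .L .L) (.N (.N (.N .L .L .L) (.N .L .L .L) .L) (.N (.N .L .L .L) .L .L) .L) .L) (.N (.N (.N .L .L .L) (.N .L (.N .L (.N .L .L .L) .L) .L) .L) (.N (.N .L (.N .L (.N .L .L .L) .L) .L) (.N .L (.N (.N .L .L .L) (.N .L .L .L) .L) .L) .L) .L) .L) (.N (.N .L (.N .L (.N (.N .L .L .L) .L .L) .L) (.N (.N .L .L .L) .L (.N .L .L (.N .L .L (.N .L .L .L))))) .L (.N (.N .L (.N .L (.N .L .L .L) .L) (.N .L .L (.N .L .L .L))) .L (.N (.N .L .L (.N .L .L (.N .L .L .L))) .L (.N .L .L (.N (.N .L .L .L) .L .L)))))) (.N (.N (.N (.N .L .L (.N .L .L (.N .L .L .L))) .L .L) (.N (.N (.N .L .L .L) (.N .L (.N .L .L .L) .L) .L) (.N (.N .L (.N .L (.N .L .L .L) .L) .L) (.N .L (.N .L (.N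 .L .L .L) .L) .L) .L) .L) .L) (.N (.N (.N (.N .L .L (.N .L .L .L)) .L .L) (.N (.N .L (.N .L (.N .L .L .L) .L) .L) (.N (.N .L .L .L) (.N .L (.N .L .L .L) .L) .L) .L) .L) (.N (.N .L (.N (.N .L (.N .L .L .L) .L) (.N .L (.N .L .L .L) .L) .L) .L) (.N (.N .L (.N .L (.N .L .L .L) .L) .L) (.N (.N .L (.N .L .L .L) .L) (.N (.N .L .L .L) .L .L) .L) .L) .L) .L) .L) (.N (.N .L (.N .L (.N (.N (.N .L .L .L) .L .L) .L .L) .L) (.N (.N .L .L (.N .L .L (.N .L .L (.N .L .L .L)))) .L (.N (.N .L .L (.N .L .L .L)) .L (.N (.N .L .L (.N .L .L .L)) .L (.N .L .L (.N .L .L .L)))))) .L (.N (.N .L (.N .L (.N .L .L .L) .L) (.N .L .L (.N .L .L (.N .L .L (.N .L .L .L))))) .L (.N (.N .L .L (.N .L .L (.N .L .L (.N .L .L .L)))) .L (.N (.N .L .L (.N .L .L (.N .L .L .L))) .L (.N (.N .L .L (.N .L .L .L)) .L .L)))))))]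

noncomputable def X5 : ℕ :=
  cat 4096 [nat_lit 0x50214080002000000240000004400041000100800600010b000001500000100600881000000401a50108161000010000100000001400011005004000000000d001028040000000040001000002040000000000000240158000000401045020004000480200048101200108100090000820828100000020000000000d8129000006008402000008061cc0004000041004080060000010800080078001804000000020000800001040181003005208420800080020800000040480500000092000040000025000080000801040200008000000000000800001ad00000100091010000100000100000004000200050008010003000000002a00000000084508c02000010000040042101850a400801000090004c80064084000000880010000500409000d8500000120821100000002a000100814000000080880000c010018010030000c2c0120002002000000110003200300001000019000840201107001012000080c20000204030030100000000c20002010000400220000002000040020000c000000010020000002008501808a000300440000304200000001250000000000010200000000880a440000000200c004110014405020c00080004040000000088000000100a00522004000841010004080004420868489043008400010011e41922240000100008c400080100a10200041200041000000000002002040,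
 nat_lit 0x6008080400400002490400008080021600069001000004000100000000400109080010441000000400000000030020a000000002601000006c000014012010000010040100210100004000100001041008002003001000100004000440250000300000800000420900100001408080414040000010c040040000001c001040210001840000050c040040020000004000006080020009100000000014520020000040040041020000002100401038100000000282040000300000040c022800001001050000000000500000000080000002c8100201011400041010500480d0000040050003285882401000000200800000041814680020000001020000c000410400880040090000000320002440020042900800020104040004030184800000008010001010001000004040010200040140020040810010000441008000000800490120281002100004000105010009400604000400000000000080c000402000a2100005000011001000404000c080000004a20050000000004400000006000020080000084010420100005000016081800000000518404a00803000000c0084400240024300000400018040004000041101001008c00000000040084000250080010060803018100801002040000008004000400000000000202840002480a3801104008000210040c006020000000820a020444004020200004004000012,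
 nat_lit 0x8301488002080000010080005005802c04022200080001600001000000240000000000004004122000682008010041002004480100001000000280300880c4000000000009000908120541800000008040020004a22910000400000046004000840060203080080000000a0012406300c00408100000000420800002100015008c001a8821000280801a1c00000000082000023000810028800141010008952048000000820102000010420480028000044000002804405080002210280400002401840800000000000000012000482000801100480001000004014000000410080302262000040003021000001201100121008000100480000a4020001004110008000020840404040800000020142000100808100100000004800008000100000000400022400000200000044000080000000000000040000190009000000042194100010000000407403204080002500400400080200004104000410000000802100204020412100100000200402820084410900094002800040000540401040004000018140000086412100980040004021400404000114020000100002020112412000600401009004c0010912021086000400000001c04004002008a8142000c004010620100008010200086000208090000a00480142000004000001401004215000100004821000840000000001040512050020001241258000400,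
 nat_lit 0x100000000000010000000102801100001041108040104000000008000004080801000080000240a0008120010000002002210106000000000000c2002008000200000001241810100220002000200440006082c0202080a00420064800a060c100010002000828001c02000040000002010041803000202c120000114080001060000610100400080008040140014600811000000000000000021800010405804000000000000200800001120c00002008201c004202500000020000218010000414010024000000000400000041320000400808200046000000400381040108000400000080004040804000001832000050200146050000081000800110000000490210000400084200000000004281000404000044400005000082020000801000004000908800001000010040300100900020300000014001600002040410808800308100000082000002008009020210081080080880004248080220208018200880041104018c80400601a0140080000000110008001084860000000000004040a0000020002401420000008002000030100091000010000010788360004018004000004000100080001400002400000004218180800080004000008420020000004200800500000204000028404010300002000300000004110100000000274800000043600200020804802060200000003000004004410000002a8100,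
 nat_lit 0x100003c000000010020068000140001881000200100e040040000080808010009098000002000921100000432442089041050c000010000000000000404000000002a000140000140040000018100000400008000800000000820840c0014252000280018402c0a0201001000000090400040000021102000000110000000000000000400601006448200002000000500000000000000400001]

theorem Q5_for : Nat.beq (forestH 4096 hs ns [46] [108] [109] F0 Q5) X5 = true :=
  by decide +kernel

theorem Q5_big : allL Q5 (fun r => and' (wordIn (sTop A_S1) r.1) (Nat.blt 1560 (pcN 4096 12 (orb ns (bigW r.1) 3 1)))) = true :=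
  by decide +kernel

noncomputable def Q6 : List (List ℕ × T3) :=
  [([39, 12], (.N (.N (.N (.N (.N (.N .L .L (.N .L .L .L)) .L (.N .L .L .L)) .L (.N .L .L (.N .L .L (.N .L .L .L)))) .L (.N (.N .L (.N .L .L .L) (.N (.N .L .L .L) .L (.N .L .L .L))) .L (.N (.N .L (.N .L (.N .L .L .L) .L) .L) .L (.N .L .L (.N .L .L (.N .L .L .L)))))) (.N (.N (.N .L .L .L) (.N (.N (.N .L .L .L) (.N .L .L .L) .L) (.N (.N .L .L .L) .L .L) .L) .L) (.N (.N (.N .L .L .L) (.N .L (.N .L (.N .L .L .L) .L) .L) .L) (.N (.N .L (.N .L (.N .L .L .L) .L) .L) (.N .L (.N (.N .L .L .L) (.N .L .L .L) .L) .L) .L) .L) .L) (.N (.N .L (.N .L (.N (.N .L .L .L) .L .L) .L) (.N (.N .L .L .L) .L (.N .L .L (.N .L .L (.N .L .L .L))))) .L (.N (.N .L (.N .L (.N .L .L .L) .L) (.N .L .L (.N .L .L .L))) .L (.N (.N .L .L (.N .L .L (.N .L .L .L))) .L (.N .L .L (.N (.N .L .L .L) .L .L)))))) (.N (.N (.N (.N .L .L (.N .L .L (.N .L .L .L))) .L .L) (.N (.N (.N .L .L .L) (.N .L (.N .L .L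 .L) .L) .L) (.N (.N .L (.N .L (.N .L .L .L) .L) .L) (.N .L (.N .L (.N .L .L .L) .L) .L) .L) .L) .L) (.N (.N (.N (.N .L .L (.N .L .L .L)) .L .L) (.N (.N .L (.N .L (.N .L .L .L) .L) .L) (.N (.N .L .L .L) (.N .L (.N .L .L .L) .L) .L) .L) .L) (.N (.N .L (.N (.N .L (.N .L .L .L) .L) (.N .L (.N .L .L .L) .L) .L) .L) (.N (.N .L (.N .L (.N .L .L .L) .L) .L) (.N (.N .L (.N .L .L .L) .L) (.N (.N .L .L .L) .L .L) .L) .L) .L) .L) .L) (.N (.N .L (.N .L (.N (.N (.N .L .L .L) .L .L) .L .L) .L) (.N (.N .L .L (.N .L .L (.N .L .L (.N .L .L .L)))) .L (.N (.N .L .L (.N .L .L .L)) .L (.N (.N .L .L (.N .L .L .L)) .L (.N .L .L (.N .L .L .L)))))) .L (.N (.N .L (.N .L (.N .L .L .L) .L) (.N .L .L (.N .L .L (.N .L .L (.N .L .L .L))))) .L (.N (.N .L .L (.N .L .L (.N .L .L (.N .L .L .L)))) .L (.N (.N .L .L (.N .L .L (.N .L .L .L))) .L (.N (.N .L .L (.N .L .L .L)) .L .L))))))),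
 ([10, 13], (.N (.N (.N (.N (.N (.N .L .L (.N .L .L .L)) .L (.N .L .L .L)) .L (.N .L .L (.N .L .L (.N .L .L .L)))) .L (.N (.N .L (.N .L .L .L) (.N (.N .L .L .L) .L (.N .L .L .L))) .L (.N (.N .L (.N .L (.N .L .L .L) .L) .L) .L (.N .L .L (.N .L .L (.N .L .L .L)))))) (.N (.N (.N .L .L .L) (.N (.N (.N .L .L .L) (.N .L .L .L) .L) (.N (.N .L .L .L) .L .L) .L) .L) (.N (.N (.N .L .L .L) (.N .L (.N .L (.N .L .L .L) .L) .L) .L) (.N (.N .L (.N .L (.N .L .L .L) .L) .L) (.N .L (.N (.N .L .L .L) (.N .L .L .L) .L) .L) .L) .L) .L) (.N (.N .L (.N .L (.N (.N .L .L .L) .L .L) .L) (.N (.N .L .L .L) .L (.N .L .L (.N .L .L (.N .L .L .L))))) .L (.N (.N .L (.N .L (.N .L .L .L) .L) (.N .L .L (.N .L .L .L))) .L (.N (.N .L .L (.N .L .L (.N .L .L .L))) .L (.N .L .L (.N (.N .L .L .L) .L .L)))))) (.N (.N (.N (.N .L .L (.N .L .L (.N .L .L .L))) .L .L) (.N (.N (.N .L .L .L) (.N .L (.N .L .L .L) .L) .L) (.N (.N .L (.N .L (.N .L .L .L) .L) .L) (.N .L (.N .L (.N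 .L .L .L) .L) .L) .L) .L) .L) (.N (.N (.N (.N .L .L (.N .L .L .L)) .L .L) (.N (.N .L (.N .L (.N .L .L .L) .L) .L) (.N (.N .L .L .L) (.N .L (.N .L .L .L) .L) .L) .L) .L) (.N (.N .L (.N (.N .L (.N .L .L .L) .L) (.N .L (.N .L .L .L) .L) .L) .L) (.N (.N .L (.N .L (.N .L .L .L) .L) .L) (.N (.N .L (.N .L .L .L) .L) (.N (.N .L .L .L) .L .L) .L) .L) .L) .L) .L) (.N (.N .L (.N .L (.N (.N (.N .L .L .L) .L .L) .L .L) .L) (.N (.N .L .L (.N .L .L (.N .L .L (.N .L .L .L)))) .L (.N (.N .L .L (.N .L .L .L)) .L (.N (.N .L .L (.N .L .L .L)) .L (.N .L .L (.N .L .L .L)))))) .L (.N (.N .L (.N .L (.N .L .L .L) .L) (.N .L .L (.N .L .L (.N .L .L (.N .L .L .L))))) .L (.N (.N .L .L (.N .L .L (.N .L .L (.N .L .L .L)))) .L (.N (.N .L .L (.N .L .L (.N .L .L .L))) .L (.N (.N .L .L (.N .L .L .L)) .L .L))))))),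
 ([16, 13], (.N (.N (.N (.N (.N (.N .L .L (.N .L .L .L)) .L (.N .L .L .L)) .L (.N .L .L (.N .L .L (.N .L .L .L)))) .L (.N (.N .L (.N .L .L .L) (.N (.N .L .L .L) .L (.N .L .L .L))) .L (.N (.N .L (.N .L (.N .L .L .L) .L) .L) .L (.N .L .L (.N .L .L (.N .L .L .L)))))) (.N (.N (.N .L .L .L) (.N (.N (.N .L .L .L) (.N .L .L .L) .L) (.N (.N .L .L .L) .L .L) .L) .L) (.N (.N (.N .L .L .L) (.N .L (.N .L (.N .L .L .L) .L) .L) .L) (.N (.N .L (.N .L (.N .L .L .L) .L) .L) (.N .L (.N (.N .L .L .L) (.N .L .L .L) .L) .L) .L) .L) .L) (.N (.N .L (.N .L (.N (.N .L .L .L) .L .L) .L) (.N (.N .L .L .L) .L (.N .L .L (.N .L .L (.N .L .L .L))))) .L (.N (.N .L (.N .L (.N .L .L .L) .L) (.N .L .L (.N .L .L .L))) .L (.N (.N .L .L (.N .L .L (.N .L .L .L))) .L (.N .L .L (.N (.N .L .L .L) .L .L)))))) (.N (.N (.N (.N .L .L (.N .L .L (.N .L .L .L))) .L .L) (.N (.N (.N .L .L .L) (.N .L (.N .L .L .L) .L) .L) (.N (.N .L (.N .L (.N .L .L .L) .L) .L) (.N .L (.N .L (.N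 .L .L .L) .L) .L) .L) .L) .L) (.N (.N (.N (.N .L .L (.N .L .L .L)) .L .L) (.N (.N .L (.N .L (.N .L .L .L) .L) .L) (.N (.N .L .L .L) (.N .L (.N .L .L .L) .L) .L) .L) .L) (.N (.N .L (.N (.N .L (.N .L .L .L) .L) (.N .L (.N .L .L .L) .L) .L) .L) (.N (.N .L (.N .L (.N .L .L .L) .L) .L) (.N (.N .L (.N .L .L .L) .L) (.N (.N .L .L .L) .L .L) .L) .L) .L) .L) .L) (.N (.N .L (.N .L (.N (.N (.N .L .L .L) .L .L) .L .L) .L) (.N (.N .L .L (.N .L .L (.N .L .L (.N .L .L .L)))) .L (.N (.N .L .L (.N .L .L .L)) .L (.N (.N .L .L (.N .L .L .L)) .L (.N .L .L (.N .L .L .L)))))) .L (.N (.N .L (.N .L (.N .L .L .L) .L) (.N .L .L (.N .L .L (.N .L .L (.N .L .L .L))))) .L (.N (.N .L .L (.N .L .L (.N .L .L (.N .L .L .L)))) .L (.N (.N .L .L (.N .L .L (.N .L .L .L))) .L (.N (.N .L .L (.N .L .L .L)) .L .L))))))),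
 ([17, 13], (.N (.N (.N (.N (.N (.N .L .L (.N .L .L .L)) .L (.N .L .L .L)) .L (.N .L .L (.N .L .L (.N .L .L .L)))) .L (.N (.N .L (.N .L .L .L) (.N (.N .L .L .L) .L (.N .L .L .L))) .L (.N (.N .L (.N .L (.N .L .L .L) .L) .L) .L (.N .L .L (.N .L .L (.N .L .L .L)))))) (.N (.N (.N .L .L .L) (.N (.N (.N .L .L .L) (.N .L .L .L) .L) (.N (.N .L .L .L) .L .L) .L) .L) (.N (.N (.N .L .L .L) (.N .L (.N .L (.N .L .L .L) .L) .L) .L) (.N (.N .L (.N .L (.N .L .L .L) .L) .L) (.N .L (.N (.N .L .L .L) (.N .L .L .L) .L) .L) .L) .L) .L) (.N (.N .L (.N .L (.N (.N .L .L .L) .L .L) .L) (.N (.N .L .L .L) .L (.N .L .L (.N .L .L (.N .L .L .L))))) .L (.N (.N .L (.N .L (.N .L .L .L) .L) (.N .L .L (.N .L .L .L))) .L (.N (.N .L .L (.N .L .L (.N .L .L .L))) .L (.N .L .L (.N (.N .L .L .L) .L .L)))))) (.N (.N (.N (.N .L .L (.N .L .L (.N .L .L .L))) .L .L) (.N (.N (.N .L .L .L) (.N .L (.N .L .L .L) .L) .L) (.N (.N .L (.N .L (.N .L .L .L) .L) .L) (.N .L (.N .L (.N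 .L .L .L) .L) .L) .L) .L) .L) (.N (.N (.N (.N .L .L (.N .L .L .L)) .L .L) (.N (.N .L (.N .L (.N .L .L .L) .L) .L) (.N (.N .L .L .L) (.N .L (.N .L .L .L) .L) .L) .L) .L) (.N (.N .L (.N (.N .L (.N .L .L .L) .L) (.N .L (.N .L .L .L) .L) .L) .L) (.N (.N .L (.N .L (.N .L .L .L) .L) .L) (.N (.N .L (.N .L .L .L) .L) (.N (.N .L .L .L) .L .L) .L) .L) .L) .L) .L) (.N (.N .L (.N .L (.N (.N (.N .L .L .L) .L .L) .L .L) .L) (.N (.N .L .L (.N .L .L (.N .L .L (.N .L .L .L)))) .L (.N (.N .L .L (.N .L .L .L)) .L (.N (.N .L .L (.N .L .L .L)) .L (.N .L .L (.N .L .L .L)))))) .L (.N (.N .L (.N .L (.N .L .L .L) .L) (.N .L .L (.N .L .L (.N .L .L (.N .L .L .L))))) .L (.N (.N .L .L (.N .L .L (.N .L .L (.N .L .L .L)))) .L (.N (.N .L .L (.N .L .L (.N .L .L .L))) .L (.N (.N .L .L (.N .L .L .L)) .L .L))))))),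
 ([18, 13], (.N (.N (.N (.N (.N .L .L .L) .L (.N .L .L .L)) .L (.N (.N .L (.N .L .L .L) .L) .L (.N .L .L (.N .L .L (.N .L .L .L))))) (.N (.N .L (.N (.N .L .L .L) .L .L) .L) (.N .L .L .L) .L) (.N (.N .L (.N .L .L .L) .L) .L (.N (.N .L (.N .L .L .L) (.N .L .L .L)) .L (.N (.N .L .L .L) .L .L)))) (.N (.N (.N (.N .L .L (.N .L .L .L)) .L .L) (.N (.N (.N .L .L .L) .L .L) (.N (.N .L .L .L) (.N .L .L .L) .L) .L) .L) (.N (.N .L (.N .L .L .L) .L) .L .L) .L) (.N (.N .L (.N .L (.N .L .L .L) .L) .L) .L (.N (.N .L (.N .L (.N .L .L .L) .L) (.N .L .L .L)) .L (.N .L .L (.N .L .L (.N .L .L .L))))))),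
 ([20, 13], (.N (.N (.N (.N (.N (.N .L .L .L) .L (.N .L .L .L)) .L (.N .L .L .L)) .L (.N (.N .L (.N .L .L .L) (.N .L .L .L)) .L .L)) (.N (.N (.N .L .L .L) .L .L) (.N (.N .L (.N .L .L .L) .L) .L .L) .L) (.N (.N .L (.N .L .L .L) (.N (.N .L .L .L) .L .L)) .L (.N .L .L (.N .L .L (.N .L .L .L))))) (.N (.N (.N (.N .L .L .L) .L .L) (.N .L (.N (.N .L .L .L) .L .L) .L) .L) (.N (.N .L .L .L) (.N .L (.N .L .L .L) .L) .L) .L) (.N (.N .L (.N .L (.N (.N .L .L .L) .L .L) .L) (.N (.N .L .L .L) .L .L)) .L (.N (.N .L (.N .L (.N .L .L .L) .L) (.N .L .L (.N .L .L .L))) .L (.N (.N .L .L .L) .L .L))))),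
 ([22, 13], (.N (.N (.N (.N (.N (.N .L .L (.N .L .L .L)) .L (.N .L .L .L)) .L (.N .L .L (.N .L .L (.N .L .L .L)))) .L (.N (.N .L (.N .L .L .L) (.N (.N .L .L .L) .L (.N .L .L .L))) .L (.N (.N .L (.N .L (.N .L .L .L) .L) .L) .L (.N .L .L (.N .L .L (.N .L .L .L)))))) (.N (.N (.N .L .L .L) (.N (.N (.N .L .L .L) (.N .L .L .L) .L) (.N (.N .L .L .L) .L .L) .L) .L) (.N (.N (.N .L .L .L) (.N .L (.N .L (.N .L .L .L) .L) .L) .L) (.N (.N .L (.N .L (.N .L .L .L) .L) .L) (.N .L (.N (.N .L .L .L) (.N .L .L .L) .L) .L) .L) .L) .L) (.N (.N .L (.N .L (.N (.N .L .L .L) .L .L) .L) (.N (.N .L .L .L) .L (.N .L .L (.N .L .L (.N .L .L .L))))) .L (.N (.N .L (.N .L (.N .L .L .L) .L) (.N .L .L (.N .L .L .L))) .L (.N (.N .L .L (.N .L .L (.N .L .L .L))) .L (.N .L .L (.N (.N .L .L .L) .L .L)))))) (.N (.N (.N (.N .L .L (.N .L .L (.N .L .L .L))) .L .L) (.N (.N (.N .L .L .L) (.N .L (.N .L .L .L) .L) .L) (.N (.N .L (.N .L (.N .L .L .L) .L) .L) (.N .L (.N .L (.N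 .L .L .L) .L) .L) .L) .L) .L) (.N (.N (.N (.N .L .L (.N .L .L .L)) .L .L) (.N (.N .L (.N .L (.N .L .L .L) .L) .L) (.N (.N .L .L .L) (.N .L (.N .L .L .L) .L) .L) .L) .L) (.N (.N .L (.N (.N .L (.N .L .L .L) .L) (.N .L (.N .L .L .L) .L) .L) .L) (.N (.N .L (.N .L (.N .L .L .L) .L) .L) (.N (.N .L (.N .L .L .L) .L) (.N (.N .L .L .L) .L .L) .L) .L) .L) .L) .L) (.N (.N .L (.N .L (.N (.N (.N .L .L .L) .L .L) .L .L) .L) (.N (.N .L .L (.N .L .L (.N .L .L (.N .L .L .L)))) .L (.N (.N .L .L (.N .L .L .L)) .L (.N (.N .L .L (.N .L .L .L)) .L (.N .L .L (.N .L .L .L)))))) .L (.N (.N .L (.N .L (.N .L .L .L) .L) (.N .L .L (.N .L .L (.N .L .L (.N .L .L .L))))) .L (.N (.N .L .L (.N .L .L (.N .L .L (.N .L .L .L)))) .L (.N (.N .L .L (.N .L .L (.N .L .L .L))) .L (.N (.N .L .L (.N .L .L .L)) .L .L))))))),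
 ([30, 13], (.N (.N (.N (.N (.N (.N .L .L (.N .L .L .L)) .L (.N .L .L .L)) .L (.N .L .L (.N .L .L (.N .L .L .L)))) .L (.N (.N .L (.N .L .L .L) (.N (.N .L .L .L) .L (.N .L .L .L))) .L (.N (.N .L (.N .L (.N .L .L .L) .L) .L) .L (.N .L .L (.N .L .L (.N .L .L .L)))))) (.N (.N (.N .L .L .L) (.N (.N (.N .L .L .L) (.N .L .L .L) .L) (.N (.N .L .L .L) .L .L) .L) .L) (.N (.N (.N .L .L .L) (.N .L (.N .L (.N .L .L .L) .L) .L) .L) (.N (.N .L (.N .L (.N .L .L .L) .L) .L) (.N .L (.N (.N .L .L .L) (.N .L .L .L) .L) .L) .L) .L) .L) (.N (.N .L (.N .L (.N (.N .L .L .L) .L .L) .L) (.N (.N .L .L .L) .L (.N .L .L (.N .L .L (.N .L .L .L))))) .L (.N (.N .L (.N .L (.N .L .L .L) .L) (.N .L .L (.N .L .L .L))) .L (.N (.N .L .L (.N .L .L (.N .L .L .L))) .L (.N .L .L (.N (.N .L .L .L) .L .L)))))) (.N (.N (.N (.N .L .L (.N .L .L (.N .L .L .L))) .L .L) (.N (.N (.N .L .L .L) (.N .L (.N .L .L .L) .L) .L) (.N (.N .L (.N .L (.N .L .L .L) .L) .L) (.N .L (.N .L (.N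 .L .L .L) .L) .L) .L) .L) .L) (.N (.N (.N (.N .L .L (.N .L .L .L)) .L .L) (.N (.N .L (.N .L (.N .L .L .L) .L) .L) (.N (.N .L .L .L) (.N .L (.N .L .L .L) .L) .L) .L) .L) (.N (.N .L (.N (.N .L (.N .L .L .L) .L) (.N .L (.N .L .L .L) .L) .L) .L) (.N (.N .L (.N .L (.N .L .L .L) .L) .L) (.N (.N .L (.N .L .L .L) .L) (.N (.N .L .L .L) .L .L) .L) .L) .L) .L) .L) (.N (.N .L (.N .L (.N (.N (.N .L .L .L) .L .L) .L .L) .L) (.N (.N .L .L (.N .L .L (.N .L .L (.N .L .L .L)))) .L (.N (.N .L .L (.N .L .L .L)) .L (.N (.N .L .L (.N .L .L .L)) .L (.N .L .L (.N .L .L .L)))))) .L (.N (.N .L (.N .L (.N .L .L .L) .L) (.N .L .L (.N .L .L (.N .L .L (.N .L .L .L))))) .L (.N (.N .L .L (.N .L .L (.N .L .L (.N .L .L .L)))) .L (.N (.N .L .L (.N .L .L (.N .L .L .L))) .L (.N (.N .L .L (.N .L .L .L)) .L .L))))))),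
 ([43, 13], (.N (.N (.N (.N (.N (.N .L .L (.N .L .L .L)) .L (.N .L .L .L)) .L (.N .L .L (.N .L .L (.N .L .L .L)))) .L (.N (.N .L (.N .L .L .L) (.N (.N .L .L .L) .L (.N .L .L .L))) .L (.N (.N .L (.N .L (.N .L .L .L) .L) .L) .L (.N .L .L (.N .L .L (.N .L .L .L)))))) (.N (.N (.N .L .L .L) (.N (.N (.N .L .L .L) (.N .L .L .L) .L) (.N (.N .L .L .L) .L .L) .L) .L) (.N (.N (.N .L .L .L) (.N .L (.N .L (.N .L .L .L) .L) .L) .L) (.N (.N .L (.N .L (.N .L .L .L) .L) .L) (.N .L (.N (.N .L .L .L) (.N .L .L .L) .L) .L) .L) .L) .L) (.N (.N .L (.N .L (.N (.N .L .L .L) .L .L) .L) (.N (.N .L .L .L) .L (.N .L .L (.N .L .L (.N .L .L .L))))) .L (.N (.N .L (.N .L (.N .L .L .L) .L) (.N .L .L (.N .L .L .L))) .L (.N (.N .L .L (.N .L .L (.N .L .L .L))) .L (.N .L .L (.N (.N .L .L .L) .L .L)))))) (.N (.N (.N (.N .L .L (.N .L .L (.N .L .L .L))) .L .L) (.N (.N (.N .L .L .L) (.N .L (.N .L .L .L) .L) .L) (.N (.N .L (.N .L (.N .L .L .L) .L) .L) (.N .L (.N .L (.N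 .L .L .L) .L) .L) .L) .L) .L) (.N (.N (.N (.N .L .L (.N .L .L .L)) .L .L) (.N (.N .L (.N .L (.N .L .L .L) .L) .L) (.N (.N .L .L .L) (.N .L (.N .L .L .L) .L) .L) .L) .L) (.N (.N .L (.N (.N .L (.N .L .L .L) .L) (.N .L (.N .L .L .L) .L) .L) .L) (.N (.N .L (.N .L (.N .L .L .L) .L) .L) (.N (.N .L (.N .L .L .L) .L) (.N (.N .L .L .L) .L .L) .L) .L) .L) .L) .L) (.N (.N .L (.N .L (.N (.N (.N .L .L .L) .L .L) .L .L) .L) (.N (.N .L .L (.N .L .L (.N .L .L (.N .L .L .L)))) .L (.N (.N .L .L (.N .L .L .L)) .L (.N (.N .L .L (.N .L .L .L)) .L (.N .L .L (.N .L .L .L)))))) .L (.N (.N .L (.N .L (.N .L .L .L) .L) (.N .L .L (.N .L .L (.N .L .L (.N .L .L .L))))) .L (.N (.N .L .L (.N .L .L (.N .L .L (.N .L .L .L)))) .L (.N (.N .L .L (.N .L .L (.N .L .L .L))) .L (.N (.N .L .L (.N .L .L .L)) .L .L))))))),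
 ([10, 14], (.N (.N (.N (.N (.N (.N .L .L .L) .L (.N .L .L .L)) .L (.N .L .L .L)) .L (.N (.N .L (.N .L .L .L) (.N .L .L .L)) .L .L)) (.N (.N (.N .L .L .L) .L .L) (.N (.N .L (.N .L .L .L) .L) .L .L) .L) (.N (.N .L (.N .L .L .L) (.N (.N .L .L .L) .L .L)) .L (.N .L .L (.N .L .L (.N .L .L .L))))) (.N (.N (.N (.N .L .L .L) .L .L) (.N .L (.N (.N .L .L .L) .L .L) .L) .L) (.N (.N .L .L .L) (.N .L (.N .L .L .L) .L) .L) .L) (.N (.N .L (.N .L (.N (.N .L .L .L) .L .L) .L) (.N (.N .L .L .L) .L .L)) .L (.N (.N .L (.N .L (.N .L .L .L) .L) (.N .L .L (.N .L .L .L))) .L (.N (.N .L .L .L) .L .L))))),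
 ([13, 14], (.N (.N (.N (.N (.N (.N .L .L (.N .L .L .L)) .L (.N .L .L .L)) .L (.N .L .L (.N .L .L (.N .L .L .L)))) .L (.N (.N .L (.N .L .L .L) (.N (.N .L .L .L) .L (.N .L .L .L))) .L (.N (.N .L (.N .L (.N .L .L .L) .L) .L) .L (.N .L .L (.N .L .L (.N .L .L .L)))))) (.N (.N (.N .L .L .L) (.N (.N (.N .L .L .L) (.N .L .L .L) .L) (.N (.N .L .L .L) .L .L) .L) .L) (.N (.N (.N .L .L .L) (.N .L (.N .L (.N .L .L .L) .L) .L) .L) (.N (.N .L (.N .L (.N .L .L .L) .L) .L) (.N .L (.N (.N .L .L .L) (.N .L .L .L) .L) .L) .L) .L) .L) (.N (.N .L (.N .L (.N (.N .L .L .L) .L .L) .L) (.N (.N .L .L .L) .L (.N .L .L (.N .L .L (.N .L .L .L))))) .L (.N (.N .L (.N .L (.N .L .L .L) .L) (.N .L .L (.N .L .L .L))) .L (.N (.N .L .L (.N .L .L (.N .L .L .L))) .L (.N .L .L (.N (.N .L .L .L) .L .L)))))) (.N (.N (.N (.N .L .L (.N .L .L (.N .L .L .L))) .L .L) (.N (.N (.N .L .L .L) (.N .L (.N .L .L .L) .L) .L) (.N (.N .L (.N .L (.N .L .L .L) .L) .L) (.N .L (.N .L (.N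 .L .L .L) .L) .L) .L) .L) .L) (.N (.N (.N (.N .L .L (.N .L .L .L)) .L .L) (.N (.N .L (.N .L (.N .L .L .L) .L) .L) (.N (.N .L .L .L) (.N .L (.N .L .L .L) .L) .L) .L) .L) (.N (.N .L (.N (.N .L (.N .L .L .L) .L) (.N .L (.N .L .L .L) .L) .L) .L) (.N (.N .L (.N .L (.N .L .L .L) .L) .L) (.N (.N .L (.N .L .L .L) .L) (.N (.N .L .L .L) .L .L) .L) .L) .L) .L) .L) (.N (.N .L (.N .L (.N (.N (.N .L .L .L) .L .L) .L .L) .L) (.N (.N .L .L (.N .L .L (.N .L .L (.N .L .L .L)))) .L (.N (.N .L .L (.N .L .L .L)) .L (.N (.N .L .L (.N .L .L .L)) .L (.N .L .L (.N .L .L .L)))))) .L (.N (.N .L (.N .L (.N .L .L .L) .L) (.N .L .L (.N .L .L (.N .L .L (.N .L .L .L))))) .L (.N (.N .L .L (.N .L .L (.N .L .L (.N .L .L .L)))) .L (.N (.N .L .L (.N .L .L (.N .L .L .L))) .L (.N (.N .L .L (.N .L .L .L)) .L .L))))))),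
 ([16, 14], (.N (.N (.N (.N (.N (.N .L .L (.N .L .L .L)) .L (.N .L .L .L)) .L (.N .L .L (.N .L .L (.N .L .L .L)))) .L (.N (.N .L (.N .L .L .L) (.N (.N .L .L .L) .L (.N .L .L .L))) .L (.N (.N .L (.N .L (.N .L .L .L) .L) .L) .L (.N .L .L (.N .L .L (.N .L .L .L)))))) (.N (.N (.N .L .L .L) (.N (.N (.N .L .L .L) (.N .L .L .L) .L) (.N (.N .L .L .L) .L .L) .L) .L) (.N (.N (.N .L .L .L) (.N .L (.N .L (.N .L .L .L) .L) .L) .L) (.N (.N .L (.N .L (.N .L .L .L) .L) .L) (.N .L (.N (.N .L .L .L) (.N .L .L .L) .L) .L) .L) .L) .L) (.N (.N .L (.N .L (.N (.N .L .L .L) .L .L) .L) (.N (.N .L .L .L) .L (.N .L .L (.N .L .L (.N .L .L .L))))) .L (.N (.N .L (.N .L (.N .L .L .L) .L) (.N .L .L (.N .L .L .L))) .L (.N (.N .L .L (.N .L .L (.N .L .L .L))) .L (.N .L .L (.N (.N .L .L .L) .L .L)))))) (.N (.N (.N (.N .L .L (.N .L .L (.N .L .L .L))) .L .L) (.N (.N (.N .L .L .L) (.N .L (.N .L .L .L) .L) .L) (.N (.N .L (.N .L (.N .L .L .L) .L) .L) (.N .L (.N .L (.N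 .L .L .L) .L) .L) .L) .L) .L) (.N (.N (.N (.N .L .L (.N .L .L .L)) .L .L) (.N (.N .L (.N .L (.N .L .L .L) .L) .L) (.N (.N .L .L .L) (.N .L (.N .L .L .L) .L) .L) .L) .L) (.N (.N .L (.N (.N .L (.N .L .L .L) .L) (.N .L (.N .L .L .L) .L) .L) .L) (.N (.N .L (.N .L (.N .L .L .L) .L) .L) (.N (.N .L (.N .L .L .L) .L) (.N (.N .L .L .L) .L .L) .L) .L) .L) .L) .L) (.N (.N .L (.N .L (.N (.N (.N .L .L .L) .L .L) .L .L) .L) (.N (.N .L .L (.N .L .L (.N .L .L (.N .L .L .L)))) .L (.N (.N .L .L (.N .L .L .L)) .L (.N (.N .L .L (.N .L .L .L)) .L (.N .L .L (.N .L .L .L)))))) .L (.N (.N .L (.N .L (.N .L .L .L) .L) (.N .L .L (.N .L .L (.N .L .L (.N .L .L .L))))) .L (.N (.N .L .L (.N .L .L (.N .L .L (.N .L .L .L)))) .L (.N (.N .L .L (.N .L .L (.N .L .L .L))) .L (.N (.N .L .L (.N .L .L .L)) .L .L)))))))]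

noncomputable def X6 : ℕ :=
  cat 4096 [nat_lit 0x60800400a00486420402240020a00090050004200001000102000802840001000040000000010280800040000041240000008000100000220800008008100000080000000000000300104008800000030002000116080000004281200000000200180000013102000c04040000008000020200000400000084800100100004040250010002000480401000010020404000002090002002001000000010000004200400010c01019004000002800080020801150008404010000010110020000000015004041000200100020000040002404005100008800000101041020008020000204028205028000100010002280152020310002813200020400400000000005200240008200010208400104030020000900005080000012a0002402220000000041010000000000800440044040018080001011000000414000000001002000000000200004004010020201000800000000000810300088000100000000240800000100000a0000012000001080000190040000000000443000201403000000000438000084205015000900000020002100002204080140000004000001008801040040100000220000000480000001023005000b0a0000004001400000010000000030004400c2000000804008004080061421100010000000000040120002000000002011000000086000a400107080000000000800004002200004000,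
 nat_lit 0x1420420c000000400040014421000240040008000000400400201000080040100080004020000008040000000005000881400440c402000480001201222000000200480880090101840082000802000000400400010021480a0008184148000a01402004840280031250093000021408020200000002040005000104000000800000081000028021040010389104020000040000014005000000000400404200000200000044400200002400086000000000000281000010100000000000010040000000020000000400000400070000401000200000000000008141000004000800000080100040420c40000001266000000000060802000800000008100024400403000802090040010000408000001000080000001020002040040000101040400000200090000008220400000000000004000000020000200000011002002080010000001a000008100240001000000040040040000000020c00001041004040001400000000208424000000020212000000001000000842001800000040100000008c40000000000000000004010c820c2004000150000009482000100180004800018000100260010000000100040000400004004002000000400000000000000009000000120200000028041000000000208610008001010001400000000000020000240408000800008080100000082040010004120000042000,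
 nat_lit 0x12000002010080040000200000208210c002200001200940020840404a04000044401140000218004000000110240000800000000010c0004241001000000000110000100c000020802000100000000040000143080000024000001000019000000000104000100040040004020000000204204000400000000601000400000001010000010000004000400100500508020218008080000004160000002100400010c12000000040010402012800054000400171140000018045100004004a4100028028020a48010200200000000110c8801000108200000010000010080200000408000000000060400048000000008108000000080020040001000122020000009010400061002002000060080000018048001000020000000018000004060040004e008008000000000000a08480000c01000a0200810002100902000000000000801100800015000000010080140400208200000000000000011a0004001020000011010000000000000800440a400000108404000000c0002000000000008808008044000000400410010000040018020000080080010000000000000000000208040c0000800060000000000240480400000841000480000010548000081440c0800100040040000000040000000000400100000000220000500884000002000000000010800114100030100001000101080001210c00800004260002,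
 nat_lit 0x251000000010a001200001004020000000001000210008200000002020020a0810540b000001100002004000811000800000000040000000000080000044010200000000040a1000044000010002010040000000404040000014100800000018000002200000000804009080a0200000004080280000000000000121060500101022004800010050000008000000484301400080000004002200600000001140028a0000108010100000000000814008400280010212041000000050025000801000180000c0200000000010000120002480000000020800100020400400000000800001180000000000000040000200000000008020e4000201104100800002010000001000041200002100104022000200000002c0000340200002404020010002000000400640028200000162280002080000018094020600010100000a000101140300002002102100120000280024400810010100000700000000020200000000000000003401000014008402150404a000001000020100201005050401800000000000000004490200400008200205040000000101000000000c0000040001001304000100482148000000902100080020040016004400440000000091000000040000c10000c000800000088200000011004020000004000202000000000000000000042010000000000004000082000006008000102010000008,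
 nat_lit 0x5044001c2000001010005640000014000000001000080042010020000400200000004002000520000000000900400602000100c000001000080480008020810000810040060020000000080000620100400220200000000000000002a00000008000000034c0001010440002880040008008000010040100024008000314480000104000010000014c0001020016000040002000480010b000]

theorem Q6_for : Nat.beq (forestH 4096 hs ns [46] [108] [109] F0 Q6) X6 = true :=
  by decide +kernel

theorem Q6_big : allL Q6 (fun r => and' (wordIn (sTop A_S1) r.1) (Nat.blt 1560 (pcN 4096 12 (orb ns (bigW r.1) 3 1)))) = true :=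
  by decide +kernel

noncomputable def Q7 : List (List ℕ × T3) :=
  [([24, 14], (.N (.N (.N (.N (.N (.N .L .L (.N .L .L .L)) .L (.N .L .L .L)) .L (.N .L .L (.N .L .L (.N .L .L .L)))) .L (.N (.N .L (.N .L .L .L) (.N (.N .L .L .L) .L (.N .L .L .L))) .L (.N (.N .L (.N .L (.N .L .L .L) .L) .L) .L (.N .L .L (.N .L .L (.N .L .L .L)))))) (.N (.N (.N .L .L .L) (.N (.N (.N .L .L .L) (.N .L .L .L) .L) (.N (.N .L .L .L) .L .L) .L) .L) (.N (.N (.N .L .L .L) (.N .L (.N .L (.N .L .L .L) .L) .L) .L) (.N (.N .L (.N .L (.N .L .L .L) .L) .L) (.N .L (.N (.N .L .L .L) (.N .L .L .L) .L) .L) .L) .L) .L) (.N (.N .L (.N .L (.N (.N .L .L .L) .L .L) .L) (.N (.N .L .L .L) .L (.N .L .L (.N .L .L (.N .L .L .L))))) .L (.N (.N .L (.N .L (.N .L .L .L) .L) (.N .L .L (.N .L .L .L))) .L (.N (.N .L .L (.N .L .L (.N .L .L .L))) .L (.N .L .L (.N (.N .L .L .L) .L .L)))))) (.N (.N (.N (.N .L .L (.N .L .L (.N .L .L .L))) .L .L) (.N (.N (.N .L .L .L) (.N .L (.N .L .L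 .L) .L) .L) (.N (.N .L (.N .L (.N .L .L .L) .L) .L) (.N .L (.N .L (.N .L .L .L) .L) .L) .L) .L) .L) (.N (.N (.N (.N .L .L (.N .L .L .L)) .L .L) (.N (.N .L (.N .L (.N .L .L .L) .L) .L) (.N (.N .L .L .L) (.N .L (.N .L .L .L) .L) .L) .L) .L) (.N (.N .L (.N (.N .L (.N .L .L .L) .L) (.N .L (.N .L .L .L) .L) .L) .L) (.N (.N .L (.N .L (.N .L .L .L) .L) .L) (.N (.N .L (.N .L .L .L) .L) (.N (.N .L .L .L) .L .L) .L) .L) .L) .L) .L) (.N (.N .L (.N .L (.N (.N (.N .L .L .L) .L .L) .L .L) .L) (.N (.N .L .L (.N .L .L (.N .L .L (.N .L .L .L)))) .L (.N (.N .L .L (.N .L .L .L)) .L (.N (.N .L .L (.N .L .L .L)) .L (.N .L .L (.N .L .L .L)))))) .L (.N (.N .L (.N .L (.N .L .L .L) .L) (.N .L .L (.N .L .L (.N .L .L (.N .L .L .L))))) .L (.N (.N .L .L (.N .L .L (.N .L .L (.N .L .L .L)))) .L (.N (.N .L .L (.N .L .L (.N .L .L .L))) .L (.N (.N .L .L (.N .L .L .L)) .L .L))))))),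
 ([25, 14], (.N (.N (.N (.N (.N (.N .L .L (.N .L .L .L)) .L (.N .L .L .L)) .L (.N .L .L (.N .L .L (.N .L .L .L)))) .L (.N (.N .L (.N .L .L .L) (.N (.N .L .L .L) .L (.N .L .L .L))) .L (.N (.N .L (.N .L (.N .L .L .L) .L) .L) .L (.N .L .L (.N .L .L (.N .L .L .L)))))) (.N (.N (.N .L .L .L) (.N (.N (.N .L .L .L) (.N .L .L .L) .L) (.N (.N .L .L .L) .L .L) .L) .L) (.N (.N (.N .L .L .L) (.N .L (.N .L (.N .L .L .L) .L) .L) .L) (.N (.N .L (.N .L (.N .L .L .L) .L) .L) (.N .L (.N (.N .L .L .L) (.N .L .L .L) .L) .L) .L) .L) .L) (.N (.N .L (.N .L (.N (.N .L .L .L) .L .L) .L) (.N (.N .L .L .L) .L (.N .L .L (.N .L .L (.N .L .L .L))))) .L (.N (.N .L (.N .L (.N .L .L .L) .L) (.N .L .L (.N .L .L .L))) .L (.N (.N .L .L (.N .L .L (.N .L .L .L))) .L (.N .L .L (.N (.N .L .L .L) .L .L)))))) (.N (.N (.N (.N .L .L (.N .L .L (.N .L .L .L))) .L .L) (.N (.N (.N .L .L .L) (.N .L (.N .L .L .L) .L) .L) (.N (.N .L (.N .L (.N .L .L .L) .L) .L) (.N .L (.N .L (.N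 .L .L .L) .L) .L) .L) .L) .L) (.N (.N (.N (.N .L .L (.N .L .L .L)) .L .L) (.N (.N .L (.N .L (.N .L .L .L) .L) .L) (.N (.N .L .L .L) (.N .L (.N .L .L .L) .L) .L) .L) .L) (.N (.N .L (.N (.N .L (.N .L .L .L) .L) (.N .L (.N .L .L .L) .L) .L) .L) (.N (.N .L (.N .L (.N .L .L .L) .L) .L) (.N (.N .L (.N .L .L .L) .L) (.N (.N .L .L .L) .L .L) .L) .L) .L) .L) .L) (.N (.N .L (.N .L (.N (.N (.N .L .L .L) .L .L) .L .L) .L) (.N (.N .L .L (.N .L .L (.N .L .L (.N .L .L .L)))) .L (.N (.N .L .L (.N .L .L .L)) .L (.N (.N .L .L (.N .L .L .L)) .L (.N .L .L (.N .L .L .L)))))) .L (.N (.N .L (.N .L (.N .L .L .L) .L) (.N .L .L (.N .L .L (.N .L .L (.N .L .L .L))))) .L (.N (.N .L .L (.N .L .L (.N .L .L (.N .L .L .L)))) .L (.N (.N .L .L (.N .L .L (.N .L .L .L))) .L (.N (.N .L .L (.N .L .L .L)) .L .L))))))),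
 ([31, 14], (.N (.N (.N (.N (.N (.N .L .L (.N .L .L .L)) .L (.N .L .L .L)) .L (.N .L .L (.N .L .L (.N .L .L .L)))) .L (.N (.N .L (.N .L .L .L) (.N (.N .L .L .L) .L (.N .L .L .L))) .L (.N (.N .L (.N .L (.N .L .L .L) .L) .L) .L (.N .L .L (.N .L .L (.N .L .L .L)))))) (.N (.N (.N .L .L .L) (.N (.N (.N .L .L .L) (.N .L .L .L) .L) (.N (.N .L .L .L) .L .L) .L) .L) (.N (.N (.N .L .L .L) (.N .L (.N .L (.N .L .L .L) .L) .L) .L) (.N (.N .L (.N .L (.N .L .L .L) .L) .L) (.N .L (.N (.N .L .L .L) (.N .L .L .L) .L) .L) .L) .L) .L) (.N (.N .L (.N .L (.N (.N .L .L .L) .L .L) .L) (.N (.N .L .L .L) .L (.N .L .L (.N .L .L (.N .L .L .L))))) .L (.N (.N .L (.N .L (.N .L .L .L) .L) (.N .L .L (.N .L .L .L))) .L (.N (.N .L .L (.N .L .L (.N .L .L .L))) .L (.N .L .L (.N (.N .L .L .L) .L .L)))))) (.N (.N (.N (.N .L .L (.N .L .L (.N .L .L .L))) .L .L) (.N (.N (.N .L .L .L) (.N .L (.N .L .L .L) .L) .L) (.N (.N .L (.N .L (.N .L .L .L) .L) .L) (.N .L (.N .L (.N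 .L .L .L) .L) .L) .L) .L) .L) (.N (.N (.N (.N .L .L (.N .L .L .L)) .L .L) (.N (.N .L (.N .L (.N .L .L .L) .L) .L) (.N (.N .L .L .L) (.N .L (.N .L .L .L) .L) .L) .L) .L) (.N (.N .L (.N (.N .L (.N .L .L .L) .L) (.N .L (.N .L .L .L) .L) .L) .L) (.N (.N .L (.N .L (.N .L .L .L) .L) .L) (.N (.N .L (.N .L .L .L) .L) (.N (.N .L .L .L) .L .L) .L) .L) .L) .L) .L) (.N (.N .L (.N .L (.N (.N (.N .L .L .L) .L .L) .L .L) .L) (.N (.N .L .L (.N .L .L (.N .L .L (.N .L .L .L)))) .L (.N (.N .L .L (.N .L .L .L)) .L (.N (.N .L .L (.N .L .L .L)) .L (.N .L .L (.N .L .L .L)))))) .L (.N (.N .L (.N .L (.N .L .L .L) .L) (.N .L .L (.N .L .L (.N .L .L (.N .L .L .L))))) .L (.N (.N .L .L (.N .L .L (.N .L .L (.N .L .L .L)))) .L (.N (.N .L .L (.N .L .L (.N .L .L .L))) .L (.N (.N .L .L (.N .L .L .L)) .L .L))))))),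
 ([34, 14], (.N (.N (.N (.N (.N (.N .L .L (.N .L .L .L)) .L (.N .L .L .L)) .L (.N .L .L (.N .L .L (.N .L .L .L)))) .L (.N (.N .L (.N .L .L .L) (.N (.N .L .L .L) .L (.N .L .L .L))) .L (.N (.N .L (.N .L (.N .L .L .L) .L) .L) .L (.N .L .L (.N .L .L (.N .L .L .L)))))) (.N (.N (.N .L .L .L) (.N (.N (.N .L .L .L) (.N .L .L .L) .L) (.N (.N .L .L .L) .L .L) .L) .L) (.N (.N (.N .L .L .L) (.N .L (.N .L (.N .L .L .L) .L) .L) .L) (.N (.N .L (.N .L (.N .L .L .L) .L) .L) (.N .L (.N (.N .L .L .L) (.N .L .L .L) .L) .L) .L) .L) .L) (.N (.N .L (.N .L (.N (.N .L .L .L) .L .L) .L) (.N (.N .L .L .L) .L (.N .L .L (.N .L .L (.N .L .L .L))))) .L (.N (.N .L (.N .L (.N .L .L .L) .L) (.N .L .L (.N .L .L .L))) .L (.N (.N .L .L (.N .L .L (.N .L .L .L))) .L (.N .L .L (.N (.N .L .L .L) .L .L)))))) (.N (.N (.N (.N .L .L (.N .L .L (.N .L .L .L))) .L .L) (.N (.N (.N .L .L .L) (.N .L (.N .L .L .L) .L) .L) (.N (.N .L (.N .L (.N .L .L .L) .L) .L) (.N .L (.N .L (.N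 .L .L .L) .L) .L) .L) .L) .L) (.N (.N (.N (.N .L .L (.N .L .L .L)) .L .L) (.N (.N .L (.N .L (.N .L .L .L) .L) .L) (.N (.N .L .L .L) (.N .L (.N .L .L .L) .L) .L) .L) .L) (.N (.N .L (.N (.N .L (.N .L .L .L) .L) (.N .L (.N .L .L .L) .L) .L) .L) (.N (.N .L (.N .L (.N .L .L .L) .L) .L) (.N (.N .L (.N .L .L .L) .L) (.N (.N .L .L .L) .L .L) .L) .L) .L) .L) .L) (.N (.N .L (.N .L (.N (.N (.N .L .L .L) .L .L) .L .L) .L) (.N (.N .L .L (.N .L .L (.N .L .L (.N .L .L .L)))) .L (.N (.N .L .L (.N .L .L .L)) .L (.N (.N .L .L (.N .L .L .L)) .L (.N .L .L (.N .L .L .L)))))) .L (.N (.N .L (.N .L (.N .L .L .L) .L) (.N .L .L (.N .L .L (.N .L .L (.N .L .L .L))))) .L (.N (.N .L .L (.N .L .L (.N .L .L (.N .L .L .L)))) .L (.N (.N .L .L (.N .L .L (.N .L .L .L))) .L (.N (.N .L .L (.N .L .L .L)) .L .L))))))),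
 ([39, 14], (.N (.N (.N (.N (.N (.N .L .L (.N .L .L .L)) .L (.N .L .L .L)) .L (.N .L .L (.N .L .L (.N .L .L .L)))) .L (.N (.N .L (.N .L .L .L) (.N (.N .L .L .L) .L (.N .L .L .L))) .L (.N (.N .L (.N .L (.N .L .L .L) .L) .L) .L (.N .L .L (.N .L .L (.N .L .L .L)))))) (.N (.N (.N .L .L .L) (.N (.N (.N .L .L .L) (.N .L .L .L) .L) (.N (.N .L .L .L) .L .L) .L) .L) (.N (.N (.N .L .L .L) (.N .L (.N .L (.N .L .L .L) .L) .L) .L) (.N (.N .L (.N .L (.N .L .L .L) .L) .L) (.N .L (.N (.N .L .L .L) (.N .L .L .L) .L) .L) .L) .L) .L) (.N (.N .L (.N .L (.N (.N .L .L .L) .L .L) .L) (.N (.N .L .L .L) .L (.N .L .L (.N .L .L (.N .L .L .L))))) .L (.N (.N .L (.N .L (.N .L .L .L) .L) (.N .L .L (.N .L .L .L))) .L (.N (.N .L .L (.N .L .L (.N .L .L .L))) .L (.N .L .L (.N (.N .L .L .L) .L .L)))))) (.N (.N (.N (.N .L .L (.N .L .L (.N .L .L .L))) .L .L) (.N (.N (.N .L .L .L) (.N .L (.N .L .L .L) .L) .L) (.N (.N .L (.N .L (.N .L .L .L) .L) .L) (.N .L (.N .L (.N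 .L .L .L) .L) .L) .L) .L) .L) (.N (.N (.N (.N .L .L (.N .L .L .L)) .L .L) (.N (.N .L (.N .L (.N .L .L .L) .L) .L) (.N (.N .L .L .L) (.N .L (.N .L .L .L) .L) .L) .L) .L) (.N (.N .L (.N (.N .L (.N .L .L .L) .L) (.N .L (.N .L .L .L) .L) .L) .L) (.N (.N .L (.N .L (.N .L .L .L) .L) .L) (.N (.N .L (.N .L .L .L) .L) (.N (.N .L .L .L) .L .L) .L) .L) .L) .L) .L) (.N (.N .L (.N .L (.N (.N (.N .L .L .L) .L .L) .L .L) .L) (.N (.N .L .L (.N .L .L (.N .L .L (.N .L .L .L)))) .L (.N (.N .L .L (.N .L .L .L)) .L (.N (.N .L .L (.N .L .L .L)) .L (.N .L .L (.N .L .L .L)))))) .L (.N (.N .L (.N .L (.N .L .L .L) .L) (.N .L .L (.N .L .L (.N .L .L (.N .L .L .L))))) .L (.N (.N .L .L (.N .L .L (.N .L .L (.N .L .L .L)))) .L (.N (.N .L .L (.N .L .L (.N .L .L .L))) .L (.N (.N .L .L (.N .L .L .L)) .L .L))))))),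
 ([43, 14], (.N (.N (.N (.N (.N (.N .L .L (.N .L .L .L)) .L (.N .L .L .L)) .L (.N .L .L (.N .L .L (.N .L .L .L)))) .L (.N (.N .L (.N .L .L .L) (.N (.N .L .L .L) .L (.N .L .L .L))) .L (.N (.N .L (.N .L (.N .L .L .L) .L) .L) .L (.N .L .L (.N .L .L (.N .L .L .L)))))) (.N (.N (.N .L .L .L) (.N (.N (.N .L .L .L) (.N .L .L .L) .L) (.N (.N .L .L .L) .L .L) .L) .L) (.N (.N (.N .L .L .L) (.N .L (.N .L (.N .L .L .L) .L) .L) .L) (.N (.N .L (.N .L (.N .L .L .L) .L) .L) (.N .L (.N (.N .L .L .L) (.N .L .L .L) .L) .L) .L) .L) .L) (.N (.N .L (.N .L (.N (.N .L .L .L) .L .L) .L) (.N (.N .L .L .L) .L (.N .L .L (.N .L .L (.N .L .L .L))))) .L (.N (.N .L (.N .L (.N .L .L .L) .L) (.N .L .L (.N .L .L .L))) .L (.N (.N .L .L (.N .L .L (.N .L .L .L))) .L (.N .L .L (.N (.N .L .L .L) .L .L)))))) (.N (.N (.N (.N .L .L (.N .L .L (.N .L .L .L))) .L .L) (.N (.N (.N .L .L .L) (.N .L (.N .L .L .L) .L) .L) (.N (.N .L (.N .L (.N .L .L .L) .L) .L) (.N .L (.N .L (.N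 .L .L .L) .L) .L) .L) .L) .L) (.N (.N (.N (.N .L .L (.N .L .L .L)) .L .L) (.N (.N .L (.N .L (.N .L .L .L) .L) .L) (.N (.N .L .L .L) (.N .L (.N .L .L .L) .L) .L) .L) .L) (.N (.N .L (.N (.N .L (.N .L .L .L) .L) (.N .L (.N .L .L .L) .L) .L) .L) (.N (.N .L (.N .L (.N .L .L .L) .L) .L) (.N (.N .L (.N .L .L .L) .L) (.N (.N .L .L .L) .L .L) .L) .L) .L) .L) .L) (.N (.N .L (.N .L (.N (.N (.N .L .L .L) .L .L) .L .L) .L) (.N (.N .L .L (.N .L .L (.N .L .L (.N .L .L .L)))) .L (.N (.N .L .L (.N .L .L .L)) .L (.N (.N .L .L (.N .L .L .L)) .L (.N .L .L (.N .L .L .L)))))) .L (.N (.N .L (.N .L (.N .L .L .L) .L) (.N .L .L (.N .L .L (.N .L .L (.N .L .L .L))))) .L (.N (.N .L .L (.N .L .L (.N .L .L (.N .L .L .L)))) .L (.N (.N .L .L (.N .L .L (.N .L .L .L))) .L (.N (.N .L .L (.N .L .L .L)) .L .L))))))),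
 ([25, 15], (.N (.N (.N (.N (.N (.N .L .L (.N .L .L .L)) .L (.N .L .L .L)) .L (.N .L .L (.N .L .L (.N .L .L .L)))) .L (.N (.N .L (.N .L .L .L) (.N (.N .L .L .L) .L (.N .L .L .L))) .L (.N (.N .L (.N .L (.N .L .L .L) .L) .L) .L (.N .L .L (.N .L .L (.N .L .L .L)))))) (.N (.N (.N .L .L .L) (.N (.N (.N .L .L .L) (.N .L .L .L) .L) (.N (.N .L .L .L) .L .L) .L) .L) (.N (.N (.N .L .L .L) (.N .L (.N .L (.N .L .L .L) .L) .L) .L) (.N (.N .L (.N .L (.N .L .L .L) .L) .L) (.N .L (.N (.N .L .L .L) (.N .L .L .L) .L) .L) .L) .L) .L) (.N (.N .L (.N .L (.N (.N .L .L .L) .L .L) .L) (.N (.N .L .L .L) .L (.N .L .L (.N .L .L (.N .L .L .L))))) .L (.N (.N .L (.N .L (.N .L .L .L) .L) (.N .L .L (.N .L .L .L))) .L (.N (.N .L .L (.N .L .L (.N .L .L .L))) .L (.N .L .L (.N (.N .L .L .L) .L .L)))))) (.N (.N (.N (.N .L .L (.N .L .L (.N .L .L .L))) .L .L) (.N (.N (.N .L .L .L) (.N .L (.N .L .L .L) .L) .L) (.N (.N .L (.N .L (.N .L .L .L) .L) .L) (.N .L (.N .L (.N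 .L .L .L) .L) .L) .L) .L) .L) (.N (.N (.N (.N .L .L (.N .L .L .L)) .L .L) (.N (.N .L (.N .L (.N .L .L .L) .L) .L) (.N (.N .L .L .L) (.N .L (.N .L .L .L) .L) .L) .L) .L) (.N (.N .L (.N (.N .L (.N .L .L .L) .L) (.N .L (.N .L .L .L) .L) .L) .L) (.N (.N .L (.N .L (.N .L .L .L) .L) .L) (.N (.N .L (.N .L .L .L) .L) (.N (.N .L .L .L) .L .L) .L) .L) .L) .L) .L) (.N (.N .L (.N .L (.N (.N (.N .L .L .L) .L .L) .L .L) .L) (.N (.N .L .L (.N .L .L (.N .L .L (.N .L .L .L)))) .L (.N (.N .L .L (.N .L .L .L)) .L (.N (.N .L .L (.N .L .L .L)) .L (.N .L .L (.N .L .L .L)))))) .L (.N (.N .L (.N .L (.N .L .L .L) .L) (.N .L .L (.N .L .L (.N .L .L (.N .L .L .L))))) .L (.N (.N .L .L (.N .L .L (.N .L .L (.N .L .L .L)))) .L (.N (.N .L .L (.N .L .L (.N .L .L .L))) .L (.N (.N .L .L (.N .L .L .L)) .L .L))))))),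
 ([30, 15], (.N (.N (.N (.N (.N (.N .L .L (.N .L .L .L)) .L (.N .L .L .L)) .L (.N .L .L (.N .L .L (.N .L .L .L)))) .L (.N (.N .L (.N .L .L .L) (.N (.N .L .L .L) .L (.N .L .L .L))) .L (.N (.N .L (.N .L (.N .L .L .L) .L) .L) .L (.N .L .L (.N .L .L (.N .L .L .L)))))) (.N (.N (.N .L .L .L) (.N (.N (.N .L .L .L) (.N .L .L .L) .L) (.N (.N .L .L .L) .L .L) .L) .L) (.N (.N (.N .L .L .L) (.N .L (.N .L (.N .L .L .L) .L) .L) .L) (.N (.N .L (.N .L (.N .L .L .L) .L) .L) (.N .L (.N (.N .L .L .L) (.N .L .L .L) .L) .L) .L) .L) .L) (.N (.N .L (.N .L (.N (.N .L .L .L) .L .L) .L) (.N (.N .L .L .L) .L (.N .L .L (.N .L .L (.N .L .L .L))))) .L (.N (.N .L (.N .L (.N .L .L .L) .L) (.N .L .L (.N .L .L .L))) .L (.N (.N .L .L (.N .L .L (.N .L .L .L))) .L (.N .L .L (.N (.N .L .L .L) .L .L)))))) (.N (.N (.N (.N .L .L (.N .L .L (.N .L .L .L))) .L .L) (.N (.N (.N .L .L .L) (.N .L (.N .L .L .L) .L) .L) (.N (.N .L (.N .L (.N .L .L .L) .L) .L) (.N .L (.N .L (.N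 .L .L .L) .L) .L) .L) .L) .L) (.N (.N (.N (.N .L .L (.N .L .L .L)) .L .L) (.N (.N .L (.N .L (.N .L .L .L) .L) .L) (.N (.N .L .L .L) (.N .L (.N .L .L .L) .L) .L) .L) .L) (.N (.N .L (.N (.N .L (.N .L .L .L) .L) (.N .L (.N .L .L .L) .L) .L) .L) (.N (.N .L (.N .L (.N .L .L .L) .L) .L) (.N (.N .L (.N .L .L .L) .L) (.N (.N .L .L .L) .L .L) .L) .L) .L) .L) .L) (.N (.N .L (.N .L (.N (.N (.N .L .L .L) .L .L) .L .L) .L) (.N (.N .L .L (.N .L .L (.N .L .L (.N .L .L .L)))) .L (.N (.N .L .L (.N .L .L .L)) .L (.N (.N .L .L (.N .L .L .L)) .L (.N .L .L (.N .L .L .L)))))) .L (.N (.N .L (.N .L (.N .L .L .L) .L) (.N .L .L (.N .L .L (.N .L .L (.N .L .L .L))))) .L (.N (.N .L .L (.N .L .L (.N .L .L (.N .L .L .L)))) .L (.N (.N .L .L (.N .L .L (.N .L .L .L))) .L (.N (.N .L .L (.N .L .L .L)) .L .L))))))),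
 ([43, 15], (.N (.N (.N (.N (.N (.N .L .L (.N .L .L .L)) .L (.N .L .L .L)) .L (.N .L .L (.N .L .L (.N .L .L .L)))) .L (.N (.N .L (.N .L .L .L) (.N (.N .L .L .L) .L (.N .L .L .L))) .L (.N (.N .L (.N .L (.N .L .L .L) .L) .L) .L (.N .L .L (.N .L .L (.N .L .L .L)))))) (.N (.N (.N .L .L .L) (.N (.N (.N .L .L .L) (.N .L .L .L) .L) (.N (.N .L .L .L) .L .L) .L) .L) (.N (.N (.N .L .L .L) (.N .L (.N .L (.N .L .L .L) .L) .L) .L) (.N (.N .L (.N .L (.N .L .L .L) .L) .L) (.N .L (.N (.N .L .L .L) (.N .L .L .L) .L) .L) .L) .L) .L) (.N (.N .L (.N .L (.N (.N .L .L .L) .L .L) .L) (.N (.N .L .L .L) .L (.N .L .L (.N .L .L (.N .L .L .L))))) .L (.N (.N .L (.N .L (.N .L .L .L) .L) (.N .L .L (.N .L .L .L))) .L (.N (.N .L .L (.N .L .L (.N .L .L .L))) .L (.N .L .L (.N (.N .L .L .L) .L .L)))))) (.N (.N (.N (.N .L .L (.N .L .L (.N .L .L .L))) .L .L) (.N (.N (.N .L .L .L) (.N .L (.N .L .L .L) .L) .L) (.N (.N .L (.N .L (.N .L .L .L) .L) .L) (.N .L (.N .L (.N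 .L .L .L) .L) .L) .L) .L) .L) (.N (.N (.N (.N .L .L (.N .L .L .L)) .L .L) (.N (.N .L (.N .L (.N .L .L .L) .L) .L) (.N (.N .L .L .L) (.N .L (.N .L .L .L) .L) .L) .L) .L) (.N (.N .L (.N (.N .L (.N .L .L .L) .L) (.N .L (.N .L .L .L) .L) .L) .L) (.N (.N .L (.N .L (.N .L .L .L) .L) .L) (.N (.N .L (.N .L .L .L) .L) (.N (.N .L .L .L) .L .L) .L) .L) .L) .L) .L) (.N (.N .L (.N .L (.N (.N (.N .L .L .L) .L .L) .L .L) .L) (.N (.N .L .L (.N .L .L (.N .L .L (.N .L .L .L)))) .L (.N (.N .L .L (.N .L .L .L)) .L (.N (.N .L .L (.N .L .L .L)) .L (.N .L .L (.N .L .L .L)))))) .L (.N (.N .L (.N .L (.N .L .L .L) .L) (.N .L .L (.N .L .L (.N .L .L (.N .L .L .L))))) .L (.N (.N .L .L (.N .L .L (.N .L .L (.N .L .L .L)))) .L (.N (.N .L .L (.N .L .L (.N .L .L .L))) .L (.N (.N .L .L (.N .L .L .L)) .L .L))))))),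
 ([44, 15], (.N (.N (.N (.N (.N (.N .L .L (.N .L .L .L)) .L (.N .L .L .L)) .L (.N .L .L (.N .L .L (.N .L .L .L)))) .L (.N (.N .L (.N .L .L .L) (.N (.N .L .L .L) .L (.N .L .L .L))) .L (.N (.N .L (.N .L (.N .L .L .L) .L) .L) .L (.N .L .L (.N .L .L (.N .L .L .L)))))) (.N (.N (.N .L .L .L) (.N (.N (.N .L .L .L) (.N .L .L .L) .L) (.N (.N .L .L .L) .L .L) .L) .L) (.N (.N (.N .L .L .L) (.N .L (.N .L (.N .L .L .L) .L) .L) .L) (.N (.N .L (.N .L (.N .L .L .L) .L) .L) (.N .L (.N (.N .L .L .L) (.N .L .L .L) .L) .L) .L) .L) .L) (.N (.N .L (.N .L (.N (.N .L .L .L) .L .L) .L) (.N (.N .L .L .L) .L (.N .L .L (.N .L .L (.N .L .L .L))))) .L (.N (.N .L (.N .L (.N .L .L .L) .L) (.N .L .L (.N .L .L .L))) .L (.N (.N .L .L (.N .L .L (.N .L .L .L))) .L (.N .L .L (.N (.N .L .L .L) .L .L)))))) (.N (.N (.N (.N .L .L (.N .L .L (.N .L .L .L))) .L .L) (.N (.N (.N .L .L .L) (.N .L (.N .L .L .L) .L) .L) (.N (.N .L (.N .L (.N .L .L .L) .L) .L) (.N .L (.N .L (.N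 .L .L .L) .L) .L) .L) .L) .L) (.N (.N (.N (.N .L .L (.N .L .L .L)) .L .L) (.N (.N .L (.N .L (.N .L .L .L) .L) .L) (.N (.N .L .L .L) (.N .L (.N .L .L .L) .L) .L) .L) .L) (.N (.N .L (.N (.N .L (.N .L .L .L) .L) (.N .L (.N .L .L .L) .L) .L) .L) (.N (.N .L (.N .L (.N .L .L .L) .L) .L) (.N (.N .L (.N .L .L .L) .L) (.N (.N .L .L .L) .L .L) .L) .L) .L) .L) .L) (.N (.N .L (.N .L (.N (.N (.N .L .L .L) .L .L) .L .L) .L) (.N (.N .L .L (.N .L .L (.N .L .L (.N .L .L .L)))) .L (.N (.N .L .L (.N .L .L .L)) .L (.N (.N .L .L (.N .L .L .L)) .L (.N .L .L (.N .L .L .L)))))) .L (.N (.N .L (.N .L (.N .L .L .L) .L) (.N .L .L (.N .L .L (.N .L .L (.N .L .L .L))))) .L (.N (.N .L .L (.N .L .L (.N .L .L (.N .L .L .L)))) .L (.N (.N .L .L (.N .L .L (.N .L .L .L))) .L (.N (.N .L .L (.N .L .L .L)) .L .L))))))),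
 ([18, 16], (.N (.N (.N (.N (.N (.N .L .L (.N .L .L .L)) .L (.N .L .L .L)) .L (.N .L .L (.N .L .L (.N .L .L .L)))) .L (.N (.N .L (.N .L .L .L) (.N (.N .L .L .L) .L (.N .L .L .L))) .L (.N (.N .L (.N .L (.N .L .L .L) .L) .L) .L (.N .L .L (.N .L .L (.N .L .L .L)))))) (.N (.N (.N .L .L .L) (.N (.N (.N .L .L .L) (.N .L .L .L) .L) (.N (.N .L .L .L) .L .L) .L) .L) (.N (.N (.N .L .L .L) (.N .L (.N .L (.N .L .L .L) .L) .L) .L) (.N (.N .L (.N .L (.N .L .L .L) .L) .L) (.N .L (.N (.N .L .L .L) (.N .L .L .L) .L) .L) .L) .L) .L) (.N (.N .L (.N .L (.N (.N .L .L .L) .L .L) .L) (.N (.N .L .L .L) .L (.N .L .L (.N .L .L (.N .L .L .L))))) .L (.N (.N .L (.N .L (.N .L .L .L) .L) (.N .L .L (.N .L .L .L))) .L (.N (.N .L .L (.N .L .L (.N .L .L .L))) .L (.N .L .L (.N (.N .L .L .L) .L .L)))))) (.N (.N (.N (.N .L .L (.N .L .L (.N .L .L .L))) .L .L) (.N (.N (.N .L .L .L) (.N .L (.N .L .L .L) .L) .L) (.N (.N .L (.N .L (.N .L .L .L) .L) .L) (.N .L (.N .L (.N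 .L .L .L) .L) .L) .L) .L) .L) (.N (.N (.N (.N .L .L (.N .L .L .L)) .L .L) (.N (.N .L (.N .L (.N .L .L .L) .L) .L) (.N (.N .L .L .L) (.N .L (.N .L .L .L) .L) .L) .L) .L) (.N (.N .L (.N (.N .L (.N .L .L .L) .L) (.N .L (.N .L .L .L) .L) .L) .L) (.N (.N .L (.N .L (.N .L .L .L) .L) .L) (.N (.N .L (.N .L .L .L) .L) (.N (.N .L .L .L) .L .L) .L) .L) .L) .L) .L) (.N (.N .L (.N .L (.N (.N (.N .L .L .L) .L .L) .L .L) .L) (.N (.N .L .L (.N .L .L (.N .L .L (.N .L .L .L)))) .L (.N (.N .L .L (.N .L .L .L)) .L (.N (.N .L .L (.N .L .L .L)) .L (.N .L .L (.N .L .L .L)))))) .L (.N (.N .L (.N .L (.N .L .L .L) .L) (.N .L .L (.N .L .L (.N .L .L (.N .L .L .L))))) .L (.N (.N .L .L (.N .L .L (.N .L .L (.N .L .L .L)))) .L (.N (.N .L .L (.N .L .L (.N .L .L .L))) .L (.N (.N .L .L (.N .L .L .L)) .L .L))))))),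
 ([20, 16], (.N (.N (.N (.N (.N (.N .L .L (.N .L .L .L)) .L (.N .L .L .L)) .L (.N .L .L (.N .L .L (.N .L .L .L)))) .L (.N (.N .L (.N .L .L .L) (.N (.N .L .L .L) .L (.N .L .L .L))) .L (.N (.N .L (.N .L (.N .L .L .L) .L) .L) .L (.N .L .L (.N .L .L (.N .L .L .L)))))) (.N (.N (.N .L .L .L) (.N (.N (.N .L .L .L) (.N .L .L .L) .L) (.N (.N .L .L .L) .L .L) .L) .L) (.N (.N (.N .L .L .L) (.N .L (.N .L (.N .L .L .L) .L) .L) .L) (.N (.N .L (.N .L (.N .L .L .L) .L) .L) (.N .L (.N (.N .L .L .L) (.N .L .L .L) .L) .L) .L) .L) .L) (.N (.N .L (.N .L (.N (.N .L .L .L) .L .L) .L) (.N (.N .L .L .L) .L (.N .L .L (.N .L .L (.N .L .L .L))))) .L (.N (.N .L (.N .L (.N .L .L .L) .L) (.N .L .L (.N .L .L .L))) .L (.N (.N .L .L (.N .L .L (.N .L .L .L))) .L (.N .L .L (.N (.N .L .L .L) .L .L)))))) (.N (.N (.N (.N .L .L (.N .L .L (.N .L .L .L))) .L .L) (.N (.N (.N .L .L .L) (.N .L (.N .L .L .L) .L) .L) (.N (.N .L (.N .L (.N .L .L .L) .L) .L) (.N .L (.N .L (.N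 .L .L .L) .L) .L) .L) .L) .L) (.N (.N (.N (.N .L .L (.N .L .L .L)) .L .L) (.N (.N .L (.N .L (.N .L .L .L) .L) .L) (.N (.N .L .L .L) (.N .L (.N .L .L .L) .L) .L) .L) .L) (.N (.N .L (.N (.N .L (.N .L .L .L) .L) (.N .L (.N .L .L .L) .L) .L) .L) (.N (.N .L (.N .L (.N .L .L .L) .L) .L) (.N (.N .L (.N .L .L .L) .L) (.N (.N .L .L .L) .L .L) .L) .L) .L) .L) .L) (.N (.N .L (.N .L (.N (.N (.N .L .L .L) .L .L) .L .L) .L) (.N (.N .L .L (.N .L .L (.N .L .L (.N .L .L .L)))) .L (.N (.N .L .L (.N .L .L .L)) .L (.N (.N .L .L (.N .L .L .L)) .L (.N .L .L (.N .L .L .L)))))) .L (.N (.N .L (.N .L (.N .L .L .L) .L) (.N .L .L (.N .L .L (.N .L .L (.N .L .L .L))))) .L (.N (.N .L .L (.N .L .L (.N .L .L (.N .L .L .L)))) .L (.N (.N .L .L (.N .L .L (.N .L .L .L))) .L (.N (.N .L .L (.N .L .L .L)) .L .L)))))))]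

noncomputable def X7 : ℕ :=
  cat 4096 [nat_lit 0x9000000001008080120009040000820000000004200a8000000104800000044000048100200080900001020800408042000000000424080000020108001014800244c413100202050201040000100005240040001040020000140060090e10000000404020020080200004820405001244001000010000000000040c042108000012000004440002309000406020208000104000010a000004044100040010110000054000458008000800000400000000000422400000600010000024000041018026002000a1000200004461010a00000008030810011004000002006008000001120000200902800000000000000800020006000004110000000000000000804800880d0001880810104020a0004000400880002028010010054040400008800000002000280000008800000000044900040200000001101001001220401000800090002020040046042000200081088000400001008015011000040006000002344210c0404000008860000000000001010011401200000500440024080001080202402800800c004000100040800000000201118002000130090100000022500008802002080405401112404081100000008010000000000144080100904421020a040c00150800040300020030004100000004000000000090030400100000440008040028948000020000c100000058808c000008110008110400200,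
 nat_lit 0x42c0080000405800120400040100011000401022000384001012820880242002094000000040002051190100011000001408000008008000080000000000001140480020000000200050204110100001c0040000000000463050000080808408010402500a1000012000221000400000111410080081405010080108002040404001000480000000000080400400110800040180000820204000010800002000038000044011100c1000000000000102408408c0c008006201000044014143401080d000114500008240c840080200210003000008000002000000000026050000400000400201a0081040092420004000044202901000200060110100000001000400000404010040080002000400080000020104004000800804000202000501010840048400000020000040ca003221004c0004010100000000010400000924100002000480842040002200820008010010004000800020680400010000100001009040000820a0000000180000010000000101004390020008840268400008000001c103000404040000002404004411080140800000040004108080210000090090180209304000010004800000c048140500110152000c0000200910a8000040000806000800a80080180012008080089044404100020800005040080000084000000800010a000000089002004c08082100020c0000048980090a00,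
 nat_lit 0x1400011800005000201000100000010008000810800004000300000008000b082000004000010000000500400080020800c00000040204000c0000020020008000010200000010048042000800810812000080004400201008110110000020800140001107083000200000202020100021081002820040000140610000100004009000024000000000002009001000204800340000024082009400401000000200004010201401204000a0001400000400320008004800000800800081000008003001000000c01080052010000080001002000400000000810002028000000000804400820010808000008030001200800000480422401011000408400001284400082400020900b100080020000200008182200080440000102580200800000240011000800800004e01110001280422001000001c02000080240009010c000044008020040020400004009a4000000000000800180008800080608820088a012044000021780000009001908810800081030001020101011450010500182010100009000000101040010480000018408000000400012400000840000010c4028010088200f808011014000080040000000804000880000000000000080000288001001000001000002000000100008160200010000002000042200220420000040000049000101000018100400120044038001000140008006100101000,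
 nat_lit 0x800010602000000840060809100000000302201020000006210480040040000104000100000101184000080a2500140010040000000420400881000b0002202000008000c0010000050100810000120c50000001810200190049000026100100600206a01010040100000308004901840008000006000280800148080c5200000000000c012004000200181000008801000808059a02000400500010000090020400011000004401200000011000ae0200108380000080480000010000004120004000120204840042109801002800200325014202c10920000100480018d090004102100004000104000040000000504000802081000800100820102000000404001000000100008000009180090012000100010400142028000000000404010000700010406206000200004901000800001403080244080000000404000840001010c000000500000400000004040081808220002120420010001000124100018200051020200020000200400040000088104000001008000000b000200a1002a000020202040400100000000004310214000240201400000001050000000001208220180880010018000000008080000830100010000088000028000008184000104404010180101201004000400110000000c180100105441000100000000100002001020000010484000000000000040500000000050020020400002285,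
 nat_lit 0x4000000040180020000000001900000000400000000008880a8000000040500a2141481100008000108104000003009002010004000a0440060092020000008021041040021000101184020400000000010131c0420001001040010000002000204a000010000440c0201000041208000000001840000000000008004200342800421180044112000000480400140c1108050000000040000]

theorem Q7_for : Nat.beq (forestH 4096 hs ns [46] [108] [109] F0 Q7) X7 = true :=
  by decide +kernel

theorem Q7_big : allL Q7 (fun r => and' (wordIn (sTop A_S1) r.1) (Nat.blt 1560 (pcN 4096 12 (orb ns (bigW r.1) 3 1)))) = true :=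
  by decide +kernel

noncomputable def Q8 : List (List ℕ × T3) :=
  [([21, 16], (.N (.N (.N (.N (.N (.N .L .L (.N .L .L .L)) .L (.N .L .L .L)) .L (.N .L .L (.N .L .L (.N .L .L .L)))) .L (.N (.N .L (.N .L .L .L) (.N (.N .L .L .L) .L (.N .L .L .L))) .L (.N (.N .L (.N .L (.N .L .L .L) .L) .L) .L (.N .L .L (.N .L .L (.N .L .L .L)))))) (.N (.N (.N .L .L .L) (.N (.N (.N .L .L .L) (.N .L .L .L) .L) (.N (.N .L .L .L) .L .L) .L) .L) (.N (.N (.N .L .L .L) (.N .L (.N .L (.N .L .L .L) .L) .L) .L) (.N (.N .L (.N .L (.N .L .L .L) .L) .L) (.N .L (.N (.N .L .L .L) (.N .L .L .L) .L) .L) .L) .L) .L) (.N (.N .L (.N .L (.N (.N .L .L .L) .L .L) .L) (.N (.N .L .L .L) .L (.N .L .L (.N .L .L (.N .L .L .L))))) .L (.N (.N .L (.N .L (.N .L .L .L) .L) (.N .L .L (.N .L .L .L))) .L (.N (.N .L .L (.N .L .L (.N .L .L .L))) .L (.N .L .L (.N (.N .L .L .L) .L .L)))))) (.N (.N (.N (.N .L .L (.N .L .L (.N .L .L .L))) .L .L) (.N (.N (.N .L .L .L) (.N .L (.N .L .L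 .L) .L) .L) (.N (.N .L (.N .L (.N .L .L .L) .L) .L) (.N .L (.N .L (.N .L .L .L) .L) .L) .L) .L) .L) (.N (.N (.N (.N .L .L (.N .L .L .L)) .L .L) (.N (.N .L (.N .L (.N .L .L .L) .L) .L) (.N (.N .L .L .L) (.N .L (.N .L .L .L) .L) .L) .L) .L) (.N (.N .L (.N (.N .L (.N .L .L .L) .L) (.N .L (.N .L .L .L) .L) .L) .L) (.N (.N .L (.N .L (.N .L .L .L) .L) .L) (.N (.N .L (.N .L .L .L) .L) (.N (.N .L .L .L) .L .L) .L) .L) .L) .L) .L) (.N (.N .L (.N .L (.N (.N (.N .L .L .L) .L .L) .L .L) .L) (.N (.N .L .L (.N .L .L (.N .L .L (.N .L .L .L)))) .L (.N (.N .L .L (.N .L .L .L)) .L (.N (.N .L .L (.N .L .L .L)) .L (.N .L .L (.N .L .L .L)))))) .L (.N (.N .L (.N .L (.N .L .L .L) .L) (.N .L .L (.N .L .L (.N .L .L (.N .L .L .L))))) .L (.N (.N .L .L (.N .L .L (.N .L .L (.N .L .L .L)))) .L (.N (.N .L .L (.N .L .L (.N .L .L .L))) .L (.N (.N .L .L (.N .L .L .L)) .L .L))))))),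
 ([22, 16], (.N (.N (.N (.N (.N (.N .L .L (.N .L .L .L)) .L (.N .L .L .L)) .L (.N .L .L (.N .L .L (.N .L .L .L)))) .L (.N (.N .L (.N .L .L .L) (.N (.N .L .L .L) .L (.N .L .L .L))) .L (.N (.N .L (.N .L (.N .L .L .L) .L) .L) .L (.N .L .L (.N .L .L (.N .L .L .L)))))) (.N (.N (.N .L .L .L) (.N (.N (.N .L .L .L) (.N .L .L .L) .L) (.N (.N .L .L .L) .L .L) .L) .L) (.N (.N (.N .L .L .L) (.N .L (.N .L (.N .L .L .L) .L) .L) .L) (.N (.N .L (.N .L (.N .L .L .L) .L) .L) (.N .L (.N (.N .L .L .L) (.N .L .L .L) .L) .L) .L) .L) .L) (.N (.N .L (.N .L (.N (.N .L .L .L) .L .L) .L) (.N (.N .L .L .L) .L (.N .L .L (.N .L .L (.N .L .L .L))))) .L (.N (.N .L (.N .L (.N .L .L .L) .L) (.N .L .L (.N .L .L .L))) .L (.N (.N .L .L (.N .L .L (.N .L .L .L))) .L (.N .L .L (.N (.N .L .L .L) .L .L)))))) (.N (.N (.N (.N .L .L (.N .L .L (.N .L .L .L))) .L .L) (.N (.N (.N .L .L .L) (.N .L (.N .L .L .L) .L) .L) (.N (.N .L (.N .L (.N .L .L .L) .L) .L) (.N .L (.N .L (.N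 .L .L .L) .L) .L) .L) .L) .L) (.N (.N (.N (.N .L .L (.N .L .L .L)) .L .L) (.N (.N .L (.N .L (.N .L .L .L) .L) .L) (.N (.N .L .L .L) (.N .L (.N .L .L .L) .L) .L) .L) .L) (.N (.N .L (.N (.N .L (.N .L .L .L) .L) (.N .L (.N .L .L .L) .L) .L) .L) (.N (.N .L (.N .L (.N .L .L .L) .L) .L) (.N (.N .L (.N .L .L .L) .L) (.N (.N .L .L .L) .L .L) .L) .L) .L) .L) .L) (.N (.N .L (.N .L (.N (.N (.N .L .L .L) .L .L) .L .L) .L) (.N (.N .L .L (.N .L .L (.N .L .L (.N .L .L .L)))) .L (.N (.N .L .L (.N .L .L .L)) .L (.N (.N .L .L (.N .L .L .L)) .L (.N .L .L (.N .L .L .L)))))) .L (.N (.N .L (.N .L (.N .L .L .L) .L) (.N .L .L (.N .L .L (.N .L .L (.N .L .L .L))))) .L (.N (.N .L .L (.N .L .L (.N .L .L (.N .L .L .L)))) .L (.N (.N .L .L (.N .L .L (.N .L .L .L))) .L (.N (.N .L .L (.N .L .L .L)) .L .L))))))),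
 ([31, 16], (.N (.N (.N (.N (.N (.N .L .L (.N .L .L .L)) .L (.N .L .L .L)) .L (.N .L .L (.N .L .L (.N .L .L .L)))) .L (.N (.N .L (.N .L .L .L) (.N (.N .L .L .L) .L (.N .L .L .L))) .L (.N (.N .L (.N .L (.N .L .L .L) .L) .L) .L (.N .L .L (.N .L .L (.N .L .L .L)))))) (.N (.N (.N .L .L .L) (.N (.N (.N .L .L .L) (.N .L .L .L) .L) (.N (.N .L .L .L) .L .L) .L) .L) (.N (.N (.N .L .L .L) (.N .L (.N .L (.N .L .L .L) .L) .L) .L) (.N (.N .L (.N .L (.N .L .L .L) .L) .L) (.N .L (.N (.N .L .L .L) (.N .L .L .L) .L) .L) .L) .L) .L) (.N (.N .L (.N .L (.N (.N .L .L .L) .L .L) .L) (.N (.N .L .L .L) .L (.N .L .L (.N .L .L (.N .L .L .L))))) .L (.N (.N .L (.N .L (.N .L .L .L) .L) (.N .L .L (.N .L .L .L))) .L (.N (.N .L .L (.N .L .L (.N .L .L .L))) .L (.N .L .L (.N (.N .L .L .L) .L .L)))))) (.N (.N (.N (.N .L .L (.N .L .L (.N .L .L .L))) .L .L) (.N (.N (.N .L .L .L) (.N .L (.N .L .L .L) .L) .L) (.N (.N .L (.N .L (.N .L .L .L) .L) .L) (.N .L (.N .L (.N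 .L .L .L) .L) .L) .L) .L) .L) (.N (.N (.N (.N .L .L (.N .L .L .L)) .L .L) (.N (.N .L (.N .L (.N .L .L .L) .L) .L) (.N (.N .L .L .L) (.N .L (.N .L .L .L) .L) .L) .L) .L) (.N (.N .L (.N (.N .L (.N .L .L .L) .L) (.N .L (.N .L .L .L) .L) .L) .L) (.N (.N .L (.N .L (.N .L .L .L) .L) .L) (.N (.N .L (.N .L .L .L) .L) (.N (.N .L .L .L) .L .L) .L) .L) .L) .L) .L) (.N (.N .L (.N .L (.N (.N (.N .L .L .L) .L .L) .L .L) .L) (.N (.N .L .L (.N .L .L (.N .L .L (.N .L .L .L)))) .L (.N (.N .L .L (.N .L .L .L)) .L (.N (.N .L .L (.N .L .L .L)) .L (.N .L .L (.N .L .L .L)))))) .L (.N (.N .L (.N .L (.N .L .L .L) .L) (.N .L .L (.N .L .L (.N .L .L (.N .L .L .L))))) .L (.N (.N .L .L (.N .L .L (.N .L .L (.N .L .L .L)))) .L (.N (.N .L .L (.N .L .L (.N .L .L .L))) .L (.N (.N .L .L (.N .L .L .L)) .L .L))))))),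
 ([35, 16], (.N (.N (.N (.N (.N (.N .L .L (.N .L .L .L)) .L (.N .L .L .L)) .L (.N .L .L (.N .L .L (.N .L .L .L)))) .L (.N (.N .L (.N .L .L .L) (.N (.N .L .L .L) .L (.N .L .L .L))) .L (.N (.N .L (.N .L (.N .L .L .L) .L) .L) .L (.N .L .L (.N .L .L (.N .L .L .L)))))) (.N (.N (.N .L .L .L) (.N (.N (.N .L .L .L) (.N .L .L .L) .L) (.N (.N .L .L .L) .L .L) .L) .L) (.N (.N (.N .L .L .L) (.N .L (.N .L (.N .L .L .L) .L) .L) .L) (.N (.N .L (.N .L (.N .L .L .L) .L) .L) (.N .L (.N (.N .L .L .L) (.N .L .L .L) .L) .L) .L) .L) .L) (.N (.N .L (.N .L (.N (.N .L .L .L) .L .L) .L) (.N (.N .L .L .L) .L (.N .L .L (.N .L .L (.N .L .L .L))))) .L (.N (.N .L (.N .L (.N .L .L .L) .L) (.N .L .L (.N .L .L .L))) .L (.N (.N .L .L (.N .L .L (.N .L .L .L))) .L (.N .L .L (.N (.N .L .L .L) .L .L)))))) (.N (.N (.N (.N .L .L (.N .L .L (.N .L .L .L))) .L .L) (.N (.N (.N .L .L .L) (.N .L (.N .L .L .L) .L) .L) (.N (.N .L (.N .L (.N .L .L .L) .L) .L) (.N .L (.N .L (.N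 .L .L .L) .L) .L) .L) .L) .L) (.N (.N (.N (.N .L .L (.N .L .L .L)) .L .L) (.N (.N .L (.N .L (.N .L .L .L) .L) .L) (.N (.N .L .L .L) (.N .L (.N .L .L .L) .L) .L) .L) .L) (.N (.N .L (.N (.N .L (.N .L .L .L) .L) (.N .L (.N .L .L .L) .L) .L) .L) (.N (.N .L (.N .L (.N .L .L .L) .L) .L) (.N (.N .L (.N .L .L .L) .L) (.N (.N .L .L .L) .L .L) .L) .L) .L) .L) .L) (.N (.N .L (.N .L (.N (.N (.N .L .L .L) .L .L) .L .L) .L) (.N (.N .L .L (.N .L .L (.N .L .L (.N .L .L .L)))) .L (.N (.N .L .L (.N .L .L .L)) .L (.N (.N .L .L (.N .L .L .L)) .L (.N .L .L (.N .L .L .L)))))) .L (.N (.N .L (.N .L (.N .L .L .L) .L) (.N .L .L (.N .L .L (.N .L .L (.N .L .L .L))))) .L (.N (.N .L .L (.N .L .L (.N .L .L (.N .L .L .L)))) .L (.N (.N .L .L (.N .L .L (.N .L .L .L))) .L (.N (.N .L .L (.N .L .L .L)) .L .L))))))),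
 ([41, 16], (.N (.N (.N (.N (.N (.N .L .L (.N .L .L .L)) .L (.N .L .L .L)) .L (.N .L .L (.N .L .L (.N .L .L .L)))) .L (.N (.N .L (.N .L .L .L) (.N (.N .L .L .L) .L (.N .L .L .L))) .L (.N (.N .L (.N .L (.N .L .L .L) .L) .L) .L (.N .L .L (.N .L .L (.N .L .L .L)))))) (.N (.N (.N .L .L .L) (.N (.N (.N .L .L .L) (.N .L .L .L) .L) (.N (.N .L .L .L) .L .L) .L) .L) (.N (.N (.N .L .L .L) (.N .L (.N .L (.N .L .L .L) .L) .L) .L) (.N (.N .L (.N .L (.N .L .L .L) .L) .L) (.N .L (.N (.N .L .L .L) (.N .L .L .L) .L) .L) .L) .L) .L) (.N (.N .L (.N .L (.N (.N .L .L .L) .L .L) .L) (.N (.N .L .L .L) .L (.N .L .L (.N .L .L (.N .L .L .L))))) .L (.N (.N .L (.N .L (.N .L .L .L) .L) (.N .L .L (.N .L .L .L))) .L (.N (.N .L .L (.N .L .L (.N .L .L .L))) .L (.N .L .L (.N (.N .L .L .L) .L .L)))))) (.N (.N (.N (.N .L .L (.N .L .L (.N .L .L .L))) .L .L) (.N (.N (.N .L .L .L) (.N .L (.N .L .L .L) .L) .L) (.N (.N .L (.N .L (.N .L .L .L) .L) .L) (.N .L (.N .L (.N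 .L .L .L) .L) .L) .L) .L) .L) (.N (.N (.N (.N .L .L (.N .L .L .L)) .L .L) (.N (.N .L (.N .L (.N .L .L .L) .L) .L) (.N (.N .L .L .L) (.N .L (.N .L .L .L) .L) .L) .L) .L) (.N (.N .L (.N (.N .L (.N .L .L .L) .L) (.N .L (.N .L .L .L) .L) .L) .L) (.N (.N .L (.N .L (.N .L .L .L) .L) .L) (.N (.N .L (.N .L .L .L) .L) (.N (.N .L .L .L) .L .L) .L) .L) .L) .L) .L) (.N (.N .L (.N .L (.N (.N (.N .L .L .L) .L .L) .L .L) .L) (.N (.N .L .L (.N .L .L (.N .L .L (.N .L .L .L)))) .L (.N (.N .L .L (.N .L .L .L)) .L (.N (.N .L .L (.N .L .L .L)) .L (.N .L .L (.N .L .L .L)))))) .L (.N (.N .L (.N .L (.N .L .L .L) .L) (.N .L .L (.N .L .L (.N .L .L (.N .L .L .L))))) .L (.N (.N .L .L (.N .L .L (.N .L .L (.N .L .L .L)))) .L (.N (.N .L .L (.N .L .L (.N .L .L .L))) .L (.N (.N .L .L (.N .L .L .L)) .L .L))))))),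
 ([14, 17], (.N (.N (.N (.N (.N (.N .L .L (.N .L .L .L)) .L (.N .L .L .L)) .L (.N .L .L (.N .L .L (.N .L .L .L)))) .L (.N (.N .L (.N .L .L .L) (.N (.N .L .L .L) .L (.N .L .L .L))) .L (.N (.N .L (.N .L (.N .L .L .L) .L) .L) .L (.N .L .L (.N .L .L (.N .L .L .L)))))) (.N (.N (.N .L .L .L) (.N (.N (.N .L .L .L) (.N .L .L .L) .L) (.N (.N .L .L .L) .L .L) .L) .L) (.N (.N (.N .L .L .L) (.N .L (.N .L (.N .L .L .L) .L) .L) .L) (.N (.N .L (.N .L (.N .L .L .L) .L) .L) (.N .L (.N (.N .L .L .L) (.N .L .L .L) .L) .L) .L) .L) .L) (.N (.N .L (.N .L (.N (.N .L .L .L) .L .L) .L) (.N (.N .L .L .L) .L (.N .L .L (.N .L .L (.N .L .L .L))))) .L (.N (.N .L (.N .L (.N .L .L .L) .L) (.N .L .L (.N .L .L .L))) .L (.N (.N .L .L (.N .L .L (.N .L .L .L))) .L (.N .L .L (.N (.N .L .L .L) .L .L)))))) (.N (.N (.N (.N .L .L (.N .L .L (.N .L .L .L))) .L .L) (.N (.N (.N .L .L .L) (.N .L (.N .L .L .L) .L) .L) (.N (.N .L (.N .L (.N .L .L .L) .L) .L) (.N .L (.N .L (.N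 .L .L .L) .L) .L) .L) .L) .L) (.N (.N (.N (.N .L .L (.N .L .L .L)) .L .L) (.N (.N .L (.N .L (.N .L .L .L) .L) .L) (.N (.N .L .L .L) (.N .L (.N .L .L .L) .L) .L) .L) .L) (.N (.N .L (.N (.N .L (.N .L .L .L) .L) (.N .L (.N .L .L .L) .L) .L) .L) (.N (.N .L (.N .L (.N .L .L .L) .L) .L) (.N (.N .L (.N .L .L .L) .L) (.N (.N .L .L .L) .L .L) .L) .L) .L) .L) .L) (.N (.N .L (.N .L (.N (.N (.N .L .L .L) .L .L) .L .L) .L) (.N (.N .L .L (.N .L .L (.N .L .L (.N .L .L .L)))) .L (.N (.N .L .L (.N .L .L .L)) .L (.N (.N .L .L (.N .L .L .L)) .L (.N .L .L (.N .L .L .L)))))) .L (.N (.N .L (.N .L (.N .L .L .L) .L) (.N .L .L (.N .L .L (.N .L .L (.N .L .L .L))))) .L (.N (.N .L .L (.N .L .L (.N .L .L (.N .L .L .L)))) .L (.N (.N .L .L (.N .L .L (.N .L .L .L))) .L (.N (.N .L .L (.N .L .L .L)) .L .L))))))),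
 ([24, 17], (.N (.N (.N (.N (.N (.N .L .L (.N .L .L .L)) .L (.N .L .L .L)) .L (.N .L .L (.N .L .L (.N .L .L .L)))) .L (.N (.N .L (.N .L .L .L) (.N (.N .L .L .L) .L (.N .L .L .L))) .L (.N (.N .L (.N .L (.N .L .L .L) .L) .L) .L (.N .L .L (.N .L .L (.N .L .L .L)))))) (.N (.N (.N .L .L .L) (.N (.N (.N .L .L .L) (.N .L .L .L) .L) (.N (.N .L .L .L) .L .L) .L) .L) (.N (.N (.N .L .L .L) (.N .L (.N .L (.N .L .L .L) .L) .L) .L) (.N (.N .L (.N .L (.N .L .L .L) .L) .L) (.N .L (.N (.N .L .L .L) (.N .L .L .L) .L) .L) .L) .L) .L) (.N (.N .L (.N .L (.N (.N .L .L .L) .L .L) .L) (.N (.N .L .L .L) .L (.N .L .L (.N .L .L (.N .L .L .L))))) .L (.N (.N .L (.N .L (.N .L .L .L) .L) (.N .L .L (.N .L .L .L))) .L (.N (.N .L .L (.N .L .L (.N .L .L .L))) .L (.N .L .L (.N (.N .L .L .L) .L .L)))))) (.N (.N (.N (.N .L .L (.N .L .L (.N .L .L .L))) .L .L) (.N (.N (.N .L .L .L) (.N .L (.N .L .L .L) .L) .L) (.N (.N .L (.N .L (.N .L .L .L) .L) .L) (.N .L (.N .L (.N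 .L .L .L) .L) .L) .L) .L) .L) (.N (.N (.N (.N .L .L (.N .L .L .L)) .L .L) (.N (.N .L (.N .L (.N .L .L .L) .L) .L) (.N (.N .L .L .L) (.N .L (.N .L .L .L) .L) .L) .L) .L) (.N (.N .L (.N (.N .L (.N .L .L .L) .L) (.N .L (.N .L .L .L) .L) .L) .L) (.N (.N .L (.N .L (.N .L .L .L) .L) .L) (.N (.N .L (.N .L .L .L) .L) (.N (.N .L .L .L) .L .L) .L) .L) .L) .L) .L) (.N (.N .L (.N .L (.N (.N (.N .L .L .L) .L .L) .L .L) .L) (.N (.N .L .L (.N .L .L (.N .L .L (.N .L .L .L)))) .L (.N (.N .L .L (.N .L .L .L)) .L (.N (.N .L .L (.N .L .L .L)) .L (.N .L .L (.N .L .L .L)))))) .L (.N (.N .L (.N .L (.N .L .L .L) .L) (.N .L .L (.N .L .L (.N .L .L (.N .L .L .L))))) .L (.N (.N .L .L (.N .L .L (.N .L .L (.N .L .L .L)))) .L (.N (.N .L .L (.N .L .L (.N .L .L .L))) .L (.N (.N .L .L (.N .L .L .L)) .L .L))))))),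
 ([41, 17], (.N (.N (.N (.N (.N (.N .L .L (.N .L .L .L)) .L (.N .L .L .L)) .L (.N .L .L (.N .L .L (.N .L .L .L)))) .L (.N (.N .L (.N .L .L .L) (.N (.N .L .L .L) .L (.N .L .L .L))) .L (.N (.N .L (.N .L (.N .L .L .L) .L) .L) .L (.N .L .L (.N .L .L (.N .L .L .L)))))) (.N (.N (.N .L .L .L) (.N (.N (.N .L .L .L) (.N .L .L .L) .L) (.N (.N .L .L .L) .L .L) .L) .L) (.N (.N (.N .L .L .L) (.N .L (.N .L (.N .L .L .L) .L) .L) .L) (.N (.N .L (.N .L (.N .L .L .L) .L) .L) (.N .L (.N (.N .L .L .L) (.N .L .L .L) .L) .L) .L) .L) .L) (.N (.N .L (.N .L (.N (.N .L .L .L) .L .L) .L) (.N (.N .L .L .L) .L (.N .L .L (.N .L .L (.N .L .L .L))))) .L (.N (.N .L (.N .L (.N .L .L .L) .L) (.N .L .L (.N .L .L .L))) .L (.N (.N .L .L (.N .L .L (.N .L .L .L))) .L (.N .L .L (.N (.N .L .L .L) .L .L)))))) (.N (.N (.N (.N .L .L (.N .L .L (.N .L .L .L))) .L .L) (.N (.N (.N .L .L .L) (.N .L (.N .L .L .L) .L) .L) (.N (.N .L (.N .L (.N .L .L .L) .L) .L) (.N .L (.N .L (.N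 .L .L .L) .L) .L) .L) .L) .L) (.N (.N (.N (.N .L .L (.N .L .L .L)) .L .L) (.N (.N .L (.N .L (.N .L .L .L) .L) .L) (.N (.N .L .L .L) (.N .L (.N .L .L .L) .L) .L) .L) .L) (.N (.N .L (.N (.N .L (.N .L .L .L) .L) (.N .L (.N .L .L .L) .L) .L) .L) (.N (.N .L (.N .L (.N .L .L .L) .L) .L) (.N (.N .L (.N .L .L .L) .L) (.N (.N .L .L .L) .L .L) .L) .L) .L) .L) .L) (.N (.N .L (.N .L (.N (.N (.N .L .L .L) .L .L) .L .L) .L) (.N (.N .L .L (.N .L .L (.N .L .L (.N .L .L .L)))) .L (.N (.N .L .L (.N .L .L .L)) .L (.N (.N .L .L (.N .L .L .L)) .L (.N .L .L (.N .L .L .L)))))) .L (.N (.N .L (.N .L (.N .L .L .L) .L) (.N .L .L (.N .L .L (.N .L .L (.N .L .L .L))))) .L (.N (.N .L .L (.N .L .L (.N .L .L (.N .L .L .L)))) .L (.N (.N .L .L (.N .L .L (.N .L .L .L))) .L (.N (.N .L .L (.N .L .L .L)) .L .L))))))),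
 ([16, 18], (.N (.N (.N (.N (.N (.N .L .L (.N .L .L .L)) .L (.N .L .L .L)) .L (.N .L .L (.N .L .L (.N .L .L .L)))) .L (.N (.N .L (.N .L .L .L) (.N (.N .L .L .L) .L (.N .L .L .L))) .L (.N (.N .L (.N .L (.N .L .L .L) .L) .L) .L (.N .L .L (.N .L .L (.N .L .L .L)))))) (.N (.N (.N .L .L .L) (.N (.N (.N .L .L .L) (.N .L .L .L) .L) (.N (.N .L .L .L) .L .L) .L) .L) (.N (.N (.N .L .L .L) (.N .L (.N .L (.N .L .L .L) .L) .L) .L) (.N (.N .L (.N .L (.N .L .L .L) .L) .L) (.N .L (.N (.N .L .L .L) (.N .L .L .L) .L) .L) .L) .L) .L) (.N (.N .L (.N .L (.N (.N .L .L .L) .L .L) .L) (.N (.N .L .L .L) .L (.N .L .L (.N .L .L (.N .L .L .L))))) .L (.N (.N .L (.N .L (.N .L .L .L) .L) (.N .L .L (.N .L .L .L))) .L (.N (.N .L .L (.N .L .L (.N .L .L .L))) .L (.N .L .L (.N (.N .L .L .L) .L .L)))))) (.N (.N (.N (.N .L .L (.N .L .L (.N .L .L .L))) .L .L) (.N (.N (.N .L .L .L) (.N .L (.N .L .L .L) .L) .L) (.N (.N .L (.N .L (.N .L .L .L) .L) .L) (.N .L (.N .L (.N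 .L .L .L) .L) .L) .L) .L) .L) (.N (.N (.N (.N .L .L (.N .L .L .L)) .L .L) (.N (.N .L (.N .L (.N .L .L .L) .L) .L) (.N (.N .L .L .L) (.N .L (.N .L .L .L) .L) .L) .L) .L) (.N (.N .L (.N (.N .L (.N .L .L .L) .L) (.N .L (.N .L .L .L) .L) .L) .L) (.N (.N .L (.N .L (.N .L .L .L) .L) .L) (.N (.N .L (.N .L .L .L) .L) (.N (.N .L .L .L) .L .L) .L) .L) .L) .L) .L) (.N (.N .L (.N .L (.N (.N (.N .L .L .L) .L .L) .L .L) .L) (.N (.N .L .L (.N .L .L (.N .L .L (.N .L .L .L)))) .L (.N (.N .L .L (.N .L .L .L)) .L (.N (.N .L .L (.N .L .L .L)) .L (.N .L .L (.N .L .L .L)))))) .L (.N (.N .L (.N .L (.N .L .L .L) .L) (.N .L .L (.N .L .L (.N .L .L (.N .L .L .L))))) .L (.N (.N .L .L (.N .L .L (.N .L .L (.N .L .L .L)))) .L (.N (.N .L .L (.N .L .L (.N .L .L .L))) .L (.N (.N .L .L (.N .L .L .L)) .L .L))))))),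
 ([24, 19], (.N (.N (.N (.N (.N (.N .L .L .L) .L (.N .L .L .L)) .L (.N .L .L .L)) .L (.N (.N .L (.N .L .L .L) (.N (.N .L .L .L) .L .L)) .L (.N .L .L (.N .L .L .L)))) (.N (.N (.N .L .L .L) (.N .L (.N .L .L .L) .L) .L) (.N (.N .L .L .L) .L .L) .L) (.N (.N .L (.N .L .L .L) .L) .L (.N .L .L (.N (.N .L .L .L) .L .L)))) (.N (.N (.N .L .L .L) (.N .L .L .L) .L) (.N (.N (.N .L .L .L) .L .L) (.N (.N .L .L .L) (.N (.N .L .L .L) .L .L) .L) .L) .L) (.N (.N .L (.N .L (.N .L .L .L) .L) .L) .L (.N (.N .L (.N .L (.N .L .L .L) .L) (.N .L .L .L)) .L (.N (.N .L .L .L) .L (.N .L .L (.N .L .L .L))))))),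
 ([35, 19], (.N (.N (.N (.N (.N (.N .L .L (.N .L .L .L)) .L (.N .L .L .L)) .L (.N .L .L (.N .L .L (.N .L .L .L)))) .L (.N (.N .L (.N .L .L .L) (.N (.N .L .L .L) .L (.N .L .L .L))) .L (.N (.N .L (.N .L (.N .L .L .L) .L) .L) .L (.N .L .L (.N .L .L (.N .L .L .L)))))) (.N (.N (.N .L .L .L) (.N (.N (.N .L .L .L) (.N .L .L .L) .L) (.N (.N .L .L .L) .L .L) .L) .L) (.N (.N (.N .L .L .L) (.N .L (.N .L (.N .L .L .L) .L) .L) .L) (.N (.N .L (.N .L (.N .L .L .L) .L) .L) (.N .L (.N (.N .L .L .L) (.N .L .L .L) .L) .L) .L) .L) .L) (.N (.N .L (.N .L (.N (.N .L .L .L) .L .L) .L) (.N (.N .L .L .L) .L (.N .L .L (.N .L .L (.N .L .L .L))))) .L (.N (.N .L (.N .L (.N .L .L .L) .L) (.N .L .L (.N .L .L .L))) .L (.N (.N .L .L (.N .L .L (.N .L .L .L))) .L (.N .L .L (.N (.N .L .L .L) .L .L)))))) (.N (.N (.N (.N .L .L (.N .L .L (.N .L .L .L))) .L .L) (.N (.N (.N .L .L .L) (.N .L (.N .L .L .L) .L) .L) (.N (.N .L (.N .L (.N .L .L .L) .L) .L) (.N .L (.N .L (.N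 .L .L .L) .L) .L) .L) .L) .L) (.N (.N (.N (.N .L .L (.N .L .L .L)) .L .L) (.N (.N .L (.N .L (.N .L .L .L) .L) .L) (.N (.N .L .L .L) (.N .L (.N .L .L .L) .L) .L) .L) .L) (.N (.N .L (.N (.N .L (.N .L .L .L) .L) (.N .L (.N .L .L .L) .L) .L) .L) (.N (.N .L (.N .L (.N .L .L .L) .L) .L) (.N (.N .L (.N .L .L .L) .L) (.N (.N .L .L .L) .L .L) .L) .L) .L) .L) .L) (.N (.N .L (.N .L (.N (.N (.N .L .L .L) .L .L) .L .L) .L) (.N (.N .L .L (.N .L .L (.N .L .L (.N .L .L .L)))) .L (.N (.N .L .L (.N .L .L .L)) .L (.N (.N .L .L (.N .L .L .L)) .L (.N .L .L (.N .L .L .L)))))) .L (.N (.N .L (.N .L (.N .L .L .L) .L) (.N .L .L (.N .L .L (.N .L .L (.N .L .L .L))))) .L (.N (.N .L .L (.N .L .L (.N .L .L (.N .L .L .L)))) .L (.N (.N .L .L (.N .L .L (.N .L .L .L))) .L (.N (.N .L .L (.N .L .L .L)) .L .L))))))),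
 ([11, 27], (.N (.N (.N (.N (.N (.N .L .L (.N .L .L .L)) .L (.N .L .L .L)) .L (.N .L .L (.N .L .L (.N .L .L .L)))) .L (.N (.N .L (.N .L .L .L) (.N (.N .L .L .L) .L (.N .L .L .L))) .L (.N (.N .L (.N .L (.N .L .L .L) .L) .L) .L (.N .L .L (.N .L .L (.N .L .L .L)))))) (.N (.N (.N .L .L .L) (.N (.N (.N .L .L .L) (.N .L .L .L) .L) (.N (.N .L .L .L) .L .L) .L) .L) (.N (.N (.N .L .L .L) (.N .L (.N .L (.N .L .L .L) .L) .L) .L) (.N (.N .L (.N .L (.N .L .L .L) .L) .L) (.N .L (.N (.N .L .L .L) (.N .L .L .L) .L) .L) .L) .L) .L) (.N (.N .L (.N .L (.N (.N .L .L .L) .L .L) .L) (.N (.N .L .L .L) .L (.N .L .L (.N .L .L (.N .L .L .L))))) .L (.N (.N .L (.N .L (.N .L .L .L) .L) (.N .L .L (.N .L .L .L))) .L (.N (.N .L .L (.N .L .L (.N .L .L .L))) .L (.N .L .L (.N (.N .L .L .L) .L .L)))))) (.N (.N (.N (.N .L .L (.N .L .L (.N .L .L .L))) .L .L) (.N (.N (.N .L .L .L) (.N .L (.N .L .L .L) .L) .L) (.N (.N .L (.N .L (.N .L .L .L) .L) .L) (.N .L (.N .L (.N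 .L .L .L) .L) .L) .L) .L) .L) (.N (.N (.N (.N .L .L (.N .L .L .L)) .L .L) (.N (.N .L (.N .L (.N .L .L .L) .L) .L) (.N (.N .L .L .L) (.N .L (.N .L .L .L) .L) .L) .L) .L) (.N (.N .L (.N (.N .L (.N .L .L .L) .L) (.N .L (.N .L .L .L) .L) .L) .L) (.N (.N .L (.N .L (.N .L .L .L) .L) .L) (.N (.N .L (.N .L .L .L) .L) (.N (.N .L .L .L) .L .L) .L) .L) .L) .L) .L) (.N (.N .L (.N .L (.N (.N (.N .L .L .L) .L .L) .L .L) .L) (.N (.N .L .L (.N .L .L (.N .L .L (.N .L .L .L)))) .L (.N (.N .L .L (.N .L .L .L)) .L (.N (.N .L .L (.N .L .L .L)) .L (.N .L .L (.N .L .L .L)))))) .L (.N (.N .L (.N .L (.N .L .L .L) .L) (.N .L .L (.N .L .L (.N .L .L (.N .L .L .L))))) .L (.N (.N .L .L (.N .L .L (.N .L .L (.N .L .L .L)))) .L (.N (.N .L .L (.N .L .L (.N .L .L .L))) .L (.N (.N .L .L (.N .L .L .L)) .L .L)))))))]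

noncomputable def X8 : ℕ :=
  cat 4096 [nat_lit 0x4010a200000100100001010000008000010121008000000345004001040000003200200100050a400000000c00a04000806000204100000041004080610000000001d4140024000001004000808241010400001110004084000040020c00220400000104200c00800808020400000d200000010240002400001200002000000000000000000800000010020000a00100000000400400031800000081044080800008004004208618500180000800008010002000000200000010510508000000008200108001000000008800083880001000000408088029200002010000400040414000200101000883080800000000482000086000212000020008004880880010400220000200001000040400004022201000200002000000055000240100000180000005440202b1120000042001000000000004010021040004014040100c01000010000000000280c100010003040048040000240041004011084004002004000400a0001000524010e400020040800001048000000800001280024001400002020000408400440000000240c4200000200801004000440c1c0000000020000000c00000010080140416200c00400200c04010000000000040000002000000000060100100000000900200021040020030040000004150000000041000080001a00408140000004002000001000000800000000010020100000,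
 nat_lit 0x1001001010000402008010000810400108010000c9000000424001001000008400a1080200810048a00000101004000140422800000000004000000004088424010004004000a002a20080080000401030000060046000000000000002000040d0100088000080160000000001000080000001c0100880000000600220040004000044004002000d9400410000000001044000000080010a1000002040100000040804000080000000200000004400001801110a00108000000011800428000020000206080000080100000800004000000400080001107880040c00280042190100000402200002200130104004800001010005400080d006000040071000001000000000000000101004000010088001829010280033200220003000a400000020200c020000095000110400002104000000000210200001001010482200000000058402112000000000008000202040800000281806014c0220000000000004000800002404c20004021020003250000814042410804000000008040005030004024000100000006002240010000000000400000110208000800000004000180008000460020004000400020212080000200801000000282102210000004104c006042440020010041c0200000020000103010200100004000002040000040020010404000000211000e54048010200100000840000810008000040c460,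
 nat_lit 0x2002100020200005800000420200020000c000400000000034240080c00000030004010404000010001000000052000488002002000001090000080000000800011804100200021000200020280204000000002000000120820080000000040110080004000000048040004908090041000000050402802b10000001044100d00040450000003500000140222200440001400000200000100002100000000000010000000540800000040c010060000010088000110000200000042000800000000e008040000048140082000040000400040040206100124001002000182200420000104140010000800020000c004020801210d0000002004000000009524000008511000042020000001012c009044522000020100004004000200000208000200002001081000400880811100000004a0c8418020080000c000022008004010010005650000000080a000022200000487400440010000000020000000000000000000004002008242082000100000050004000084020100202806009230c000080100104428020100040000000018000040080011000080481121005860000000000302801000600000000000080801000000102020040c1028001110024000800028800098000000003001000005006000044000000400620010001042a00010048004004408488080001005040410680864608000004180000000000,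
 nat_lit 0x80a8880010008000c0000000000000004204101000410009040000008180000004000000000b00008000004808048c4010000000018801a021018201800840000005004090080200000010200804080000c0020044000000200000000400002002001052c0082080000005122000800842100000801440020a002000008000014018880041100000006c0240400010202008008004010000ba4014014190001000890004006800800801000008000400000002905000021110c00000a010400000000c000200002002002301484010440880020000200004100202010010003a090810080002400180400020000000100004080080040100041410400008000020448040010022001084200000004201010888008000800029401018440110408220000000000200000640400040000124101000640000600000001201050004000e000001020201100804041000000100010881040c4002108100008000600004800080002c306000204001400022010400908400104000421080490891000101001000040004000000180041010000100c000004003202008020800148291020200042000220860840410800008020002000000080002414418840000000080040501900024080000001000100100014400000000809000000a00060021301440009400000010488020214100900000000008000400000202080008000000,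
 nat_lit 0x82000002042600421020121800004020000408002100010000800c080002000040042080000500404260000009005000080000800000000000090100008000001500400020002021002213000221500008100000110000080001110000800000044400000020004280000004004100030108020200000000400008000800820a400200004008040000000504081088000080084100401800812]

theorem Q8_for : Nat.beq (forestH 4096 hs ns [46] [108] [109] F0 Q8) X8 = true :=
  by decide +kernel

theorem Q8_big : allL Q8 (fun r => and' (wordIn (sTop A_S1) r.1) (Nat.blt 1560 (pcN 4096 12 (orb ns (bigW r.1) 3 1)))) = true :=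
  by decide +kernel

noncomputable def Q9 : List (List ℕ × T3) :=
  [([16, 30], (.N (.N (.N (.N (.N (.N .L .L (.N .L .L .L)) .L (.N .L .L .L)) .L (.N .L .L (.N .L .L (.N .L .L .L)))) .L (.N (.N .L (.N .L .L .L) (.N (.N .L .L .L) .L (.N .L .L .L))) .L (.N (.N .L (.N .L (.N .L .L .L) .L) .L) .L (.N .L .L (.N .L .L (.N .L .L .L)))))) (.N (.N (.N .L .L .L) (.N (.N (.N .L .L .L) (.N .L .L .L) .L) (.N (.N .L .L .L) .L .L) .L) .L) (.N (.N (.N .L .L .L) (.N .L (.N .L (.N .L .L .L) .L) .L) .L) (.N (.N .L (.N .L (.N .L .L .L) .L) .L) (.N .L (.N (.N .L .L .L) (.N .L .L .L) .L) .L) .L) .L) .L) (.N (.N .L (.N .L (.N (.N .L .L .L) .L .L) .L) (.N (.N .L .L .L) .L (.N .L .L (.N .L .L (.N .L .L .L))))) .L (.N (.N .L (.N .L (.N .L .L .L) .L) (.N .L .L (.N .L .L .L))) .L (.N (.N .L .L (.N .L .L (.N .L .L .L))) .L (.N .L .L (.N (.N .L .L .L) .L .L)))))) (.N (.N (.N (.N .L .L (.N .L .L (.N .L .L .L))) .L .L) (.N (.N (.N .L .L .L) (.N .L (.N .L .L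 .L) .L) .L) (.N (.N .L (.N .L (.N .L .L .L) .L) .L) (.N .L (.N .L (.N .L .L .L) .L) .L) .L) .L) .L) (.N (.N (.N (.N .L .L (.N .L .L .L)) .L .L) (.N (.N .L (.N .L (.N .L .L .L) .L) .L) (.N (.N .L .L .L) (.N .L (.N .L .L .L) .L) .L) .L) .L) (.N (.N .L (.N (.N .L (.N .L .L .L) .L) (.N .L (.N .L .L .L) .L) .L) .L) (.N (.N .L (.N .L (.N .L .L .L) .L) .L) (.N (.N .L (.N .L .L .L) .L) (.N (.N .L .L .L) .L .L) .L) .L) .L) .L) .L) (.N (.N .L (.N .L (.N (.N (.N .L .L .L) .L .L) .L .L) .L) (.N (.N .L .L (.N .L .L (.N .L .L (.N .L .L .L)))) .L (.N (.N .L .L (.N .L .L .L)) .L (.N (.N .L .L (.N .L .L .L)) .L (.N .L .L (.N .L .L .L)))))) .L (.N (.N .L (.N .L (.N .L .L .L) .L) (.N .L .L (.N .L .L (.N .L .L (.N .L .L .L))))) .L (.N (.N .L .L (.N .L .L (.N .L .L (.N .L .L .L)))) .L (.N (.N .L .L (.N .L .L (.N .L .L .L))) .L (.N (.N .L .L (.N .L .L .L)) .L .L))))))),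
 ([16, 36], (.N (.N (.N (.N (.N (.N .L .L (.N .L .L .L)) .L (.N .L .L .L)) .L (.N .L .L (.N .L .L (.N .L .L .L)))) .L (.N (.N .L (.N .L .L .L) (.N (.N .L .L .L) .L (.N .L .L .L))) .L (.N (.N .L (.N .L (.N .L .L .L) .L) .L) .L (.N .L .L (.N .L .L (.N .L .L .L)))))) (.N (.N (.N .L .L .L) (.N (.N (.N .L .L .L) (.N .L .L .L) .L) (.N (.N .L .L .L) .L .L) .L) .L) (.N (.N (.N .L .L .L) (.N .L (.N .L (.N .L .L .L) .L) .L) .L) (.N (.N .L (.N .L (.N .L .L .L) .L) .L) (.N .L (.N (.N .L .L .L) (.N .L .L .L) .L) .L) .L) .L) .L) (.N (.N .L (.N .L (.N (.N .L .L .L) .L .L) .L) (.N (.N .L .L .L) .L (.N .L .L (.N .L .L (.N .L .L .L))))) .L (.N (.N .L (.N .L (.N .L .L .L) .L) (.N .L .L (.N .L .L .L))) .L (.N (.N .L .L (.N .L .L (.N .L .L .L))) .L (.N .L .L (.N (.N .L .L .L) .L .L)))))) (.N (.N (.N (.N .L .L (.N .L .L (.N .L .L .L))) .L .L) (.N (.N (.N .L .L .L) (.N .L (.N .L .L .L) .L) .L) (.N (.N .L (.N .L (.N .L .L .L) .L) .L) (.N .L (.N .L (.N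 .L .L .L) .L) .L) .L) .L) .L) (.N (.N (.N (.N .L .L (.N .L .L .L)) .L .L) (.N (.N .L (.N .L (.N .L .L .L) .L) .L) (.N (.N .L .L .L) (.N .L (.N .L .L .L) .L) .L) .L) .L) (.N (.N .L (.N (.N .L (.N .L .L .L) .L) (.N .L (.N .L .L .L) .L) .L) .L) (.N (.N .L (.N .L (.N .L .L .L) .L) .L) (.N (.N .L (.N .L .L .L) .L) (.N (.N .L .L .L) .L .L) .L) .L) .L) .L) .L) (.N (.N .L (.N .L (.N (.N (.N .L .L .L) .L .L) .L .L) .L) (.N (.N .L .L (.N .L .L (.N .L .L (.N .L .L .L)))) .L (.N (.N .L .L (.N .L .L .L)) .L (.N (.N .L .L (.N .L .L .L)) .L (.N .L .L (.N .L .L .L)))))) .L (.N (.N .L (.N .L (.N .L .L .L) .L) (.N .L .L (.N .L .L (.N .L .L (.N .L .L .L))))) .L (.N (.N .L .L (.N .L .L (.N .L .L (.N .L .L .L)))) .L (.N (.N .L .L (.N .L .L (.N .L .L .L))) .L (.N (.N .L .L (.N .L .L .L)) .L .L))))))),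
 ([10, 12, 10], (.N (.N (.N (.N (.N (.N .L .L (.N .L .L .L)) .L (.N .L .L .L)) .L (.N .L .L (.N .L .L (.N .L .L .L)))) .L (.N (.N .L (.N .L .L .L) (.N (.N .L .L .L) .L (.N .L .L .L))) .L (.N (.N .L (.N .L (.N .L .L .L) .L) .L) .L (.N .L .L (.N .L .L (.N .L .L .L)))))) (.N (.N (.N .L .L .L) (.N (.N (.N .L .L .L) (.N .L .L .L) .L) (.N (.N .L .L .L) .L .L) .L) .L) (.N (.N (.N .L .L .L) (.N .L (.N .L (.N .L .L .L) .L) .L) .L) (.N (.N .L (.N .L (.N .L .L .L) .L) .L) (.N .L (.N (.N .L .L .L) (.N .L .L .L) .L) .L) .L) .L) .L) (.N (.N .L (.N .L (.N (.N .L .L .L) .L .L) .L) (.N (.N .L .L .L) .L (.N .L .L (.N .L .L (.N .L .L .L))))) .L (.N (.N .L (.N .L (.N .L .L .L) .L) (.N .L .L (.N .L .L .L))) .L (.N (.N .L .L (.N .L .L (.N .L .L .L))) .L (.N .L .L (.N (.N .L .L .L) .L .L)))))) (.N (.N (.N (.N .L .L (.N .L .L (.N .L .L .L))) .L .L) (.N (.N (.N .L .L .L) (.N .L (.N .L .L .L) .L) .L) (.N (.N .L (.N .L (.N .L .L .L) .L) .L) (.N .L (.N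 .L (.N .L .L .L) .L) .L) .L) .L) .L) (.N (.N (.N (.N .L .L (.N .L .L .L)) .L .L) (.N (.N .L (.N .L (.N .L .L .L) .L) .L) (.N (.N .L .L .L) (.N .L (.N .L .L .L) .L) .L) .L) .L) (.N (.N .L (.N (.N .L (.N .L .L .L) .L) (.N .L (.N .L .L .L) .L) .L) .L) (.N (.N .L (.N .L (.N .L .L .L) .L) .L) (.N (.N .L (.N .L .L .L) .L) (.N (.N .L .L .L) .L .L) .L) .L) .L) .L) .L) (.N (.N .L (.N .L (.N (.N (.N .L .L .L) .L .L) .L .L) .L) (.N (.N .L .L (.N .L .L (.N .L .L (.N .L .L .L)))) .L (.N (.N .L .L (.N .L .L .L)) .L (.N (.N .L .L (.N .L .L .L)) .L (.N .L .L (.N .L .L .L)))))) .L (.N (.N .L (.N .L (.N .L .L .L) .L) (.N .L .L (.N .L .L (.N .L .L (.N .L .L .L))))) .L (.N (.N .L .L (.N .L .L (.N .L .L (.N .L .L .L)))) .L (.N (.N .L .L (.N .L .L (.N .L .L .L))) .L (.N (.N .L .L (.N .L .L .L)) .L .L))))))),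
 ([36, 12, 10], (.N (.N (.N (.N (.N (.N .L .L (.N .L .L .L)) .L (.N .L .L .L)) .L (.N .L .L (.N .L .L (.N .L .L .L)))) .L (.N (.N .L (.N .L .L .L) (.N (.N .L .L .L) .L (.N .L .L .L))) .L (.N (.N .L (.N .L (.N .L .L .L) .L) .L) .L (.N .L .L (.N .L .L (.N .L .L .L)))))) (.N (.N (.N .L .L .L) (.N (.N (.N .L .L .L) (.N .L .L .L) .L) (.N (.N .L .L .L) .L .L) .L) .L) (.N (.N (.N .L .L .L) (.N .L (.N .L (.N .L .L .L) .L) .L) .L) (.N (.N .L (.N .L (.N .L .L .L) .L) .L) (.N .L (.N (.N .L .L .L) (.N .L .L .L) .L) .L) .L) .L) .L) (.N (.N .L (.N .L (.N (.N .L .L .L) .L .L) .L) (.N (.N .L .L .L) .L (.N .L .L (.N .L .L (.N .L .L .L))))) .L (.N (.N .L (.N .L (.N .L .L .L) .L) (.N .L .L (.N .L .L .L))) .L (.N (.N .L .L (.N .L .L (.N .L .L .L))) .L (.N .L .L (.N (.N .L .L .L) .L .L)))))) (.N (.N (.N (.N .L .L (.N .L .L (.N .L .L .L))) .L .L) (.N (.N (.N .L .L .L) (.N .L (.N .L .L .L) .L) .L) (.N (.N .L (.N .L (.N .L .L .L) .L) .L) (.N .L (.N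 .L (.N .L .L .L) .L) .L) .L) .L) .L) (.N (.N (.N (.N .L .L (.N .L .L .L)) .L .L) (.N (.N .L (.N .L (.N .L .L .L) .L) .L) (.N (.N .L .L .L) (.N .L (.N .L .L .L) .L) .L) .L) .L) (.N (.N .L (.N (.N .L (.N .L .L .L) .L) (.N .L (.N .L .L .L) .L) .L) .L) (.N (.N .L (.N .L (.N .L .L .L) .L) .L) (.N (.N .L (.N .L .L .L) .L) (.N (.N .L .L .L) .L .L) .L) .L) .L) .L) .L) (.N (.N .L (.N .L (.N (.N (.N .L .L .L) .L .L) .L .L) .L) (.N (.N .L .L (.N .L .L (.N .L .L (.N .L .L .L)))) .L (.N (.N .L .L (.N .L .L .L)) .L (.N (.N .L .L (.N .L .L .L)) .L (.N .L .L (.N .L .L .L)))))) .L (.N (.N .L (.N .L (.N .L .L .L) .L) (.N .L .L (.N .L .L (.N .L .L (.N .L .L .L))))) .L (.N (.N .L .L (.N .L .L (.N .L .L (.N .L .L .L)))) .L (.N (.N .L .L (.N .L .L (.N .L .L .L))) .L (.N (.N .L .L (.N .L .L .L)) .L .L))))))),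
 ([38, 13, 10], (.N (.N (.N (.N .L .L (.N .L .L (.N .L .L .L))) .L (.N (.N .L .L .L) .L (.N .L .L .L))) (.N (.N (.N .L .L .L) .L .L) (.N (.N .L .L .L) .L .L) .L) (.N (.N .L .L .L) .L .L)) (.N .L (.N (.N (.N .L .L .L) .L .L) (.N (.N .L .L .L) .L .L) .L) .L) (.N .L .L (.N (.N .L (.N .L .L .L) .L) .L .L))))]

noncomputable def X9 : ℕ :=
  cat 4096 [nat_lit 0x4000000000100010098000400800000204010000000400000000820800020000000000400000000000000040000000002200002000000800000000000000000000000000000000000000000000001000000040000200000000080000000000800000040c012000800200000000000000001000000000000000000000000000c0400001002000000000000080200000004000000002010000000004400000000000810000600000040000000000000000000000000000000800000004000204000000010000040000000000004100200000000020204000000000400000000800020001000100840000000010000000000000000000000000000000000000010000040000440000000000004000000000000000080100100000000000000000200000000000020010000008400000000000000100000000000000100000080000800000000002000000000000000000000001000000000000000000000000000000020001000000000000000000800000004040000000008000000100018000000040000000800000080000500101000000000200000002000000000001000000000000011120000000000002000004000000000000100400080000000402004400000000000000000402800000000000000100000000000000000000001000000000008000000000000040000000820020400000200000000000000021,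
 nat_lit 0x1000000000000000008021000000000000000000000000000000000000000204008000000104001000000000000000188001000110001044000000800000000000040000100010000000010000000000800000000000000000000000000020000000001000000100000000008000020000000000040200000000000000000004200000080100000020001000000008000001080000000000000000000000081808000100000000001000000000008090140000000000000088000000000000080000000859000002000010000000000000000000001000040000800000000000000002408000000004008000000000400002000000000001000000000020000000000080000000000000000000000002000001200000000000000000000000050000000001400100020000008000008000000000800004080000000040000000000000000000000100000100000000000000414001000008000000010000040000008801000000000040000001000100000000000000000000000000004000020001000000100000802000480001000000000240200000020008000000000108010400810420000000000002000010800004000000100202000000000008000000000408000000000000000000004200000808000000000000000000000000200000000000000002000000000010000020000000000000000000000000000000,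
 nat_lit 0x601000000000000000000000000001140000000000880001220200001000000020000010000000004000250800040000010000000001000200000000000042000000002000002008000000008800004400000009040012000010000000000200000100000000000001000000000000000000000000040000002000000080010000000000002000000000000000000000000000400c0000020000080000004000000000040000010000000000400000000601000000000001000000000010080000001004400000000000000000808080280008804010001800000000000480000400000020000000000200000000000000010401044800003044000000000000000020000000000300020000008000000000000000000021002000000000000010020420000000000008010000010002000000000004000200008000000000030000000000100300000000001208000000000000408100000000000888000800000004400000000082000000000001400000002000000000200400000000000000080200000100004000040000400000080000000020000000000000000000000000000080400000001000022100000000000000000000000000000008000000000040002001000000000000000000000500800100000400000010040000000000000100001080c080000000002000100008400000240,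
 nat_lit 0x2800000008004000000000400000800480000000102800000020000800000c0000000000000000020000000000000000000000000000000000000000020000000400000000000000000100000000020200000000004100400008000000014000000000000000000000000840000004020800000000000400000000000000000000220000000000000000000201000100004000000000100000040080000000000004000802020100000000000000000000000000020000000000020040000000000000000114008010000020000400000000010000020000400000000000000000000004000020280000000010000000001000010000000000000000000000000000000000004000000000000000000000000004000011000000000011000000000000501000000000800000010008000000000008002000050000000000024000400002000404800004100000040100008000000000000000000000001000000040000080000400040001808000000000080100088000080404040000000004000100008140102000800004000000030400000000000000000200000000000000000000000000000000000000440000040000000000010000000000000000004000200004002200004000000000402000800002000002000010008800000000000000040400001005200000000000000000040020100000000041001000c20,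
 nat_lit 0xc00000000000000006000004000000a000000000200000000000082000020800000000000000000020000000000000000000000040000108000000000020000000000000100000000000000000400100010000000000000000090000000002000000800000010000020810010000000040180200004002000000000000000000000010000000000000040200000008000000]

theorem Q9_for : Nat.beq (forestH 4096 hs ns [46] [108] [109] F0 Q9) X9 = true :=
  by decide +kernel

theorem Q9_big : allL Q9 (fun r => and' (wordIn (sTop A_S1) r.1) (Nat.blt 1560 (pcN 4096 12 (orb ns (bigW r.1) 3 1)))) = true :=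
  by decide +kernel

theorem X_pc : Nat.ble 14976 (pc 15 (Nat.lor X0 (Nat.lor X1 (Nat.lor X2 (Nat.lor X3 (Nat.lor X4 (Nat.lor X5 (Nat.lor X6 (Nat.lor X7 (Nat.lor X8 (X9))))))))))) = true :=
  by decide +kernel

end Cfsg.Agent.R3.Ru
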