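import Cfsg.Agent.R3.SuzD

set_option autoImplicit false
set_option Elab.async false
set_option maxRecDepth 4096

namespace Cfsg.Agent.R3.Suz

open Cfsg.Agent.Comp

noncomputable def Z_Ms : List ℕ :=
  [1,
 nat_lit 0x20000000000000000000000000000000000000000000000000000000000000000000000000000000000000000000000000000000000000000000000000000000000000000000000000000000000000000000000000000000000000000000000000000000000000000000000000000000000000000000000000000000000000000000000000000000000000000000000000000000000000000000000000000000000000000000000000000000000000000000000000000000000000000000000000000000000000000000000000000000000000000000000000000000000000,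
 nat_lit 0xc000000000000000000000000000000000000000000000000000000000000000000000000000000000000000000000000000000000000000000000000000000000000000000000000000000000000000000092a8000000000000000000000fc00000428944800000000000000000000000000000000000000000000000008064f000000000000000000003ff0000000000000000c00e7800000000012424a8a4800000000000003800000000000003c620040000000000000000000a000cc00003208000b00002c40000a300001c00040007000000,
 nat_lit 0x1e00000000000000000000000000000000000000000000000001b7ff800000000000000000000000000000000000000000000000000000000000000000000000000000000000000000000000000000000000000000000000000000000000000000000000000000000000850820193c00000000000000000000000fffffffffff000fffff96f20a45120317c2bf8abf3f0000000000ffffffc00000842a12a100000000000009c0020938000007ffc8adc700000000000028000000000000000000000000041003084c04cb2683417b0d2bf30f5c7437e38efb0ff8e03ffe,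
 nat_lit 0x1e01000000000000000000000000000000000000000001ffdd200000000000000000000000000000000000000000000000000000000000000000000000000004100000182000030a0000118000000000000000000000020001c000fc0807ffffff2ff8bfdffffffff000004285428003ffc000000000000000000000000000000000000000000105228900000000000000fffffffc000000000000004115055087ffdd21fe00c019414007fffff80000000000000000000014109998baceedad669201b6733143302012481000480800000000000000000000000000000000]

noncomputable def Z_es : List CE :=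
  [⟨0, 0, [[5], [1]], [([], 0), ([100], 1781)]⟩,
 ⟨1781, 0, [[11], [14, 2]], [([], 1781)]⟩,
 ⟨24, 2, [[26], [13]], [([], 24)]⟩,
 ⟨1, 1, [[16, 23, 9, 4, 20, 5]], [([], 1), ([102], 1768)]⟩,
 ⟨131, 1, [[1, 24, 18, 7, 1, 20]], [([], 131)]⟩,
 ⟨14, 2, [[1, 17, 8, 12, 21], [11, 0, 18]], [([], 14), ([104], 286)]⟩]

noncomputable def F_kills : List (List ℕ) :=
  [[7, 0, 6, 0, 7, 0], [1, 9, 1, 4, 0, 7, 0], [4, 30, 8, 0, 4, 18, 24, 0, 7, 0], [1, 5, 1, 5, 14, 0, 7, 0]]

noncomputable def F_goods : List (List ℕ × List ℕ × ℕ) :=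
  [([0, 4, 1], [2, 12, 40, 25, 41, 30, 37, 45, 50], 2), ([0], [17, 27, 12, 10, 24, 12, 19, 23, 19, 50, 28, 39, 32, 38, 40, 44, 48], 2)]

noncomputable def D1 : ℕ :=
  nat_lit 0x3e010000000000000000c0000000000000000000000001ffdd200000000000000000000000000000000000000000000000000000000000000000000000000004100000182000030a0000118000000000000000000000020001c000fc9aafffffff2ff8bfdfffffffffc00042c7cbc483ffc000000000000000000000000000000000000000000105a2edf0000000000000ffffffffff0000000000004115c55effffdd21fe01e43de9e487fffff80000003800000000000017d6b99cbaceedad669201b6733b433ce0124b308048b80002c40000a300001c00040007000000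

noncomputable def D2 : ℕ :=
  nat_lit 0x1feffffffffffffffff3ffffffffffffffffffffffffe0022dffffffffffffffffffffffffffffffffffffffffffffffffffffffffffffffffffffffffffffbefffffe7dffffcf5ffffee7ffffffffffffffffffffffdfffe3fff036550000000d0074020000000003fffbd38343b7c003ffffffffffffffffffffffffffffffffffffffffffefa5d120fffffffffffff0000000000ffffffffffffbeea3aa1000022de01fe1bc2161b78000007ffffffc7ffffffffffffe829466345311252996dfe498cc4bcc31fedb4cf7fb747fffd3bffff5cffffe3fffbfff8fffffe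

theorem Z_ok : and' (allL Z_Ms (invAll ns (sTop A_S2))) (and' (centB 2048 11 ns 1782 (sTop A_S2) Z_Ms Z_es 0) (allL Jsg fun s => suppW 2048 11 ns s 1782)) = true :=
  by decide +kernel

theorem F_ok : ∀ s ∈ Jsg, ∀ u ∈ cands Z_es, finB 2048 11 ns 1782 0 1781 (A_d1.D ns) 67108863 Z_Ms (sTop A_S1) F_kills F_goods (appendR s u) = true :=
  fun s hs => forall_mem_of_allL (forall_mem_of_allL (p := fun s => allL (cands Z_es) fun u => finB 2048 11 ns 1782 0 1781 (A_d1.D ns) 67108863 Z_Ms (sTop A_S1) F_kills F_goods (appendR s u)) (by decide +kernel) s hs)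

theorem KG : Known ns (gen ns [[0], [2], [4], [6], [8], [10], [12]]) 67108863 :=
  kn_1

noncomputable def U_C4 : List Lvl :=
  []

noncomputable def U_ss3 : List (List ℕ) :=
  [[130], [132]]

noncomputable def U_D3 : ℕ :=
  nat_lit 0x53000000000000000000000000000000000000000000500000000000000000000000000000000000000000000000000000000000000000000000000000000000000000008000004

noncomputable def U_l3 : Lvl :=
  ⟨2, [[130], [132]],
  tabA [(392, 512), (394, 513), (564, 514), (565, 515), (27, 100352), (568, 100354), (570, 100355)], 2⟩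

noncomputable def U_C3 : List Lvl :=
  U_l3 :: U_C4

noncomputable def U_ss2 : List (List ℕ) :=
  [[122], [124], [126], [128]]

noncomputable def U_D2 : ℕ :=
  nat_lit 0x280000000000000000000000280000000000000000000000000000000000000000000000000000000000000000000000000000000000000000000000000000000000000006000000000000000000000000000000000000000000000000200040000000000000000000000000000000000000000000000000000000000000000000000

noncomputable def U_l2 : Lvl :=
  ⟨282, [[122], [124], [126], [128], [130], [132]],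
  tabA [(493, 72192), (494, 72193), (297, 72194), (1039, 72196), (1041, 126212), (943, 126468), (945, 76036)], 2⟩

noncomputable def U_C2 : List Lvl :=
  U_l2 :: U_C3

noncomputable def U_ss1 : List (List ℕ) :=
  [[114], [110], [106], [116], [118], [120]]

noncomputable def U_D1 : ℕ :=
  nat_lit 0x1fe0000000000000000000000000000000000000000000000000000000000000000000000000000000000000000000000000000000000000000000000000000000000000000000000000000000000000000000000000000000000000000000000000000000000000000000000000000000000000000000000000000000000000000000000000000000000000000000000000000000000000000000000000000000000000000000000000000000000000000000000000000000000000000000000000400000000000000040000020000080000040000000000008000120000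

noncomputable def U_l1 : Lvl :=
  ⟨17, [[114], [110], [106], [116], [118], [120], [122], [124], [126], [128], [130], [132]],
  tabC 19 524287 [nat_lit 0xdd80000000000000000000000000000000000000000000000000000000000000000000000000000000000000000110a00000000000000000000000000000000000000000000000000000000000000000000000000000000000000000000000,
 nat_lit 0x11216000000000000000000000000000000000000000000000000000000000000000000000000000000000000000000000000000000000000000001bbc08000000000000000000000000000000000000000000000000000000000000000000000000000000000000000000000000000000000000000000000000000,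
 nat_lit 0x1bac1000000000000000000000000000000000000000000000000000000000000000000000000000000000000000000000000000000000000000000008840000000000000000000000000000000000000000000,
 nat_lit 0x1bb01800000000000000000000000000000000000000000000000000000000000000000000000000000000000000000000000000000000000000000000000000000000000000000000000000000000000000000,
 0,
 0,
 0,
 0,
 0,
 0,
 0,
 0,
 0,
 0,
 0,
 0,
 0,
 0,
 0,
 0,
 0,
 0,
 0,
 0,
 0,
 0,
 0,
 nat_lit 0x6ea0add411ba8437506011020220c044037507000000000000000000000000000000000000000000000000000000000000000000000000000000000000000000000000000000000000000000000000000000000000000000000000000000000000000000000000000000000000000000000000000], 3⟩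

noncomputable def U_C1 : List Lvl :=
  U_l1 :: U_C2

noncomputable def U_ss0 : List (List ℕ) :=
  [[106], [108], [110], [112]]

noncomputable def U_D0 : ℕ :=
  nat_lit 0x100000400000000000000000000000c0000

noncomputable def U_l0 : Lvl :=
  ⟨18, [[108], [112], [114], [110], [106], [116], [118], [120], [122], [124], [126], [128], [130], [132]],
  tabA [(114, 4608), (19, 4610), (136, 29186)], 2⟩

noncomputable def U_C0 : List Lvl :=
  U_l0 :: U_C1

theorem U_ver4 : Ver ns U_C4 1 :=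
  ver_nil _

theorem U_le3 : gen ns U_l3.ws ≤ gen ns U_ss3 :=
  gen_le_step ctx (tgt := [])
  (es := []) (le_refl (gen _ [])) (by decide +kernel)

theorem U_lv3 : chkLvl 2048 ns U_l3 U_C4 U_D3 2 = true :=
  by decide +kernel

theorem U_pt3_0 : AllIn (PtOK 2048 ns U_l3 U_C4 U_ss3 U_D3) 0 2048 :=
  ptOK_of_chkPts ctx U_ver4 (a := 0) (n := 32) (by decide +kernel)

theorem U_st3 : IsStab 2048 (gen ns U_l3.ws) (cgrp ns U_C4) U_l3.b U_D3 :=
  isStab_plain ctx U_le3 U_lv3 (by norm_num) U_pt3_0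

theorem U_ver3 : Ver ns U_C3 8 :=
  U_ver4.cons ctx U_st3 (by decide +kernel)

theorem U_le2 : gen ns U_l2.ws ≤ gen ns U_ss2 :=
  gen_le_step ctx (tgt := [[130], [132]])
  (es := [([130], [0, 6, 1, 7, 2]), ([132], [2, 8, 3, 3])]) U_le3 (by decide +kernel)

theorem U_lv2 : chkLvl 2048 ns U_l2 U_C3 U_D2 1 = true :=
  by decide +kernel

theorem U_pt2_0 : AllIn (PtOK 2048 ns U_l2 U_C3 U_ss2 U_D2) 0 2048 :=
  ptOK_of_chkPts ctx U_ver3 (a := 0) (n := 32) (by decide +kernel)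

theorem U_st2 : IsStab 2048 (gen ns U_l2.ws) (cgrp ns U_C3) U_l2.b U_D2 :=
  isStab_plain ctx U_le2 U_lv2 (by norm_num) U_pt2_0

theorem U_ver2 : Ver ns U_C2 64 :=
  U_ver3.cons ctx U_st2 (by decide +kernel)

theorem U_le1 : gen ns U_l1.ws ≤ gen ns U_ss1 :=
  gen_le_step ctx (tgt := [[122], [124], [126], [128]])
  (es := [([122], [7, 7, 3, 5, 8]), ([124], [9, 2, 12]), ([126], [13, 6, 10, 15]), ([128], [9, 16, 15, 12, 16, 7, 7, 10, 8])]) U_le2 (by decide +kernel)

theorem U_lv1 : chkLvl 2048 ns U_l1 U_C2 U_D1 1 = true :=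
  by decide +kernel

theorem U_pt1_0 : AllIn (PtOK 2048 ns U_l1 U_C2 U_ss1 U_D1) 0 2048 :=
  ptOK_of_chkPts ctx U_ver2 (a := 0) (n := 32) (by decide +kernel)

theorem U_st1 : IsStab 2048 (gen ns U_l1.ws) (cgrp ns U_C2) U_l1.b U_D1 :=
  isStab_plain ctx U_le1 U_lv1 (by norm_num) U_pt1_0

theorem U_ver1 : Ver ns U_C1 1024 :=
  U_ver2.cons ctx U_st1 (by decide +kernel)

theorem U_le0 : gen ns U_l0.ws ≤ gen ns U_ss0 :=
  gen_le_step ctx (tgt := [[114], [110], [106], [116], [118], [120]])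
  (es := [([114], [3, 0, 3]), ([110], [2, 7, 2]), ([106], [5]), ([116], [13, 11, 13]), ([118], [11, 8, 12, 11]), ([120], [17, 12, 10, 12, 17, 14])]) U_le1 (by decide +kernel)

theorem U_lv0 : chkLvl 2048 ns U_l0 U_C1 U_D0 1 = true :=
  by decide +kernel

theorem U_pt0_0 : AllIn (PtOK 2048 ns U_l0 U_C1 U_ss0 U_D0) 0 2048 :=
  ptOK_of_chkPts ctx U_ver1 (a := 0) (n := 32) (by decide +kernel)

theorem U_st0 : IsStab 2048 (gen ns U_l0.ws) (cgrp ns U_C1) U_l0.b U_D0 :=
  isStab_plain ctx U_le0 U_lv0 (by norm_num) U_pt0_0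

theorem U_ver0 : Ver ns U_C0 4096 :=
  U_ver1.cons ctx U_st0 (by decide +kernel)

theorem U_eq : gen ns U_ss0 = cgrp ns U_C0 :=
  le_antisymm (gen_le_of_subsetL _ (by decide +kernel)) U_le0

theorem U_card : Nat.card (gen ns U_ss0) = 4096 :=
  by rw [U_eq]; exact U_ver0.card

noncomputable def U_os : List (ℕ × ℕ) :=
  [(1, 0), (18, 1), (162, 2), (63, 2), (1063, 3), (740, 4)]

noncomputable def line : ℕ :=
  nat_lit 0x100000400000000000000000000000c0002

noncomputable def R_B : List (ℕ × ℕ × List (List ℕ)) :=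
  [(1, 2, [[18, 45, 16, 30, 22, 33, 40, 48, 50], [19, 29, 24, 34, 40, 48], [18, 43, 25, 30, 38, 36, 40, 50], [22, 31, 32, 30, 37, 44]]),
 (2, 6, [[19, 29, 24, 34, 40, 48], [18, 43, 25, 30, 38, 36, 40, 50], [22, 31, 32, 30, 37, 44]]),
 (3, 4, [[18, 43, 25, 30, 38, 36, 40, 50], [22, 31, 32, 30, 37, 44]]),
 (20, 2, [[22, 31, 32, 30, 37, 44]])]

noncomputable def R_os : List (ℕ × ℕ) :=
  [(430, 3), (139, 3)]

noncomputable def L_reps : List (List ℕ × T3) :=
  [([], (.N (.N (.N (.N (.N (.N (.N (.N .L .L .L) (.N (.N (.N (.N .L .L .L) (.N .L .L .L) .L) .L .L) .L (.N .L (.N .L .L .L) .L)) .L) (.N (.N (.N (.N (.N .L .L .L) .L (.N .L .L .L)) (.N (.N .L .L .L) .L .L) .L) .L .L) .L (.N .L (.N (.N .L .L .L) (.N .L .L .L) .L) (.N .L .L (.N .L (.N .L .L .L) (.N .L (.N (.N .L .L .L) .L .L) (.N .L .L .L)))))) (.N .L (.N .L .L (.N .L (.N (.N .L .L .L) .L .L) .L)) .L)) (.N (.N (.N (.N (.N .L .L .L) (.N .L .L .L) .L) (.N .L .L (.N .L .L .L)) (.N .L .L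 .L)) .L .L) .L (.N .L (.N (.N (.N (.N .L (.N (.N .L .L .L) .L .L) .L) .L .L) (.N (.N .L .L .L) .L (.N .L .L .L)) .L) .L (.N .L (.N (.N .L (.N .L .L .L) .L) (.N .L .L .L) (.N .L .L .L)) (.N .L .L .L))) .L)) (.N .L (.N (.N (.N .L .L .L) .L .L) .L (.N .L (.N (.N .L .L .L) .L (.N .L (.N .L .L .L) .L)) .L)) .L)) (.N (.N (.N (.N (.N .L (.N .L (.N .L .L .L) .L) (.N .L (.N .L (.N .L .L .L) .L) (.N .L .L .L))) (.N (.N .L .L .L) (.N .L .L .L) .L) (.N .L (.N .L .L (.N .L .L .L)) (.N .L (.N (.N .L .L .L) .L .L) .L))) (.N (.N .L .L (.N .L (.N (.N .L .L .L) .L .L) .L)) (.N (.N .L .L .L) (.N (.N .L .L .L) .L .L) .L) (.N .L .L (.N .L .L .L))) (.N .L .L (.N .L (.N (.N (.N (.N .L .L .L) .L .L) (.N .L .L .L) .L) .L .L) .L))) .L (.N .L .L (.N .L .L (.N .L .L .L)))) .L (.N .L (.N (.N (.N (.N .L (.N .L .L .L) .L) (.N (.N .L (.N .L .L .L) .L) .L .L) .L) (.N (.N (.N .L .L .L) .L (.N .L .L .L)) .L (.N .L (.N .L .L .L) .L)) (.N .L .L .L)) (.N (.N (.N .L (.N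 (.N .L .L .L) .L .L) .L) (.N (.N .L .L .L) .L .L) .L) (.N (.N .L .L .L) .L .L) .L) (.N .L .L .L)) (.N .L (.N (.N (.N .L .L .L) (.N (.N .L .L (.N .L .L .L)) .L .L) .L) .L (.N .L .L (.N .L .L .L))) (.N .L (.N (.N .L .L .L) (.N .L .L (.N .L .L .L)) .L) (.N .L (.N .L .L .L) .L))))) .L) (.N (.N (.N (.N (.N .L (.N (.N (.N .L .L .L) .L .L) (.N .L .L .L) (.N .L .L .L)) (.N .L (.N (.N .L .L .L) .L (.N .L .L .L)) .L)) (.N (.N .L (.N .L .L (.N .L .L .L)) (.N .L (.N .L .L .L) .L)) (.N .L (.N (.N .L .L .L) .L (.N .L .L .L)) .L) (.N .L .L .L)) (.N .L (.N .L .L (.N .L .L (.N .L .L .L))) (.N .L (.N (.N .L .L .L) .L .L) (.N .L .L .L)))) (.N (.N (.N (.N (.N .L .L .L) .L (.N .L .L .L)) (.N .L (.N .L .L .L) .L) (.N .L .L .L)) .L (.N .L (.N .L .L .L) (.N .L (.N (.N .L .L .L) .L .L) .L))) (.N (.N .L (.N .L .L .L) .L) (.N (.N .L .L .L) .L .L) .L) (.N .L (.N (.N (.N .L .L .L) (.N .L .L .L) (.N .L .L .L)) .L (.N .L .L .L)) (.N .L (.N .L .L .L) (.N .L (.N .L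 .L .L) .L)))) (.N .L (.N (.N (.N .L (.N .L .L .L) (.N .L (.N .L .L .L) .L)) (.N (.N .L .L .L) .L (.N .L .L .L)) .L) .L (.N .L (.N .L .L (.N .L .L .L)) (.N .L (.N .L (.N .L .L .L) .L) (.N .L .L (.N .L (.N .L .L .L) .L))))) .L)) (.N (.N (.N (.N (.N .L .L (.N .L (.N .L .L .L) .L)) (.N .L (.N (.N .L .L .L) .L .L) .L) (.N .L .L .L)) (.N .L (.N .L (.N .L .L .L) .L) (.N .L .L .L)) (.N .L .L (.N .L (.N .L .L (.N .L .L .L)) .L))) (.N .L .L (.N .L (.N .L .L .L) (.N .L .L .L))) .L) (.N .L .L .L) .L) (.N .L (.N .L .L .L) .L)) .L (.N .L .L (.N .L (.N (.N (.N (.N .L .L .L) (.N (.N .L .L .L) .L (.N .L .L .L)) .L) (.N (.N .L .L (.N .L .L .L)) .L .L) (.N .L .L (.N .L (.N .L .L .L) .L))) .L .L) (.N .L (.N .L .L (.N .L (.N .L .L (.N .L .L .L)) .L)) (.N .L (.N (.N (.N .L .L .L) (.N .L .L .L) (.N .L .L .L)) (.N .L .L (.N .L .L .L)) (.N .L .L (.N .L (.N .L .L .L) .L))) (.N .L .L .L)))))) .L) (.N (.N (.N .L (.N .L .L (.N .L (.N (.N (.N .L .L .L) .L .L) .L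 .L) (.N .L (.N .L (.N .L (.N .L .L .L) (.N .L .L .L)) (.N .L .L (.N .L .L .L))) (.N .L (.N .L (.N .L .L (.N .L (.N .L .L .L) .L)) .L) (.N .L (.N .L .L .L) .L))))) (.N .L (.N .L .L (.N .L (.N (.N (.N .L .L .L) .L .L) .L (.N .L (.N .L .L .L) .L)) (.N .L (.N .L .L .L) .L))) .L)) (.N (.N (.N (.N (.N (.N .L .L .L) (.N .L .L .L) .L) .L .L) (.N .L .L .L) .L) .L (.N .L .L (.N .L (.N (.N (.N .L .L .L) (.N (.N .L .L .L) .L .L) .L) .L (.N .L .L .L)) .L))) .L (.N .L .L (.N .L (.N .L .L (.N .L .L (.N .L (.N .L .L (.N .L (.N .L .L .L) .L)) (.N .L .L .L)))) (.N .L (.N (.N (.N .L (.N .L .L .L) .L) (.N (.N .L .L .L) .L .L) .L) (.N .L (.N .L .L .L) .L) (.N .L .L .L)) (.N .L .L (.N .L (.N .L .L .L) .L)))))) .L) (.N (.N (.N .L (.N .L .L (.N .L .L .L)) .L) .L (.N .L .L (.N .L .L .L))) (.N .L .L .L) (.N .L (.N (.N (.N (.N (.N .L (.N .L .L (.N .L .L .L)) .L) (.N .L .L .L) (.N .L .L .L)) (.N .L .L (.N .L (.N .L .L (.N .L .L .L)) .L)) .L) (.N (.N (.N (.N .L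 .L .L) .L .L) (.N .L (.N .L .L .L) (.N .L .L .L)) (.N .L .L .L)) .L .L) .L) .L (.N .L (.N (.N (.N .L .L .L) (.N (.N .L .L .L) .L .L) .L) .L .L) (.N .L (.N .L .L (.N .L (.N (.N .L .L .L) .L .L) .L)) .L))) (.N .L .L .L))) (.N .L (.N (.N (.N (.N (.N .L .L .L) (.N (.N .L (.N .L .L .L) .L) (.N .L .L .L) (.N .L .L (.N .L .L (.N .L .L .L)))) (.N .L .L .L)) .L (.N .L (.N (.N (.N .L .L .L) .L .L) .L .L) .L)) .L .L) .L (.N .L (.N (.N (.N (.N .L .L .L) (.N (.N .L .L .L) .L .L) .L) (.N (.N .L (.N (.N .L .L .L) .L .L) (.N .L .L .L)) .L (.N .L .L .L)) .L) .L (.N .L (.N (.N (.N .L .L (.N .L .L .L)) .L .L) (.N (.N .L (.N .L .L .L) .L) (.N .L .L .L) .L) (.N .L (.N .L (.N .L .L .L) .L) (.N .L .L .L))) (.N .L (.N .L (.N .L .L .L) (.N .L .L .L)) (.N .L .L (.N .L .L .L))))) (.N .L (.N (.N .L (.N .L .L .L) .L) (.N .L (.N .L .L (.N .L .L .L)) (.N .L .L .L)) (.N .L (.N .L .L (.N .L .L .L)) .L)) (.N .L (.N (.N .L .L .L) (.N (.N .L .L .L) (.N .L .L .L) .L)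 (.N .L .L (.N .L .L (.N .L .L .L)))) (.N .L (.N (.N (.N .L .L .L) .L .L) .L .L) .L))))) (.N .L (.N .L (.N .L (.N (.N (.N (.N .L .L .L) .L .L) .L .L) .L (.N .L .L (.N .L .L .L))) .L) (.N .L (.N (.N (.N (.N .L .L .L) .L .L) .L .L) (.N (.N .L .L .L) (.N .L .L .L) .L) (.N .L (.N (.N (.N .L .L .L) .L .L) .L (.N .L .L .L)) .L)) (.N .L (.N .L .L .L) .L))) (.N .L (.N .L .L (.N .L (.N (.N .L .L .L) .L (.N .L (.N .L .L .L) .L)) .L)) .L)))) (.N .L (.N (.N (.N (.N (.N (.N .L .L .L) .L .L) (.N (.N (.N .L .L .L) .L .L) (.N .L (.N .L .L .L) .L) (.N .L .L (.N .L .L (.N .L (.N .L .L .L) .L)))) (.N .L (.N (.N .L .L .L) .L .L) (.N .L .L .L))) (.N .L (.N .L (.N (.N .L (.N .L .L .L) .L) .L .L) .L) (.N .L .L .L)) (.N .L (.N (.N (.N .L (.N .L .L .L) .L) (.N (.N .L .L .L) .L .L) .L) .L (.N .L .L .L)) .L)) (.N (.N (.N (.N .L .L .L) (.N (.N (.N .L .L .L) .L .L) .L .L) (.N .L .L .L)) (.N (.N (.N .L .L (.N .L .L .L)) .L .L) (.N .L .L .L) (.N .L .L .L)) (.N .L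 .L .L)) .L (.N .L .L (.N .L .L (.N .L (.N (.N .L .L .L) .L .L) (.N .L .L .L))))) .L) (.N (.N .L (.N .L (.N .L .L .L) (.N .L .L (.N .L (.N .L .L .L) (.N .L .L (.N .L .L (.N .L .L .L)))))) (.N .L .L .L)) .L (.N .L (.N (.N (.N (.N .L (.N .L .L .L) .L) .L (.N .L .L .L)) .L .L) .L (.N .L (.N .L .L .L) (.N .L (.N .L .L (.N .L .L .L)) (.N .L .L .L)))) .L)) (.N .L (.N (.N (.N (.N (.N .L (.N .L (.N .L .L .L) .L) (.N .L .L .L)) (.N .L (.N .L (.N .L .L (.N .L .L .L)) .L) (.N .L (.N (.N .L .L .L) .L .L) .L)) (.N .L .L (.N .L .L .L))) (.N .L .L (.N .L .L .L)) .L) (.N (.N (.N (.N (.N .L .L .L) .L .L) (.N .L .L (.N .L .L .L)) .L) (.N .L .L .L) (.N .L (.N .L .L .L) .L)) (.N .L .L .L) .L) (.N .L .L (.N .L (.N (.N .L .L .L) .L (.N .L .L .L)) (.N .L .L .L)))) .L (.N .L (.N .L .L (.N .L (.N .L .L .L) (.N .L .L .L))) (.N .L (.N (.N .L .L .L) (.N .L .L (.N .L .L .L)) (.N .L (.N .L .L .L) .L)) (.N .L .L (.N .L .L .L))))) (.N .L (.N (.N .L (.N .L .L .L) .L)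 (.N .L (.N .L .L .L) .L) (.N .L (.N (.N .L .L .L) .L (.N .L .L .L)) (.N .L (.N .L .L .L) .L))) (.N .L (.N (.N (.N .L .L .L) .L .L) (.N .L .L (.N .L (.N .L .L .L) (.N .L .L .L))) (.N .L (.N (.N (.N .L .L .L) .L .L) .L (.N .L .L .L)) (.N .L .L .L))) (.N .L (.N (.N (.N .L .L .L) .L .L) (.N .L .L .L) .L) (.N .L .L .L)))))) (.N .L (.N (.N (.N (.N (.N .L .L (.N .L .L .L)) (.N .L (.N .L .L .L) (.N .L .L (.N .L .L .L))) (.N .L (.N .L .L .L) (.N .L (.N .L .L .L) .L))) (.N (.N .L .L (.N .L (.N .L .L .L) .L)) (.N .L (.N .L .L .L) .L) (.N .L .L .L)) (.N .L .L .L)) (.N (.N (.N .L .L .L) (.N .L .L (.N .L .L .L)) .L) .L .L) .L) .L (.N .L (.N (.N (.N (.N .L .L (.N .L .L .L)) .L .L) (.N (.N .L .L .L) .L (.N .L .L .L)) .L) .L (.N .L (.N (.N .L .L .L) .L .L) (.N .L (.N .L .L .L) (.N .L .L .L)))) (.N .L (.N (.N (.N .L .L .L) (.N (.N .L .L .L) .L .L) (.N .L .L (.N .L (.N .L .L .L) (.N .L .L .L)))) .L (.N .L (.N (.N .L .L .L) .L .L) (.N .L .L (.N .L .L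 .L)))) (.N .L (.N (.N .L .L .L) (.N .L (.N .L .L .L) .L) (.N .L (.N .L .L .L) .L)) (.N .L (.N .L (.N .L .L .L) .L) (.N .L .L .L)))))) (.N .L .L .L)))) (.N (.N (.N (.N (.N (.N (.N (.N .L (.N .L .L (.N .L .L .L)) (.N .L .L .L)) (.N (.N .L (.N .L .L .L) .L) .L (.N .L .L (.N .L .L .L))) .L) (.N .L .L (.N .L (.N .L .L .L) (.N .L .L .L))) (.N .L (.N (.N .L .L .L) (.N .L .L .L) .L) (.N .L (.N .L .L .L) .L))) (.N (.N .L (.N .L .L (.N .L .L .L)) .L) (.N .L (.N .L .L .L) .L) (.N .L (.N .L .L .L) .L)) (.N .L (.N .L (.N .L .L .L) (.N .L (.N .L .L .L) .L)) (.N .L .L .L))) (.N (.N (.N (.N .L .L (.N .L .L .L)) (.N (.N (.N .L .L .L) (.N .L .L .L) .L) .L .L) .L) (.N (.N (.N .L .L .L) (.N .L .L .L) .L) (.N .L .L .L) (.N .L .L (.N .L .L (.N .L .L .L)))) (.N .L (.N .L .L .L) .L)) (.N (.N .L .L .L) (.N (.N (.N .L .L .L) .L .L) .L (.N .L (.N .L .L .L) .L)) (.N .L .L .L)) (.N .L (.N (.N (.N (.N .L .L .L) .L .L) (.N .L .L .L) (.N .L .L .L)) (.N (.N .L .L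 .L) (.N .L .L .L) .L) (.N .L .L .L)) (.N .L (.N (.N .L (.N .L .L .L) .L) (.N .L .L .L) .L) (.N .L .L (.N .L (.N .L .L .L) .L))))) (.N .L (.N .L (.N .L (.N .L .L .L) .L) (.N .L (.N .L .L .L) .L)) (.N .L .L (.N .L (.N (.N .L .L .L) .L .L) .L)))) (.N (.N (.N (.N (.N (.N .L .L .L) .L .L) (.N .L (.N .L (.N .L .L .L) .L) (.N .L .L .L)) (.N .L (.N .L (.N .L .L .L) .L) (.N .L .L (.N .L .L .L)))) (.N (.N (.N (.N .L .L .L) .L .L) (.N .L .L .L) (.N .L .L (.N .L .L .L))) (.N .L (.N (.N .L .L .L) .L .L) .L) (.N .L .L .L)) (.N .L (.N (.N (.N .L .L .L) (.N (.N .L (.N .L .L .L) .L) .L .L) .L) .L .L) .L)) (.N (.N (.N .L .L (.N .L .L .L)) .L (.N .L (.N (.N .L .L .L) .L .L) .L)) (.N .L (.N (.N .L (.N (.N .L .L .L) .L .L) .L) .L .L) .L) (.N .L (.N .L .L .L) (.N .L (.N .L (.N .L .L .L) .L) (.N .L .L .L)))) (.N .L .L (.N .L (.N .L .L .L) (.N .L (.N (.N .L .L .L) .L (.N .L .L .L)) .L)))) (.N .L (.N (.N (.N .L .L .L) .L .L) (.N .L (.N .L .L (.N .L .L .L))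 .L) (.N .L (.N .L (.N .L .L .L) .L) (.N .L (.N .L .L .L) (.N .L (.N .L .L .L) .L)))) (.N .L .L (.N .L (.N .L .L (.N .L (.N (.N .L .L .L) .L .L) .L)) .L))) (.N .L (.N (.N .L .L (.N .L .L .L)) (.N (.N .L .L (.N .L .L .L)) (.N .L (.N .L .L .L) .L) (.N .L .L .L)) (.N .L (.N (.N (.N .L .L (.N .L .L .L)) (.N .L .L .L) (.N .L .L .L)) .L (.N .L .L .L)) .L)) (.N .L (.N (.N (.N .L .L .L) (.N (.N .L .L .L) .L .L) .L) (.N .L (.N (.N .L .L .L) (.N .L .L .L) .L) (.N .L .L .L)) (.N .L (.N .L .L .L) (.N .L .L (.N .L .L .L)))) (.N .L .L .L)))) (.N .L (.N (.N (.N .L .L .L) .L .L) (.N .L .L (.N .L (.N (.N .L .L .L) .L (.N .L .L .L)) (.N .L .L .L))) (.N .L (.N .L (.N (.N .L .L .L) .L (.N .L .L .L)) (.N .L .L (.N .L .L .L))) (.N .L (.N (.N .L .L (.N .L .L .L)) .L (.N .L (.N .L .L .L) .L)) (.N .L (.N (.N .L (.N .L .L .L) .L) .L (.N .L .L .L)) (.N .L (.N .L .L .L) .L))))) (.N .L (.N (.N (.N (.N .L .L (.N .L (.N .L .L .L) .L)) (.N .L .L (.N .L (.N .L .L .L)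 .L)) .L) (.N .L .L (.N .L .L .L)) .L) .L .L) .L))) (.N (.N (.N (.N (.N (.N .L .L (.N .L .L .L)) .L (.N .L (.N .L .L .L) (.N .L (.N .L .L .L) .L))) (.N (.N .L .L .L) (.N .L .L .L) (.N .L (.N .L .L (.N .L .L .L)) .L)) (.N .L (.N (.N .L .L (.N .L .L (.N .L .L .L))) .L .L) .L)) (.N (.N (.N (.N .L .L (.N .L .L .L)) .L (.N .L .L .L)) (.N .L (.N .L .L .L) .L) (.N .L .L .L)) (.N .L (.N (.N .L .L .L) .L (.N .L .L .L)) (.N .L .L .L)) (.N .L (.N (.N .L .L (.N .L .L .L)) (.N (.N .L .L .L) .L .L) .L) (.N .L .L .L))) (.N .L (.N (.N .L (.N .L .L .L) .L) (.N .L .L (.N .L .L .L)) (.N .L (.N .L .L .L) .L)) (.N .L (.N (.N .L (.N .L .L .L) .L) (.N .L .L (.N .L .L .L)) .L) (.N .L .L .L)))) (.N (.N .L .L (.N .L (.N (.N .L .L .L) .L .L) (.N .L (.N (.N .L .L .L) .L .L) .L))) (.N (.N .L (.N .L (.N .L (.N .L .L .L) .L) (.N .L .L (.N .L .L .L))) (.N .L .L (.N .L .L .L))) (.N (.N .L (.N .L (.N .L .L .L) .L) (.N .L .L (.N .L .L .L))) .L .L) .L) (.N .L .L .L))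 (.N .L (.N (.N .L .L .L) (.N (.N .L .L .L) .L .L) .L) (.N .L (.N (.N (.N (.N .L .L .L) (.N .L .L .L) .L) (.N .L .L .L) .L) (.N .L (.N .L .L .L) .L) (.N .L .L (.N .L .L .L))) (.N .L .L (.N .L .L (.N .L .L .L)))))) (.N (.N (.N (.N .L .L .L) (.N (.N .L .L (.N .L .L (.N .L .L .L))) (.N .L .L .L) (.N .L (.N .L .L .L) .L)) (.N .L (.N .L .L (.N .L .L .L)) .L)) .L (.N .L .L .L)) (.N (.N (.N (.N (.N .L (.N .L .L .L) .L) (.N (.N .L .L .L) .L .L) .L) .L .L) (.N (.N (.N .L .L .L) .L .L) (.N .L (.N (.N .L .L .L) .L .L) .L) (.N .L .L .L)) (.N .L .L (.N .L (.N .L .L .L) .L))) .L .L) .L) (.N .L (.N .L .L (.N .L .L .L)) (.N .L .L (.N .L (.N .L .L .L) (.N .L (.N (.N .L .L .L) .L (.N .L .L (.N .L .L .L))) (.N .L .L (.N .L (.N .L (.N .L .L .L) .L) (.N .L .L .L)))))))) (.N .L .L (.N .L (.N (.N (.N .L .L (.N .L .L .L)) .L (.N .L .L (.N .L (.N .L .L .L) (.N .L .L .L)))) (.N (.N .L (.N .L .L .L) .L) .L .L) (.N .L (.N (.N (.N .L .L .L) .L .L) .L .L) .L)) (.N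 .L (.N (.N (.N (.N .L .L .L) .L (.N .L .L .L)) (.N (.N .L .L .L) .L (.N .L .L .L)) .L) .L (.N .L .L .L)) (.N .L .L (.N .L (.N .L .L .L) .L)))))) .L (.N .L (.N (.N (.N .L (.N (.N (.N (.N .L .L .L) (.N .L .L .L) .L) .L .L) .L (.N .L .L (.N .L (.N .L .L (.N .L .L .L)) .L))) (.N .L (.N .L .L (.N .L .L (.N .L .L .L))) .L)) (.N (.N (.N (.N .L .L (.N .L .L .L)) (.N .L .L .L) .L) (.N (.N .L .L .L) .L .L) .L) .L (.N .L .L (.N .L (.N (.N .L .L .L) .L (.N .L .L .L)) (.N .L (.N .L .L .L) .L)))) (.N .L .L .L)) (.N (.N (.N (.N .L .L .L) (.N (.N .L .L .L) .L (.N .L .L (.N .L .L .L))) (.N .L .L (.N .L .L .L))) (.N .L .L .L) .L) .L (.N .L (.N (.N (.N .L (.N .L .L .L) .L) .L .L) .L (.N .L (.N (.N .L (.N .L .L .L) .L) .L (.N .L .L (.N .L .L .L))) (.N .L (.N .L .L (.N .L .L .L)) (.N .L .L (.N .L .L .L))))) (.N .L .L (.N .L .L .L)))) .L) (.N .L (.N (.N (.N (.N .L (.N .L .L (.N .L .L (.N .L .L .L))) .L) (.N (.N .L (.N .L .L .L) .L) .L (.N .L .L (.N .L .L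 .L))) .L) (.N (.N .L (.N .L .L (.N .L .L (.N .L .L .L))) .L) .L (.N .L .L (.N .L (.N .L .L (.N .L .L .L)) (.N .L .L .L)))) (.N .L .L (.N .L (.N .L (.N .L .L .L) .L) (.N .L .L .L)))) (.N (.N (.N (.N (.N .L .L .L) .L .L) .L .L) (.N (.N .L (.N .L .L .L) .L) .L .L) .L) (.N (.N .L (.N .L .L .L) .L) (.N .L .L .L) (.N .L (.N (.N .L .L .L) (.N .L (.N .L .L .L) .L) (.N .L (.N (.N .L .L .L) .L .L) .L)) (.N .L .L (.N .L .L .L)))) (.N .L (.N (.N (.N .L .L .L) (.N .L .L .L) .L) (.N .L .L .L) (.N .L (.N .L .L .L) (.N .L .L .L))) (.N .L (.N .L .L (.N .L .L .L)) (.N .L .L .L)))) (.N .L (.N (.N (.N .L .L .L) (.N (.N .L .L .L) .L .L) .L) (.N (.N .L .L .L) (.N .L .L (.N .L .L .L)) (.N .L (.N .L .L .L) .L)) (.N .L (.N .L .L .L) .L)) (.N .L (.N (.N (.N .L .L .L) .L .L) (.N (.N .L (.N .L .L .L) .L) .L .L) (.N .L .L (.N .L .L .L))) (.N .L .L (.N .L .L .L))))) (.N .L (.N (.N (.N .L (.N (.N .L .L .L) (.N .L .L .L) (.N .L .L .L)) (.N .L .L .L)) (.N (.N .L (.N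 .L .L .L) .L) .L .L) .L) (.N (.N (.N (.N .L .L .L) .L .L) .L .L) (.N .L .L (.N .L .L .L)) (.N .L .L (.N .L (.N .L .L .L) .L))) (.N .L (.N .L (.N .L .L .L) (.N .L .L .L)) (.N .L (.N .L (.N .L .L .L) .L) (.N .L .L .L)))) (.N .L .L (.N .L (.N .L (.N .L (.N .L .L .L) (.N .L .L .L)) (.N .L .L (.N .L .L .L))) (.N .L (.N .L .L .L) .L))))))) .L))]

theorem L_for : Nat.ble 1365 (pc 18 (forestM 2048 133777 ns [14] [16] [18] line L_reps)) = true :=
  by decide +kernel

theorem R_lb : Nat.ble 184320 (lbVal 2048 11 ns R_B) = true :=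
  by decide +kernel

theorem R_in : and' (allL (lbTop R_B) (wordIn (sTop A_S1))) (invAll ns (lbTop R_B) line) = true :=
  by decide +kernel

theorem R_un : and' (subB (A_d1.D ns) (orL (orbs ns (lbTop R_B) R_os) id)) (allL (unions (orbs ns (lbTop R_B) R_os)) fun M => or' (Nat.beq (pcN 2048 11 M) 0) (Nat.ble 160 (pcN 2048 11 M))) = true :=
  by decide +kernel

theorem U_fix : and' (and' (Nat.blt 1 2048) (fixAll ns U_ss0 1)) (subB D2 (orL (orbs ns U_ss0 U_os) id)) = true :=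
  by decide +kernel

theorem U_un : allL (unions (orbs ns U_ss0 U_os)) (fun M => or' (not' (tb M 1)) (or' (not' (Nat.beq (Nat.mod 45 (pcN 2048 11 M)) 0)) (or' (Nat.beq M (Nat.shiftLeft 1 1)) (Nat.beq M line)))) = true :=
  by decide +kernel

theorem st2 : IsStab 2048 (gen ns (sTop A_S1)) (gen ns (sTop A_S1) ⊓ MulAction.stabilizer (Equiv.Perm ℕ) 1) 1 D2 :=
  isStab_inf ctx (r := 1) (by decide +kernel)

noncomputable def P_C1 : List Lvl :=
  []

noncomputable def P_ss0 : List (List ℕ) :=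
  [[134], [136]]

noncomputable def P_D0 : ℕ :=
  nat_lit 0x1100000000000000000000000000000000000000000000000000000000000000000000000000000000000000000000000000000000000000000000000000000000000000000000000000000000000000000000000000000000000000000000000000000410000000000000000401000000001000200000000000041022000000000000200000000000000004000002800000000000000000000000000000000000000000000000000000000000008000000800001000080010010000000000100000402

noncomputable def P_l0 : Lvl :=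
  ⟨1, [[134], [136], [144]],
  tabC 19 524287 [nat_lit 0xab0500000000000000000000000000000000000000000000000000000000000000000000000000000000000000000000000000002ac0000000000000000000000000000000000000000000000000,
 nat_lit 0xab02000000000000000000000000000000000000000000000000000000000000000000000000000046a080000000000000000000000000000000000000000000000000000000000000000002f804000000000000000000000000000000000000000000000000000000104000000000000000000000000000000000000000000000000000000000,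
 nat_lit 0x2000000000000000000000000000000000000000000000000000000000000000000000000000000000000000000000000000000000000000000000000000000000056c0800000000000000000000000000000000000000000000000000000000000000000000000,
 0,
 0,
 0,
 nat_lit 0xa200c000000000000000000000000000000000000000000000000000000000000000000000000000000000000000000000000000000000000000000008100000098080000000000000000000000000000000000000000000000000000000000000000000000000000000000000000000000000000000000000000000000000000000000000000000000000000000000000000000000,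
 0,
 nat_lit 0x144028000000000000005582000000000000000000000000000000000000000000000000000000000000000000000000000000000000000000000000000000000000000000000000000000000000000000000000000000000000000000000000000000000000000000000000000000000000000000000000000000000000000000000000000050200000,
 nat_lit 0xd2828000000000000000000000000000000000000000000000000000000000000000000000000000000000000000000000000000000000000000000000000000000000000000000000000000000000000000000000000000000000000000000000000000000000000000000000000000000000000000000000a20100000000000000000000000000a03,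
 nat_lit 0x40c0000000000000000000000000000000000000000006140500000000000000000000000000000000000000000000000000000000000000000000000000000000000000000000000000000000000000000000000000000000000000000000000000000000000000000000000010100000000000000000000000000000000000000,
 nat_lit 0xa2008000000000000000000000000ab0300000000000000000000000000000000000000000000000000000000000000000000000000000000000000000000000000000000000000000000000000000000000000000000000000000000000000000000000000000000000000000000000000000000000000000000000000000000000000000000000000000000000000000000000000,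
 0,
 0,
 0,
 0,
 0,
 0,
 0,
 0,
 0,
 0,
 0,
 0,
 nat_lit 0x28801000000000000000010500000000000000000000000000000000000000000000000000000000000000000000000000000000000000000000000], 3⟩

noncomputable def P_C0 : List Lvl :=
  P_l0 :: P_C1

theorem P_ver1 : Ver ns P_C1 1 :=
  ver_nil _

theorem P_le0 : gen ns P_l0.ws ≤ gen ns P_ss0 :=
  gen_le_step ctx (tgt := [[144]])
  (es := [([144], [3, 3, 0])]) (le_refl (gen _ [])) (by decide +kernel)

theorem P_lv0 : chkLvl 2048 ns P_l0 P_C1 P_D0 3 = true :=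
  by decide +kernel

theorem P_pt0_0 : AllIn (PtOK 2048 ns P_l0 P_C1 P_ss0 P_D0) 0 2048 :=
  ptOK_of_chkPts ctx P_ver1 (a := 0) (n := 32) (by decide +kernel)

theorem P_st0 : IsStab 2048 (gen ns P_l0.ws) (cgrp ns P_C1) P_l0.b P_D0 :=
  isStab_plain ctx P_le0 P_lv0 (by norm_num) P_pt0_0

theorem P_ver0 : Ver ns P_C0 25 :=
  P_ver1.cons ctx P_st0 (by decide +kernel)

theorem P_eq : gen ns P_ss0 = cgrp ns P_C0 :=
  le_antisymm (gen_le_of_subsetL _ (by decide +kernel)) P_le0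

theorem P_card : Nat.card (gen ns P_ss0) = 25 :=
  by rw [P_eq]; exact P_ver0.card

noncomputable def nws : List (List ℕ) :=
  [[138], [140], [142]]

noncomputable def F0 : ℕ :=
  nat_lit 0x200080000005820000004000000000010000000000000000000000000000000000000000000000000000000000000000000100000000000000000000000000020000000600000000000004000000000000000000000000000000000000000000000000000002000002000000000000000000000000000000000000000000

theorem N_lb : Nat.ble 300 (lbVal 2048 11 ns [(14, 4, nws)]) = true :=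
  by decide +kernel

theorem N_norm : and' (invAll ns nws F0) (normB 2048 11 ns nws P_ss0 [[0, 3], [3], [0], [1, 2], [1]]) = true :=
  by decide +kernel

noncomputable def N_reps : List (List ℕ × T3) :=
  [([], (.N .L .L .L)),
 ([37, 25], (.N (.N (.N .L .L (.N .L .L .L)) (.N .L (.N .L .L .L) .L) (.N .L .L .L)) (.N (.N .L .L .L) (.N .L .L .L) (.N .L .L (.N .L .L .L))) (.N .L (.N .L .L .L) (.N .L .L .L)))),
 ([33, 25], (.N (.N (.N (.N .L (.N .L .L .L) (.N .L .L .L)) (.N .L (.N .L .L .L) .L) (.N .L .L .L)) (.N (.N .L .L .L) .L (.N .L .L .L)) (.N .L .L .L)) (.N (.N .L .L (.N .L .L .L)) (.N .L (.N .L .L .L) .L) (.N (.N .L .L .L) .L (.N .L .L .L))) (.N (.N .L (.N .L .L .L) .L) (.N .L .L .L) .L))),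
 ([26], (.N (.N (.N (.N (.N .L .L .L) (.N .L .L .L) (.N .L .L .L)) (.N .L (.N .L .L .L) (.N .L .L .L)) (.N .L .L (.N (.N .L .L .L) .L .L))) (.N (.N (.N .L .L .L) .L (.N .L .L .L)) (.N .L .L (.N .L .L .L)) (.N .L .L (.N .L .L .L))) (.N .L .L .L)) (.N (.N .L (.N .L (.N .L .L .L) (.N .L .L .L)) (.N (.N .L .L .L) (.N .L .L .L) (.N .L .L .L))) (.N (.N .L (.N .L .L .L) (.N .L .L .L)) (.N .L .L .L) .L) (.N .L .L (.N .L .L .L))) (.N (.N .L (.N .L .L .L) (.N .L .L .L)) (.N (.N .L .L .L) (.N .L (.N .L .L .L) .L) (.N .L .L .L)) (.N (.N .L .L .L) (.N .L .L .L) .L)))),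
 ([27], (.N (.N (.N (.N (.N .L .L (.N .L .L .L)) (.N .L (.N .L .L .L) .L) (.N .L .L .L)) (.N .L (.N .L .L .L) (.N .L .L .L)) (.N .L .L .L)) (.N (.N .L (.N .L .L .L) .L) (.N .L .L .L) (.N .L .L (.N .L .L .L))) (.N .L (.N (.N .L .L .L) .L .L) (.N .L .L .L))) (.N (.N (.N .L .L (.N .L .L .L)) (.N .L .L .L) (.N (.N .L .L .L) .L .L)) (.N (.N .L .L .L) (.N (.N .L .L .L) .L .L) (.N .L .L .L)) (.N .L .L (.N (.N .L .L .L) .L .L))) (.N (.N .L .L (.N .L .L (.N .L .L .L))) (.N .L .L (.N (.N .L .L .L) .L .L)) (.N (.N .L .L (.N .L .L .L)) (.N (.N .L .L .L) .L .L) .L)))),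
 ([24], (.N (.N (.N (.N (.N .L (.N .L .L .L) .L) .L .L) .L (.N (.N .L (.N .L .L .L) .L) (.N .L (.N .L .L (.N .L .L .L)) .L) (.N .L .L .L))) (.N (.N (.N .L (.N .L (.N .L .L .L) .L) (.N .L .L .L)) (.N .L .L .L) (.N .L .L .L)) (.N (.N (.N .L .L .L) .L .L) (.N .L .L .L) (.N .L .L .L)) (.N (.N .L .L .L) .L .L)) .L) (.N (.N (.N (.N (.N .L .L .L) (.N .L .L (.N .L .L .L)) (.N .L .L .L)) .L .L) (.N (.N .L .L .L) .L (.N .L .L .L)) (.N (.N .L .L .L) .L (.N .L .L .L))) (.N (.N (.N .L .L (.N .L .L .L)) .L .L) (.N .L .L (.N .L .L (.N .L .L .L))) (.N .L .L (.N .L .L .L))) (.N (.N .L .L .L) .L .L)) (.N (.N (.N .L (.N .L .L .L) (.N (.N .L .L .L) .L .L)) (.N .L .L .L) (.N .L (.N .L (.N .L .L .L) (.N .L .L .L)) (.N .L .L .L))) (.N .L (.N .L (.N .L .L .L) (.N .L .L .L)) (.N (.N .L .L .L) .L .L)) (.N (.N (.N .L .L .L) .L .L) (.N .L .L .L) .L)))),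
 ([25], (.N (.N (.N (.N .L (.N .L (.N .L .L .L) .L) (.N (.N .L .L .L) .L .L)) .L .L) (.N (.N (.N (.N .L .L .L) (.N .L .L .L) (.N .L .L .L)) (.N .L (.N .L .L .L) (.N .L .L .L)) (.N .L .L .L)) (.N (.N .L (.N .L .L .L) .L) (.N .L .L .L) (.N .L .L (.N .L .L .L))) (.N .L .L (.N .L .L .L))) (.N (.N .L (.N .L .L .L) .L) (.N (.N .L .L .L) .L .L) (.N (.N .L (.N .L .L .L) .L) (.N .L (.N .L .L .L) .L) .L))) (.N (.N (.N (.N .L (.N .L .L .L) .L) (.N .L (.N .L .L .L) .L) (.N .L .L .L)) (.N .L (.N .L .L .L) (.N .L .L (.N .L .L .L))) (.N .L .L .L)) (.N (.N .L (.N .L .L .L) (.N .L .L .L)) (.N (.N (.N .L .L .L) .L .L) .L .L) (.N .L .L (.N .L .L .L))) (.N (.N .L (.N .L .L .L) (.N .L .L .L)) .L .L)) (.N (.N .L (.N .L .L .L) .L) (.N (.N .L .L .L) (.N .L .L .L) (.N (.N .L .L (.N .L .L .L)) .L .L)) (.N .L (.N (.N .L .L .L) (.N .L .L .L) .L) .L)))),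
 ([33, 22], (.N (.N (.N (.N (.N (.N .L .L .L) .L .L) (.N .L (.N .L .L .L) .L) (.N .L (.N .L (.N .L .L .L) .L) .L)) (.N .L (.N (.N .L .L .L) .L (.N .L .L .L)) (.N (.N .L .L .L) .L .L)) (.N .L (.N .L (.N .L .L .L) .L) .L)) (.N (.N (.N .L .L .L) .L .L) (.N (.N (.N .L .L .L) .L .L) (.N .L .L .L) (.N .L .L .L)) (.N (.N .L .L .L) .L .L)) (.N (.N (.N .L .L .L) .L .L) (.N (.N (.N .L .L .L) .L .L) (.N .L .L (.N .L .L .L)) (.N .L .L .L)) (.N (.N .L .L .L) .L .L))) (.N (.N (.N .L (.N .L .L .L) (.N .L .L .L)) (.N (.N .L .L .L) .L .L) .L) (.N (.N .L .L .L) (.N (.N (.N .L .L .L) .L .L) .L (.N .L .L .L)) (.N .L .L (.N .L .L .L))) (.N (.N .L .L .L) .L .L)) (.N (.N (.N .L (.N .L .L .L) (.N (.N .L .L .L) .L .L)) .L (.N .L .L .L)) (.N .L (.N .L (.N (.N .L .L .L) .L .L) .L) (.N .L .L .L)) (.N (.N (.N .L .L .L) .L .L) (.N .L (.N .L .L .L) .L) .L)))),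
 ([28, 23], (.N (.N (.N (.N .L (.N .L .L .L) (.N .L (.N .L .L .L) .L)) (.N (.N (.N .L (.N .L .L .L) .L) .L .L) (.N (.N .L .L .L) .L (.N .L .L .L)) (.N (.N .L .L .L) .L .L)) (.N (.N .L .L .L) (.N .L .L .L) .L)) (.N (.N (.N .L (.N .L .L .L) .L) (.N .L .L .L) .L) (.N (.N .L .L .L) (.N .L .L .L) (.N .L .L (.N .L .L .L))) (.N (.N .L .L .L) .L .L)) (.N (.N (.N .L .L .L) .L (.N (.N .L .L .L) .L .L)) (.N .L (.N .L .L .L) .L) (.N (.N (.N .L .L (.N .L .L .L)) .L .L) .L .L))) (.N (.N (.N .L (.N .L .L .L) (.N .L .L .L)) (.N (.N .L .L .L) .L .L) (.N .L (.N .L .L .L) (.N .L .L .L))) (.N (.N (.N .L .L .L) .L .L) (.N .L .L .L) (.N .L .L (.N .L .L .L))) (.N (.N .L .L (.N .L (.N .L .L .L) (.N .L .L .L))) .L (.N .L .L .L))) (.N .L (.N .L (.N .L (.N .L .L .L) .L) (.N (.N .L .L .L) .L .L)) (.N (.N (.N .L .L .L) .L .L) (.N (.N .L .L .L) .L .L) .L)))),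
 ([30, 23], (.N (.N (.N (.N .L (.N .L .L .L) (.N .L (.N .L .L .L) .L)) (.N (.N .L .L .L) .L .L) (.N (.N .L (.N .L .L .L) (.N .L .L .L)) (.N (.N .L .L .L) .L .L) (.N .L .L .L))) (.N (.N (.N .L .L .L) .L (.N .L .L .L)) (.N (.N (.N .L .L .L) (.N .L .L .L) .L) (.N .L .L .L) (.N .L .L (.N .L .L .L))) (.N (.N .L .L .L) .L (.N .L .L .L))) (.N (.N (.N .L (.N .L .L .L) .L) .L .L) (.N (.N .L .L .L) (.N .L .L .L) (.N (.N .L .L .L) .L .L)) (.N (.N .L .L (.N .L .L .L)) .L .L))) (.N (.N .L (.N (.N .L .L .L) (.N .L .L .L) .L) .L) (.N (.N (.N .L (.N .L .L .L) (.N .L .L .L)) .L .L) (.N (.N .L .L .L) .L (.N .L .L .L)) (.N .L .L .L)) (.N (.N .L .L (.N .L .L .L)) .L (.N .L .L .L))) (.N (.N (.N (.N .L .L .L) (.N .L .L .L) (.N .L .L .L)) (.N .L .L .L) (.N .L (.N .L .L .L) (.N .L .L .L))) (.N .L (.N .L (.N .L .L .L) (.N .L .L .L)) (.N .L .L .L)) .L))),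
 ([22], (.N (.N (.N (.N (.N .L (.N .L .L (.N .L .L .L)) (.N (.N .L .L .L) .L .L)) .L .L) .L (.N (.N .L (.N .L .L .L) (.N .L .L .L)) (.N (.N .L .L .L) (.N .L .L (.N .L .L .L)) (.N .L .L .L)) (.N (.N .L (.N .L .L .L) .L) .L .L))) (.N (.N (.N .L (.N .L (.N .L .L .L) .L) (.N .L .L .L)) (.N (.N .L .L .L) (.N .L .L .L) .L) (.N .L (.N .L .L .L) (.N .L (.N .L .L .L) .L))) (.N (.N (.N .L .L .L) (.N .L .L .L) .L) (.N (.N (.N .L .L .L) .L .L) .L (.N .L .L (.N .L .L .L))) (.N .L .L (.N .L .L .L))) (.N (.N .L .L .L) .L (.N (.N .L .L .L) .L .L))) (.N (.N (.N (.N .L (.N .L .L .L) (.N .L .L .L)) .L .L) (.N .L .L .L) (.N (.N .L .L .L) .L .L)) (.N (.N (.N .L .L .L) .L .L) (.N .L .L .L) (.N .L .L .L)) (.N (.N (.N .L .L (.N .L .L .L)) (.N .L .L .L) (.N .L .L .L)) (.N (.N .L .L .L) .L .L) .L))) (.N (.N (.N (.N (.N .L .L .L) (.N .L (.N .L .L .L) (.N .L .L .L)) (.N (.N .L .L .L) .L .L)) .L .L) (.N (.N .L (.N (.N .L .L .L) .L .L) .L) (.N .L .L .L) (.N .L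 .L (.N (.N .L .L .L) .L .L))) (.N (.N (.N .L .L .L) .L .L) .L (.N (.N .L .L .L) .L .L))) (.N (.N (.N (.N .L .L .L) .L (.N .L .L .L)) (.N (.N .L .L .L) .L .L) (.N (.N .L .L .L) .L (.N .L .L .L))) (.N .L .L (.N .L .L (.N .L .L .L))) (.N .L .L (.N .L .L .L))) (.N (.N .L .L (.N .L (.N .L .L .L) (.N .L .L .L))) .L (.N (.N .L (.N .L .L .L) (.N .L .L .L)) .L .L))) (.N (.N (.N .L (.N (.N .L .L .L) .L .L) (.N (.N .L .L .L) .L .L)) (.N .L .L .L) (.N (.N .L .L .L) (.N .L (.N .L .L .L) (.N .L .L .L)) (.N (.N .L .L .L) .L .L))) (.N (.N .L .L .L) (.N .L (.N .L .L .L) (.N .L .L .L)) (.N (.N .L .L .L) .L .L)) (.N (.N (.N (.N .L .L .L) .L .L) (.N .L .L .L) (.N .L (.N .L .L .L) .L)) (.N .L (.N .L .L (.N .L .L .L)) .L) .L)))),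
 ([23], (.N (.N (.N (.N (.N (.N .L (.N .L .L .L) (.N .L .L .L)) .L .L) (.N (.N .L .L .L) (.N .L .L .L) (.N .L .L .L)) (.N (.N .L .L .L) (.N .L (.N .L .L .L) (.N .L .L .L)) (.N .L .L .L))) (.N (.N .L .L .L) (.N (.N .L .L .L) (.N (.N .L .L .L) .L .L) (.N .L .L .L)) (.N (.N .L .L .L) .L .L)) (.N .L (.N (.N .L .L .L) (.N .L (.N .L .L .L) .L) (.N .L .L .L)) (.N (.N .L .L .L) .L .L))) (.N (.N (.N (.N .L .L .L) .L .L) .L (.N .L (.N .L (.N .L .L .L) .L) (.N .L (.N .L .L .L) .L))) (.N (.N (.N .L .L .L) (.N .L .L .L) .L) (.N .L .L (.N .L .L .L)) (.N .L .L .L)) (.N (.N .L .L .L) .L (.N (.N .L .L .L) .L .L))) (.N (.N (.N (.N .L .L .L) .L .L) .L (.N (.N .L .L .L) (.N .L .L .L) (.N (.N .L .L .L) .L .L))) (.N (.N (.N .L .L .L) .L .L) (.N .L .L (.N .L .L (.N .L .L .L))) (.N (.N .L .L .L) .L .L)) (.N (.N (.N .L .L .L) (.N .L .L .L) (.N .L .L .L)) (.N .L (.N .L .L .L) .L) .L))) (.N (.N (.N (.N (.N .L .L .L) (.N .L .L .L) (.N .L .L .L)) (.N .L (.N .L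 .L .L) (.N .L .L (.N .L .L .L))) (.N .L .L .L)) (.N (.N .L .L (.N .L .L .L)) (.N .L .L .L) (.N .L .L (.N .L .L .L))) (.N (.N .L .L .L) (.N .L (.N .L .L .L) .L) (.N .L .L .L))) (.N (.N (.N .L (.N .L .L .L) .L) (.N (.N .L .L .L) .L .L) (.N .L .L (.N .L .L .L))) (.N (.N (.N .L .L .L) .L .L) .L (.N .L .L (.N .L .L .L))) (.N .L .L (.N .L .L .L))) (.N (.N .L (.N .L .L .L) (.N .L (.N .L .L .L) (.N .L .L .L))) .L (.N .L .L .L))) (.N (.N (.N (.N .L (.N .L .L .L) .L) (.N .L (.N .L .L .L) (.N .L .L .L)) (.N (.N .L .L .L) .L (.N .L .L .L))) (.N .L .L .L) (.N .L .L .L)) (.N (.N .L .L .L) (.N .L (.N (.N .L .L .L) .L .L) .L) (.N .L .L .L)) (.N (.N (.N .L .L .L) (.N .L .L .L) (.N .L .L .L)) (.N .L (.N .L .L .L) .L) .L)))),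
 ([32], (.N (.N (.N (.N (.N .L (.N .L .L (.N .L .L .L)) (.N (.N .L .L .L) .L .L)) .L .L) .L (.N (.N .L (.N .L .L .L) (.N .L .L .L)) (.N (.N .L .L .L) (.N .L .L (.N .L .L .L)) (.N .L .L .L)) (.N (.N .L (.N .L .L .L) .L) .L .L))) (.N (.N (.N .L (.N .L (.N .L .L .L) .L) (.N .L .L .L)) (.N (.N .L .L .L) (.N .L .L .L) .L) (.N .L (.N .L .L .L) (.N .L (.N .L .L .L) .L))) (.N (.N (.N .L .L .L) (.N .L .L .L) .L) (.N (.N (.N .L .L .L) .L .L) .L (.N .L .L (.N .L .L .L))) (.N .L .L (.N .L .L .L))) (.N (.N .L .L .L) .L (.N (.N .L .L .L) .L .L))) (.N (.N (.N (.N .L (.N .L .L .L) (.N .L .L .L)) .L .L) (.N .L .L .L) (.N (.N .L .L .L) .L .L)) (.N (.N (.N .L .L .L) .L .L) (.N .L .L .L) (.N .L .L .L)) (.N (.N (.N .L .L (.N .L .L .L)) (.N .L .L .L) (.N .L .L .L)) (.N (.N .L .L .L) .L .L) .L))) (.N (.N (.N (.N (.N .L .L .L) (.N .L (.N .L .L .L) (.N .L .L .L)) (.N (.N .L .L .L) .L .L)) .L .L) (.N (.N .L (.N (.N .L .L .L) .L .L) .L) (.N .L .L .L) (.N .L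 .L (.N (.N .L .L .L) .L .L))) (.N (.N (.N .L .L .L) .L .L) .L (.N (.N .L .L .L) .L .L))) (.N (.N (.N (.N .L .L .L) .L (.N .L .L .L)) (.N (.N .L .L .L) .L .L) (.N (.N .L .L .L) .L (.N .L .L .L))) (.N .L .L (.N .L .L (.N .L .L .L))) (.N .L .L (.N .L .L .L))) (.N (.N .L .L (.N .L (.N .L .L .L) (.N .L .L .L))) .L (.N (.N .L (.N .L .L .L) (.N .L .L .L)) .L .L))) (.N (.N (.N .L (.N (.N .L .L .L) .L .L) (.N (.N .L .L .L) .L .L)) (.N .L .L .L) (.N (.N .L .L .L) (.N .L (.N .L .L .L) (.N .L .L .L)) (.N (.N .L .L .L) .L .L))) (.N (.N .L .L .L) (.N .L (.N .L .L .L) (.N .L .L .L)) (.N (.N .L .L .L) .L .L)) (.N (.N (.N (.N .L .L .L) .L .L) (.N .L .L .L) (.N .L (.N .L .L .L) .L)) (.N .L (.N .L .L (.N .L .L .L)) .L) .L)))),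
 ([44], (.N (.N (.N (.N (.N (.N (.N .L .L .L) (.N .L .L .L) .L) (.N .L (.N .L .L .L) (.N .L .L .L)) (.N .L .L .L)) (.N (.N .L .L .L) (.N .L .L (.N .L .L .L)) (.N .L .L .L)) (.N (.N .L .L .L) .L .L)) (.N (.N (.N .L .L .L) .L .L) (.N .L (.N (.N .L .L .L) .L .L) (.N .L .L (.N .L .L .L))) (.N .L .L .L)) (.N (.N .L (.N .L .L .L) .L) (.N (.N .L .L .L) (.N .L (.N .L .L .L) (.N .L .L .L)) (.N .L .L .L)) (.N (.N .L .L .L) .L .L))) (.N (.N (.N (.N .L .L .L) (.N .L .L .L) (.N .L .L .L)) (.N (.N .L (.N .L .L .L) .L) (.N .L .L .L) (.N .L .L .L)) (.N .L .L .L)) (.N (.N (.N .L .L .L) .L .L) (.N (.N .L .L .L) .L .L) (.N .L .L (.N .L .L .L))) (.N (.N .L .L .L) .L (.N .L .L .L))) (.N (.N .L (.N .L .L .L) (.N (.N .L .L .L) (.N .L .L .L) (.N .L (.N .L .L .L) .L))) (.N (.N .L .L .L) .L .L) (.N .L (.N (.N .L .L .L) (.N .L .L .L) .L) .L))) (.N (.N (.N (.N (.N .L .L .L) (.N .L .L .L) .L) (.N .L (.N .L .L .L) (.N .L .L .L)) (.N (.N .L .L .L) .L .L)) (.N (.N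 .L .L .L) .L (.N .L .L (.N .L .L .L))) (.N .L (.N .L .L (.N .L .L .L)) (.N .L (.N .L .L .L) .L))) (.N (.N (.N (.N .L (.N .L .L .L) .L) .L .L) (.N .L (.N .L .L .L) (.N .L .L .L)) .L) (.N (.N .L .L .L) .L .L) (.N .L .L (.N .L .L .L))) (.N (.N .L (.N .L .L .L) (.N (.N .L .L .L) .L .L)) .L (.N (.N .L .L (.N .L (.N .L .L .L) .L)) .L .L))) (.N (.N (.N .L (.N .L (.N .L .L .L) (.N .L .L .L)) .L) (.N .L .L .L) (.N .L (.N .L (.N .L (.N .L .L .L) .L) (.N .L .L .L)) (.N (.N .L .L .L) .L .L))) (.N (.N (.N .L .L .L) .L .L) (.N .L (.N .L .L .L) (.N .L .L (.N .L .L .L))) (.N (.N .L (.N .L .L .L) (.N .L .L .L)) .L .L)) (.N (.N (.N .L .L .L) .L (.N .L (.N .L .L .L) .L)) (.N (.N .L .L .L) (.N .L (.N .L .L .L) .L) .L) .L)))),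
 ([48], (.N (.N (.N (.N (.N .L (.N .L (.N .L .L .L) (.N .L .L .L)) (.N .L (.N .L .L .L) .L)) (.N (.N .L .L .L) .L .L) (.N (.N .L .L .L) (.N .L (.N .L .L .L) (.N .L .L .L)) (.N (.N .L .L .L) .L .L))) (.N (.N (.N .L .L .L) .L .L) (.N (.N .L (.N .L .L .L) .L) (.N (.N .L .L .L) .L .L) (.N .L .L (.N .L .L .L))) (.N (.N .L .L .L) .L (.N .L .L .L))) (.N (.N .L (.N .L .L .L) (.N .L .L (.N .L .L .L))) (.N (.N .L .L .L) (.N .L (.N .L .L .L) (.N .L .L .L)) (.N .L .L .L)) (.N (.N .L (.N .L .L .L) (.N .L .L .L)) .L .L))) (.N (.N .L (.N (.N .L (.N .L .L .L) .L) (.N .L .L .L) (.N .L .L (.N .L .L .L))) (.N .L (.N .L (.N .L .L .L) (.N .L .L .L)) (.N .L (.N .L .L .L) .L))) (.N (.N (.N .L .L .L) .L .L) (.N (.N (.N .L .L .L) .L .L) .L (.N .L .L (.N .L .L .L))) (.N .L .L .L)) (.N (.N .L .L .L) .L (.N (.N .L .L (.N .L .L .L)) .L .L))) (.N (.N (.N (.N .L (.N .L .L .L) .L) (.N .L (.N .L .L .L) .L) (.N .L .L .L)) (.N .L .L .L) (.N (.N .L (.N .L .L .L) .L)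 (.N .L .L .L) (.N .L .L .L))) (.N .L (.N .L (.N .L .L .L) (.N .L .L (.N .L .L .L))) (.N .L .L .L)) (.N (.N (.N .L .L .L) (.N .L .L .L) (.N .L (.N .L .L .L) .L)) (.N (.N .L .L .L) (.N .L .L .L) .L) .L))) (.N (.N (.N (.N .L (.N .L (.N .L .L .L) (.N .L .L .L)) (.N (.N .L .L .L) .L .L)) (.N .L (.N .L .L (.N .L .L .L)) (.N .L .L .L)) (.N (.N .L .L .L) .L .L)) (.N .L (.N .L .L .L) .L) (.N (.N .L (.N .L .L .L) .L) (.N .L (.N .L .L (.N .L .L .L)) (.N .L .L .L)) (.N (.N .L .L .L) (.N .L .L .L) .L))) (.N (.N (.N (.N .L .L .L) (.N .L .L .L) (.N .L .L .L)) (.N (.N .L .L .L) (.N .L .L .L) (.N .L .L .L)) .L) (.N .L .L (.N .L .L (.N .L .L .L))) (.N .L .L .L)) (.N (.N .L (.N .L .L .L) (.N .L (.N .L .L .L) .L)) .L .L)) .L)),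
 ([25, 22], (.N (.N (.N (.N (.N (.N .L .L (.N .L .L .L)) (.N .L (.N .L .L .L) .L) (.N .L .L .L)) (.N .L (.N .L .L (.N .L .L .L)) (.N .L .L .L)) (.N (.N .L .L .L) .L .L)) (.N (.N .L .L .L) (.N .L (.N (.N .L .L .L) .L .L) .L) (.N .L .L (.N .L .L .L))) (.N (.N .L (.N .L .L .L) (.N .L .L .L)) (.N (.N .L .L .L) (.N .L (.N .L .L .L) .L) (.N .L .L .L)) (.N (.N .L .L (.N .L .L .L)) .L .L))) (.N (.N (.N (.N .L .L .L) (.N .L .L (.N .L .L .L)) (.N .L .L .L)) (.N .L (.N .L .L .L) (.N .L .L .L)) (.N .L .L (.N .L .L .L))) (.N (.N .L (.N (.N .L .L .L) .L .L) .L) (.N (.N (.N .L .L .L) .L .L) .L .L) (.N .L .L (.N .L .L .L))) (.N .L .L (.N (.N .L .L (.N .L .L .L)) .L .L))) (.N (.N .L (.N .L .L .L) (.N .L (.N .L .L .L) (.N (.N .L .L .L) .L .L))) (.N (.N .L .L .L) .L .L) (.N (.N .L (.N .L .L .L) (.N .L .L .L)) (.N (.N .L .L .L) (.N .L .L .L) .L) .L))) (.N (.N (.N (.N (.N .L .L .L) (.N .L .L .L) .L) (.N .L (.N .L .L .L) .L) (.N .L .L .L)) (.N (.N .L (.N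 .L (.N .L .L .L) (.N .L .L .L)) (.N .L .L (.N .L .L .L))) (.N .L .L .L) (.N .L .L (.N .L .L .L))) (.N (.N .L (.N .L .L .L) (.N .L .L .L)) .L .L)) (.N (.N .L (.N .L .L (.N .L .L .L)) (.N (.N .L .L .L) (.N .L .L .L) (.N .L .L .L))) (.N (.N (.N .L .L .L) .L .L) .L .L) (.N .L .L (.N .L .L .L))) (.N (.N .L (.N .L .L .L) (.N .L (.N .L .L .L) .L)) .L (.N (.N .L (.N .L .L .L) .L) .L .L))) (.N (.N .L (.N .L .L .L) (.N (.N .L .L .L) .L (.N (.N .L .L .L) .L .L))) (.N (.N (.N (.N .L .L .L) (.N .L .L .L) .L) .L .L) (.N .L (.N (.N .L .L .L) .L .L) (.N .L .L .L)) (.N (.N .L (.N .L .L .L) (.N .L .L .L)) .L .L)) (.N (.N (.N (.N .L .L .L) .L (.N .L .L .L)) (.N .L .L .L) (.N .L .L .L)) (.N (.N .L .L .L) (.N .L .L .L) .L) .L)))),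
 ([28], (.N (.N (.N (.N (.N (.N (.N (.N .L .L .L) .L .L) (.N .L .L .L) (.N .L .L .L)) (.N .L (.N .L .L (.N .L .L .L)) (.N .L .L .L)) (.N (.N .L .L .L) (.N .L (.N .L .L .L) .L) .L)) (.N (.N .L .L .L) (.N .L .L (.N .L .L .L)) (.N .L .L .L)) (.N (.N .L .L .L) (.N .L (.N .L .L .L) (.N .L .L .L)) (.N (.N .L .L .L) .L .L))) (.N (.N (.N .L (.N .L .L (.N .L .L .L)) (.N .L .L .L)) .L .L) (.N (.N .L (.N .L .L .L) .L) (.N (.N .L .L .L) .L .L) (.N .L .L (.N .L .L .L))) (.N (.N .L .L .L) .L (.N .L .L .L))) (.N (.N .L (.N .L .L .L) (.N .L .L (.N .L .L .L))) (.N (.N (.N .L (.N .L .L .L) .L) .L .L) (.N .L (.N .L .L .L) (.N .L .L .L)) (.N .L .L .L)) (.N (.N .L (.N .L .L .L) (.N .L .L .L)) .L .L))) (.N (.N (.N (.N .L .L .L) (.N .L (.N .L .L .L) (.N .L .L .L)) (.N (.N .L .L .L) .L .L)) (.N (.N .L (.N .L .L .L) .L) (.N .L .L .L) (.N .L .L (.N .L .L .L))) (.N .L (.N .L (.N .L .L .L) (.N .L .L .L)) (.N .L (.N .L .L .L) .L))) (.N (.N (.N .L .L .L) (.N (.N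 .L .L .L) .L .L) .L) (.N (.N (.N .L .L .L) .L .L) .L (.N .L .L (.N .L .L .L))) (.N .L .L (.N .L .L .L))) (.N (.N .L .L .L) .L (.N (.N .L .L (.N .L .L .L)) .L .L))) (.N (.N (.N (.N .L (.N .L .L .L) (.N .L .L .L)) (.N (.N .L .L .L) (.N .L .L .L) (.N .L .L .L)) (.N .L .L .L)) (.N .L .L .L) (.N (.N .L (.N .L .L .L) .L) (.N .L .L .L) (.N (.N .L .L .L) (.N .L .L .L) .L))) (.N (.N (.N .L (.N .L .L .L) .L) .L .L) (.N .L (.N (.N .L .L .L) .L .L) (.N .L .L (.N .L .L .L))) (.N (.N .L (.N .L .L .L) (.N .L .L .L)) .L .L)) (.N (.N (.N (.N .L .L .L) .L (.N .L .L .L)) (.N .L .L .L) (.N .L (.N .L .L .L) .L)) (.N (.N .L .L .L) (.N .L .L .L) .L) .L))) (.N (.N (.N (.N (.N .L .L .L) (.N .L (.N .L .L .L) (.N .L .L .L)) (.N (.N .L .L .L) .L .L)) (.N .L (.N .L .L (.N .L .L .L)) (.N .L .L (.N .L .L .L))) (.N (.N .L .L .L) .L .L)) (.N (.N .L (.N (.N .L (.N .L .L .L) .L) (.N .L .L .L) (.N .L .L .L)) (.N .L (.N .L .L .L) (.N .L .L .L))) (.N .L .L .L) (.N .L .L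 (.N (.N .L .L .L) .L .L))) (.N (.N (.N .L .L (.N .L .L .L)) (.N .L .L .L) (.N (.N .L .L .L) (.N .L .L .L) .L)) (.N .L (.N .L .L (.N .L .L .L)) (.N (.N .L .L .L) .L .L)) (.N (.N (.N .L .L .L) (.N .L .L .L) .L) (.N .L .L .L) .L))) (.N (.N (.N (.N .L (.N .L .L .L) (.N .L .L .L)) (.N .L .L .L) (.N .L .L .L)) (.N (.N .L (.N .L .L .L) .L) (.N .L .L .L) (.N .L .L .L)) (.N (.N .L .L .L) (.N .L .L .L) (.N .L .L .L))) (.N (.N (.N .L .L .L) .L .L) .L (.N .L .L (.N .L .L .L))) (.N .L .L (.N .L .L .L))) (.N (.N .L (.N .L .L .L) (.N (.N .L (.N .L .L .L) .L) (.N .L .L .L) (.N (.N .L .L .L) (.N .L .L .L) .L))) .L (.N (.N .L (.N .L .L .L) (.N .L (.N .L .L (.N .L .L .L)) .L)) .L .L))) (.N (.N (.N (.N .L (.N .L (.N .L .L .L) .L) (.N (.N .L .L .L) .L (.N .L .L .L))) (.N (.N (.N .L .L .L) .L .L) (.N .L .L (.N .L .L .L)) (.N .L .L .L)) (.N (.N .L (.N .L .L .L) .L) (.N .L .L (.N .L .L .L)) (.N .L .L .L))) (.N .L .L .L) (.N (.N .L (.N .L .L .L) .L) (.N .L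 (.N .L (.N .L .L .L) (.N .L .L .L)) (.N .L .L .L)) (.N (.N .L .L .L) (.N .L .L .L) .L))) (.N (.N (.N (.N .L .L .L) (.N .L .L .L) (.N .L .L .L)) .L .L) (.N .L (.N (.N .L .L .L) .L .L) (.N .L .L (.N .L .L .L))) (.N (.N .L (.N .L .L .L) (.N .L .L (.N .L .L .L))) .L .L)) (.N (.N (.N (.N .L .L (.N .L .L .L)) .L (.N .L .L .L)) (.N .L .L .L) (.N .L (.N .L (.N .L .L .L) (.N .L .L .L)) .L)) (.N (.N (.N .L (.N .L .L .L) .L) .L .L) (.N .L (.N .L .L .L) (.N .L .L .L)) .L) .L)))),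
 ([34], (.N (.N (.N (.N (.N (.N (.N (.N .L .L .L) .L .L) (.N .L .L .L) (.N .L .L .L)) (.N .L (.N .L .L (.N .L .L .L)) (.N .L .L .L)) (.N (.N .L .L .L) (.N .L (.N .L .L .L) .L) .L)) (.N (.N .L .L .L) (.N .L .L (.N .L .L .L)) (.N .L .L .L)) (.N (.N .L .L .L) (.N .L (.N .L .L .L) (.N .L .L .L)) (.N (.N .L .L .L) .L .L))) (.N (.N (.N .L (.N .L .L (.N .L .L .L)) (.N .L .L .L)) .L .L) (.N (.N .L (.N .L .L .L) .L) (.N (.N .L .L .L) .L .L) (.N .L .L (.N .L .L .L))) (.N (.N .L .L .L) .L (.N .L .L .L))) (.N (.N .L (.N .L .L .L) (.N .L .L (.N .L .L .L))) (.N (.N (.N .L (.N .L .L .L) .L) .L .L) (.N .L (.N .L .L .L) (.N .L .L .L)) (.N .L .L .L)) (.N (.N .L (.N .L .L .L) (.N .L .L .L)) .L .L))) (.N (.N (.N (.N .L .L .L) (.N .L (.N .L .L .L) (.N .L .L .L)) (.N (.N .L .L .L) .L .L)) (.N (.N .L (.N .L .L .L) .L) (.N .L .L .L) (.N .L .L (.N .L .L .L))) (.N .L (.N .L (.N .L .L .L) (.N .L .L .L)) (.N .L (.N .L .L .L) .L))) (.N (.N (.N .L .L .L) (.N (.N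 .L .L .L) .L .L) .L) (.N (.N (.N .L .L .L) .L .L) .L (.N .L .L (.N .L .L .L))) (.N .L .L (.N .L .L .L))) (.N (.N .L .L .L) .L (.N (.N .L .L (.N .L .L .L)) .L .L))) (.N (.N (.N (.N .L (.N .L .L .L) (.N .L .L .L)) (.N (.N .L .L .L) (.N .L .L .L) (.N .L .L .L)) (.N .L .L .L)) (.N .L .L .L) (.N (.N .L (.N .L .L .L) .L) (.N .L .L .L) (.N (.N .L .L .L) (.N .L .L .L) .L))) (.N (.N (.N .L (.N .L .L .L) .L) .L .L) (.N .L (.N (.N .L .L .L) .L .L) (.N .L .L (.N .L .L .L))) (.N (.N .L (.N .L .L .L) (.N .L .L .L)) .L .L)) (.N (.N (.N (.N .L .L .L) .L (.N .L .L .L)) (.N .L .L .L) (.N .L (.N .L .L .L) .L)) (.N (.N .L .L .L) (.N .L .L .L) .L) .L))) (.N (.N (.N (.N (.N .L .L .L) (.N .L (.N .L .L .L) (.N .L .L .L)) (.N (.N .L .L .L) .L .L)) (.N .L (.N .L .L (.N .L .L .L)) (.N .L .L (.N .L .L .L))) (.N (.N .L .L .L) .L .L)) (.N (.N .L (.N (.N .L (.N .L .L .L) .L) (.N .L .L .L) (.N .L .L .L)) (.N .L (.N .L .L .L) (.N .L .L .L))) (.N .L .L .L) (.N .L .L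 (.N (.N .L .L .L) .L .L))) (.N (.N (.N .L .L (.N .L .L .L)) (.N .L .L .L) (.N (.N .L .L .L) (.N .L .L .L) .L)) (.N .L (.N .L .L (.N .L .L .L)) (.N (.N .L .L .L) .L .L)) (.N (.N (.N .L .L .L) (.N .L .L .L) .L) (.N .L .L .L) .L))) (.N (.N (.N (.N .L (.N .L .L .L) (.N .L .L .L)) (.N .L .L .L) (.N .L .L .L)) (.N (.N .L (.N .L .L .L) .L) (.N .L .L .L) (.N .L .L .L)) (.N (.N .L .L .L) (.N .L .L .L) (.N .L .L .L))) (.N (.N (.N .L .L .L) .L .L) .L (.N .L .L (.N .L .L .L))) (.N .L .L (.N .L .L .L))) (.N (.N .L (.N .L .L .L) (.N (.N .L (.N .L .L .L) .L) (.N .L .L .L) (.N (.N .L .L .L) (.N .L .L .L) .L))) .L (.N (.N .L (.N .L .L .L) (.N .L (.N .L .L (.N .L .L .L)) .L)) .L .L))) (.N (.N (.N (.N .L (.N .L (.N .L .L .L) .L) (.N (.N .L .L .L) .L (.N .L .L .L))) (.N (.N (.N .L .L .L) .L .L) (.N .L .L (.N .L .L .L)) (.N .L .L .L)) (.N (.N .L (.N .L .L .L) .L) (.N .L .L (.N .L .L .L)) (.N .L .L .L))) (.N .L .L .L) (.N (.N .L (.N .L .L .L) .L) (.N .L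 (.N .L (.N .L .L .L) (.N .L .L .L)) (.N .L .L .L)) (.N (.N .L .L .L) (.N .L .L .L) .L))) (.N (.N (.N (.N .L .L .L) (.N .L .L .L) (.N .L .L .L)) .L .L) (.N .L (.N (.N .L .L .L) .L .L) (.N .L .L (.N .L .L .L))) (.N (.N .L (.N .L .L .L) (.N .L .L (.N .L .L .L))) .L .L)) (.N (.N (.N (.N .L .L (.N .L .L .L)) .L (.N .L .L .L)) (.N .L .L .L) (.N .L (.N .L (.N .L .L .L) (.N .L .L .L)) .L)) (.N (.N (.N .L (.N .L .L .L) .L) .L .L) (.N .L (.N .L .L .L) (.N .L .L .L)) .L) .L))))]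

theorem N_for : Nat.ble 2016 (pc 19 (forestM 2048 291211 ns [138] [140] [142] F0 N_reps)) = true :=
  by decide +kernel

noncomputable def N_es : List (List (List ℕ × List ℕ)) :=
  [[], [],
 [([52], [5, 5, 7, 1, 7, 3, 3]), ([74], [3, 4, 9, 4, 6, 3, 9, 2]), ([76], [9, 5, 7, 10, 7, 4, 11, 9])],
 [([52], [2, 5, 2, 7, 2, 5, 3, 7]), ([74], [3, 6, 8, 3, 6, 3, 3]), ([76], [4, 7, 11, 4, 4, 10, 9, 4])],
 [([52], [0, 0, 3, 7, 2, 5, 2, 0]), ([74], [5, 6, 5, 6, 6, 5, 9, 7, 2]), ([76], [7, 9, 7, 7, 9, 5, 5, 9, 5])],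
 [([52], [1, 4, 1, 2, 6, 4, 3, 4]), ([74], [8, 2, 8, 8, 6, 2]), ([76], [8, 8, 10, 6, 11, 4, 10])],
 [([52], [2, 5, 1, 6, 3, 4, 1]), ([74], [4, 8, 8, 4, 7, 3, 3]), ([76], [7, 11, 5, 11, 9, 5])],
 [([52], [1, 2, 2, 4, 7, 3, 5, 1]), ([74], [2, 2, 4, 8, 5, 8, 6, 6]), ([76], [11, 11, 7, 11, 11, 5, 10, 9, 4])],
 [([52], [0, 4, 0, 5, 2, 2, 0]), ([74], [6, 2, 4, 8, 6, 5, 3]), ([76], [7, 10, 5, 6, 10, 6, 10])],
 [([52], [1, 1, 2, 6, 0, 7, 2, 1]), ([74], [3, 6, 9, 3, 5, 7, 2, 7]), ([76], [5, 8, 6, 8, 6, 8, 8, 7, 4])],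
 [([52], [6, 0, 7, 2, 2, 0, 0]), ([74], [7, 4, 9, 2, 6, 6, 5, 5]), ([76], [11, 5, 6, 11, 6, 11, 7])],
 [([52], [4, 1, 6, 1, 1, 6]), ([74], [5, 7, 8, 2, 9, 9, 5]), ([76], [4, 9, 6, 10, 7, 8, 8, 4])],
 [([52], [4, 7, 1, 1, 7, 3, 6, 2]), ([74], [2, 7, 8, 3, 3, 6, 3, 9]), ([76], [4, 7, 8, 6, 8, 6, 10, 5])],
 [([52], [2, 2, 4, 2, 4, 2, 0, 4, 0]), ([74], [7, 3, 7, 7, 3, 8, 4, 7]), ([76], [4, 4, 9, 6, 9, 6, 6, 9, 9])],
 [([52], [3, 6, 2, 1, 1, 6, 2]), ([74], [2, 2, 9, 9, 2, 7, 2, 8]), ([76], [10, 6, 6, 9, 6, 10, 9, 6, 6])],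
 [([52], [0, 2, 5, 3, 7, 0]), ([74], [2, 9, 9, 4, 7, 2, 7]), ([76], [6, 11, 6, 6, 11, 4, 11, 6, 6])],
 [([52], [7, 1, 4, 3, 7, 5, 5]), ([74], [6, 6, 2, 5, 9, 2, 8]), ([76], [4, 6, 8, 7, 11, 11, 6, 10])],
 [([52], [2, 6, 1, 7, 2, 1, 1]), ([74], [2, 7, 2, 7, 5, 9, 2]), ([76], [9, 11, 4, 9, 6, 11, 8, 6, 9])]]

noncomputable def curW : List ℕ → List (List ℕ) :=
  fun u => [[134], [136], appendR u (appendR [134] (invW u)), appendR u (appendR [136] (invW u))]

theorem N_slp2 : allFrom 2 5 (fun j => slp 2048 11 ns (getL [] N_es j) (curW (getL ([], .L) N_reps j).1) [[52], [74], [76]]) = true :=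
  by decide +kernel

theorem N_slp7 : allFrom 7 5 (fun j => slp 2048 11 ns (getL [] N_es j) (curW (getL ([], .L) N_reps j).1) [[52], [74], [76]]) = true :=
  by decide +kernel

theorem N_slp12 : allFrom 12 6 (fun j => slp 2048 11 ns (getL [] N_es j) (curW (getL ([], .L) N_reps j).1) [[52], [74], [76]]) = true :=
  by decide +kernel

noncomputable def l6 : List ℕ :=
  [nat_lit 0x200080000005820000004000000000010000000000000000000000000000000000000000000000000000000000000000000100000000000000000000000000020000000600000000000004000000000000000000000000000000000000000000000000000002000002000000000000000000000000000000000000000000,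
 nat_lit 0x200000000000020080400000800000004000000000010000000000000000000000000000000000000000000000000000000000000000802010000000000000000000000000000004000000000000000000002000000000000000000000000000008000000000000000001002000000000000000000000000000000000000000000000000,
 nat_lit 0x80000000000000000000000000000000000000000000000000000000000000000000000000000000000000000000000000000000000000000000000000000000010000000000000001000080000200840000004000020000110000000000000000000000000000000000000000000000000000000000000000008000000000000000000000000000000000000000000000000000000000000000000000000000000000000000000000100010000002000000000000000000000000000000000000000000000000,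
 nat_lit 0x100000000000000000000000000000000000000000000000000000000000000000000000000000000000000000000000000000000000000000000000000000000000000000000080200000084001000802000004000000000010000000000000000000000000000000000000000000000000100000000000000000000000000000000000000000000000000000000000000400002000000000000000000000000000000000004000000000000000002000000000000000000000000000000000000000000000000,
 nat_lit 0x8000000000000000000000000000000000000000000004000000000000000000000000000000000000000000000000000000000000000000000000000000000000000000000000000000000000000000000000000000000000000000000001000010080000000800000004000000000010000000000000000000000000000000000000000000000000000000000000000200000040000000000000001000000000000000000000000000080000000000000000000000000000080000000000000000020000002000000000000000000000000000000000000000000000000,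
 nat_lit 0x40000080000000800000004000000000410000000000000000000000000000000000000000000001000000000000000000000000000000000000000000000000004000010000000000000001008000000000000000000000040000000008000004000000000002000000000000000000000000000000000000000000000000]

noncomputable def l10 : List ℕ :=
  [nat_lit 0x4000000000000000000000000000000000000000000000000000000000000000000000000000000100000000000000800000000000000000000000000000000000000000000000400000000000001020000000000000000000000000000000000000000000000000000000000000000000000000000000000000204000000000000000000000000020000000600001000000000000000000000000000000000100000000000800800000000000000000000000000000000000000000000000000000000000000,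
 nat_lit 0x200000000000000000000000000000000000000000000000000000000000000000000000000000000000002000000200000000000000000000000000000000000000000000400000000000000001020000000000000000000000000000000000000000000000000000000000000000000000000000000000000001080000000000000000010010020000000600000000000000000000000000000000000000000000000000010002000000000000000000000000000000000000000000000000000000000000,
 nat_lit 0x20000000000000000000020000301000400000000000000000000000000000000000000000000000000000000000000010000000000000000000000012000000000000000000000000000000000000000000000000c000000000000000000000000000000000002040000000000000001000002000000000000000000000000000000000000000000,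
 nat_lit 0x8000000000000000000000000000000000000000000000000000000000000000000000000000000000000000000000000000000000000000000000000000000000000000000000000200000000004400000000000000000000000000000000000000000000000000000000000000000000000000000000000040100000000000000000000000000002000000000000800000044401000000000000000000000000000000000002000020000000000000002000000000000000000000000000000000000000000,
 nat_lit 0x1000000000000000000000000000000000000000000000000000000000000000000000000000000000000000000000000000000000000000000000000000000008000900000000000200000002004008000000000008000000000000000000000000000000000000000000000000000000000000000000000001100000000000000000000000000000000000000000000000004000000000000000000000000000000000000000040000100000000000002000000000000000000000000000000000000000000,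
 nat_lit 0x200000200000088024001000000000000000008000000000000000000000000000000000000000000000000000000000000000000100400000000000000040000000000000000000000000000004000000000000000000000000000000100000000000000000000040000002000000000000000000000000000000000000000000,
 nat_lit 0x400080000010b0000000200000000020000000000000000000000000000000000000000000000000000000000000000020000000000000000000000000000020000000600000000000100000000000000000000000000000000000000000000000000000000000000400000400000000000000000000000000000000000,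
 nat_lit 0x4006002000000001020000000000000001000000000000000000000000000000000000000000000004008000000000000000410000000000000000000000000000020000000600000000000020000000000000000000000000000000000000000000000000000000000000000000000000000000000000000000000000000000,
 nat_lit 0x10000000000000000000000000000000000000000000008240000000000000000000000000000000000000000000000000000000000000000000000000000000000000100000000000000000000000000000000000000000000000000000000080200000000004000000000000000000800000000000000000000000000000000000000000000000000000000000000000000100200000000000000000000000000000000000000000000004000000000000000000000000000000080000000000000000400000000002000000000000000000000000000000000000000000,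
 nat_lit 0x1020000000000000002000000000000000000000000000000000000000000000000000000000000000000000000000000000000000000000000020041000600000000000400000000000000000000000000001010000000000000000086020000000000000000000000000000000000000000000000000000]

noncomputable def gs : List ℕ :=
  [37, 25]

theorem Y_cl : and' (closedB ns nws (appendR l6 l10)) (and' (memB l6 F0) (memB (appendR l6 l10) (imW ns gs F0))) = true :=
  by decide +kernel

theorem Y_out : allL l10 (fun x => anyL [[4]] fun v => outB 2048 (appendR l6 l10) (imW ns (subW (curW gs) v) x)) = true :=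
  by decide +kernel

theorem Y_mv : outB 2048 l6 (imW ns (appendR [138] (subW (curW gs) [4])) F0) = true :=
  by decide +kernel

theorem knH_1 : Known ns (gen ns (sTop A_S1)) 135107988888223616 :=
  knH_0.steps ctx (es := [(53, [19, 37, 18, 27, 50, 34, 30, 42, 36, 45, 50]),
 (54, [19, 36, 18, 40, 27, 30, 38, 36, 50]),
 (55, [20, 32, 16, 22, 34, 30, 36, 40, 45]),
 (56, [17, 34, 25, 31, 32, 30, 37, 40, 44, 48, 50])]) (by decide +kernel)

theorem JkG_1 : Known ns (gen ns (sTop A_S2)) 4574793093229922220032 :=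
  JkG_0.steps ctx (es := [(67, [60, 57, 68, 58, 66, 69, 72]),
 (68, [57, 66, 62, 66, 68]),
 (69, [68, 48, 60, 70, 66, 69, 72]),
 (70, [66, 56, 28, 67, 60, 71, 71, 66]),
 (71, [67, 28, 63, 64, 73, 68, 72])]) (by decide +kernel)

theorem KH : Known ns (gen ns (sTop A_S1)) 135107988888223616 :=
  knH_1

theorem KJ : Known ns (gen ns (sTop A_S2)) 4574793093229922220032 :=
  JkG_1

theorem N_in : and' (allL nws (inK 4574793093229922220032)) (and' (allL P_ss0 (inK 4574793093229922220032)) (allL N_reps fun r => inK 4574793093229922220032 r.1)) = true :=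
  by decide +kernel

theorem U_in : allL U_ss0 (inK 135107988888223616) = true :=
  by decide +kernel

end Cfsg.Agent.R3.Suz
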